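import Cfsg.Agent.FGSB.FrobeniusRoots
import Cfsg.Agent.Coprime.Generation
import Cfsg.Agent.Solvable.Fitting
import Cfsg.Agent.Comp.Fitting
import Cfsg.Agent.Char.Burnside

/-!
Auxiliary facts on groups of order `2 ^ a * r ^ b`.
-/

set_option autoImplicit false
set_option linter.unusedSectionVars false
set_option linter.style.haveILetI false

namespace CfsgLib.ThreeCC.Grp

open Subgroup

universe u

variable {H : Type u} [Group H] [Finite H]

theorem isSolvable_of_primes {r : ℕ} (hr : r.Prime)
    (hH : ∀ p : ℕ, p.Prime → p ∣ Nat.card H → p = 2 ∨ p = r) : Group.IsSolvable H := by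
  classical
  obtain ⟨a, b, hab⟩ : ∃ a b : ℕ, Nat.card H = 2 ^ a * r ^ b := by
    have key : ∀ n : ℕ, n ≠ 0 → (∀ p, p.Prime → p ∣ n → p = 2 ∨ p = r) →
        ∃ a b, n = 2 ^ a * r ^ b := by
      intro n
      induction n using Nat.recOnMul with
      | zero => exact fun h => absurd rfl h
      | one => exact fun _ _ => ⟨0, 0, by simp⟩
      | prime p hp =>
        intro _ h
        rcases h p hp dvd_rfl with rfl | rfl
        · exact ⟨1, 0, by simp⟩
        · exact ⟨0, 1, by simp⟩
      | mul x y hx hy =>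
        intro h0 h
        obtain ⟨x0, y0⟩ := mul_ne_zero_iff.1 h0
        obtain ⟨a, b, e1⟩ := hx x0 fun p hp hd => h p hp (hd.mul_right y)
        obtain ⟨a', b', e2⟩ := hy y0 fun p hp hd => h p hp (hd.mul_left x)
        exact ⟨a + a', b + b', by rw [e1, e2, pow_add, pow_add]; ring⟩
    exact key _ Nat.card_pos.ne' hH
  exact CfsgLib.Char.isSolvable_of_card_eq 2 r a b Nat.prime_two hr hab

/-- An abelian Sylow subgroup centralising `O₂` is normal. -/
theorem sylow_normal {r : ℕ} [hr : Fact r.Prime]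
    (hH : ∀ p : ℕ, p.Prime → p ∣ Nat.card H → p = 2 ∨ p = r) (P : Sylow r H)
    (hab : ∀ x ∈ (P : Subgroup H), ∀ y ∈ (P : Subgroup H), x * y = y * x)
    (hV : ∀ D : Subgroup H, D.Normal → IsPGroup 2 D → ∀ x ∈ D, ∀ y ∈ (P : Subgroup H), x * y = y * x) :
    (P : Subgroup H).Normal := by
  haveI := isSolvable_of_primes hr.out hH
  haveI : Fact (Nat.Prime 2) := ⟨Nat.prime_two⟩
  set F := Cfsg.fittingSubgroup H
  have hFC : F ≤ centralizer ((P : Subgroup H) : Set H) := by
    rw [show F = _ from CfsgLib.Comp.fitting_eq_iSup_pCore]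
    refine iSup_le fun p => fun x hx => mem_centralizer_iff.2 fun y hy => ?_
    haveI : Fact (p : ℕ).Prime := ⟨Nat.prime_of_mem_primeFactors p.2⟩
    rcases hH p (Nat.prime_of_mem_primeFactors p.2) (Nat.dvd_of_mem_primeFactors p.2) with e | e
    · exact (hV _ inferInstance (e ▸ CfsgLib.Comp.pCore_isPGroup' (G := H) (p : ℕ)) x hx y hy).symm
    · rw [e] at hx
      exact hab y hy x (CfsgLib.Fitting.pCore_le_sylow P hx)
  have hPF : (P : Subgroup H) ≤ F :=
    le_trans (Subgroup.le_centralizer_iff.1 hFC)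
      (CfsgLib.Fitting.centralizer_fittingSubgroup_le_of_solvable)
  haveI hFn : Group.IsNilpotent F := CfsgLib.Comp.fitting_isNilpotent
  have hn : ((P.subtype hPF : Sylow r F) : Subgroup F).Normal :=
    Sylow.normal_of_normalizerCondition Group.normalizerCondition_of_isNilpotent _
  haveI : ((P.subtype hPF : Sylow r F) : Subgroup F).Characteristic :=
    Sylow.characteristic_of_normal _ hn
  have h2 : (((P.subtype hPF : Sylow r F) : Subgroup F).map F.subtype).Normal := inferInstance
  rwa [show (((P.subtype hPF : Sylow r F) : Subgroup F).map F.subtype) = (P : Subgroup H) by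
    rw [Sylow.coe_subtype, Subgroup.subgroupOf_map_subtype, inf_eq_left.2 hPF]] at h2

/-- A group of even order has an odd number of involutions. -/
theorem odd_involutions (h : 2 ∣ Nat.card H) : Odd (Nat.card {x : H // orderOf x = 2}) := by
  classical
  haveI := Fintype.ofFinite H
  have h2 := CfsgLib.FrobRoots.gcd_dvd_card_pow_eq_one H 2
  rw [Nat.gcd_eq_left h] at h2
  have e : Nat.card {x : H // x ^ 2 = 1} = Nat.card {x : H // orderOf x = 2} + 1 := by
    rw [Nat.card_eq_fintype_card, Nat.card_eq_fintype_card, Fintype.card_subtype, Fintype.card_subtype]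
    have : (Finset.univ.filter fun x : H => x ^ 2 = 1) =
        insert 1 (Finset.univ.filter fun x : H => orderOf x = 2) := by
      ext x
      simp only [Finset.mem_filter, Finset.mem_univ, true_and, Finset.mem_insert, orderOf_eq_prime_iff]
      by_cases hx : x = 1 <;> simp [hx]
    rw [this, Finset.card_insert_of_notMem (by simp)]
  rw [e] at h2
  exact Nat.odd_iff.2 (by omega)

/-- Fusion in an abelian Sylow subgroup. -/
theorem exists_normalizer_conj {p : ℕ} [Fact p.Prime] (P : Sylow p H)
    (hab : ∀ x ∈ (P : Subgroup H), ∀ y ∈ (P : Subgroup H), x * y = y * x) {x y : H}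
    (hx : x ∈ (P : Subgroup H)) (hy : y ∈ (P : Subgroup H)) (h : IsConj x y) :
    ∃ n ∈ normalizer ((P : Subgroup H) : Set H), n * x * n⁻¹ = y := by
  haveI : IsMulCommutative (P : Subgroup H) :=
    ⟨⟨fun a b => Subtype.ext (hab a a.2 b b.2)⟩⟩
  obtain ⟨g, hg⟩ := isConj_iff.1 h
  obtain ⟨n, hn, he⟩ := P.conj_eq_normalizer_conj_of_mem x g⁻¹ hx (by rw [inv_inv, hg]; exact hy)
  rw [inv_inv, hg] at he
  exact ⟨n⁻¹, inv_mem hn, by rw [inv_inv]; exact he.symm⟩

/-- The size of an orbit of the normaliser of an abelian Sylow subgroup divides a number prime to `p`. -/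
theorem orbit_dvd {p : ℕ} [Fact p.Prime] (P : Sylow p H)
    (hab : ∀ x ∈ (P : Subgroup H), ∀ y ∈ (P : Subgroup H), x * y = y * x) {x : H}
    (hx : x ∈ (P : Subgroup H)) :
    Nat.card {y : H // y ∈ (P : Subgroup H) ∧ IsConj x y} ∣ (P : Subgroup H).index := by
  set N := normalizer ((P : Subgroup H) : Set H)
  have hPN : (P : Subgroup H) ≤ centralizer ({x} : Set H) ⊓ N := le_inf
    (fun y hy => mem_centralizer_singleton_iff.2 (hab y hy x hx)) Subgroup.le_normalizer
  have hcard : Nat.card {y : H // y ∈ (P : Subgroup H) ∧ IsConj x y} =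
      (centralizer ({x} : Set H)).relIndex N := by
    rw [Subgroup.relIndex, Subgroup.index_eq_card]
    refine (Nat.card_congr (Equiv.ofBijective (Quotient.lift
      (fun n : N => (⟨n * x * (n : H)⁻¹, (Subgroup.mem_normalizer_iff.1 n.2 x).1 hx,
        isConj_iff.2 ⟨n, rfl⟩⟩ : {y : H // y ∈ (P : Subgroup H) ∧ IsConj x y})) ?_) ⟨?_, ?_⟩)).symm
    · intro m n hmn
      replace hmn := QuotientGroup.leftRel_apply.1 hmn
      rw [Subgroup.mem_subgroupOf, Subgroup.mem_centralizer_singleton_iff] at hmn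
      apply Subtype.ext
      simp only [Subgroup.coe_mul, Subgroup.coe_inv] at hmn
      calc (m : H) * x * (m : H)⁻¹ = m * (x * ((m : H)⁻¹ * n)) * (n : H)⁻¹ := by group
        _ = _ := by rw [← hmn]; group
    · intro a b
      induction a using Quotient.inductionOn with
      | _ m =>
      induction b using Quotient.inductionOn with
      | _ n =>
      intro h
      have h' : (m : H) * x * (m : H)⁻¹ = n * x * (n : H)⁻¹ := congrArg Subtype.val h
      refine Quotient.sound ?_
      show QuotientGroup.leftRel _ m n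
      rw [QuotientGroup.leftRel_apply, Subgroup.mem_subgroupOf, Subgroup.mem_centralizer_singleton_iff]
      simp only [Subgroup.coe_mul, Subgroup.coe_inv]
      calc (m : H)⁻¹ * n * x = (m : H)⁻¹ * (n * x * (n : H)⁻¹) * n := by group
        _ = _ := by rw [← h']; group
    · rintro ⟨y, hy, hxy⟩
      obtain ⟨n, hn, rfl⟩ := exists_normalizer_conj P hab hx hy hxy
      exact ⟨Quotient.mk _ ⟨n, hn⟩, rfl⟩
  rw [hcard, ← Subgroup.inf_relIndex_right]
  exact dvd_trans (Dvd.intro_left _ (Subgroup.relIndex_mul_relIndex _ _ _ hPN inf_le_right))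
    (Subgroup.relIndex_dvd_index_of_le Subgroup.le_normalizer)

/-- A noncyclic abelian `r`-subgroup, all of whose nontrivial elements have centralisers in `V`
inside `Z`, has `V ≤ Z` for a solvable normalised `V` of coprime order. -/
theorem le_of_centralizers {K V Z : Subgroup H} [Group.IsSolvable V]
    (hK : ∀ x ∈ K, ∀ y ∈ K, x * y = y * x) (hnc : ¬ IsCyclic K) (hKV : ∀ k ∈ K, ∀ v ∈ V, k * v * k⁻¹ ∈ V)
    (hcop : (Nat.card K).Coprime (Nat.card V))
    (hZ : ∀ k ∈ K, k ≠ 1 → ∀ v ∈ V, k * v = v * k → v ∈ Z) : V ≤ Z := by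
  letI : CommGroup K := { (inferInstance : Group K) with
    mul_comm := fun a b => Subtype.ext (hK a a.2 b b.2) }
  letI : MulDistribMulAction K V :=
    { smul := fun k v => ⟨k * v * (k : H)⁻¹, hKV k k.2 v v.2⟩
      one_smul := fun v => Subtype.ext (by change (1 : H) * v * (1 : H)⁻¹ = v; group)
      mul_smul := fun a b v => Subtype.ext (by
        change ((a : H) * b) * v * ((a : H) * b)⁻¹ = a * ((b : H) * v * (b : H)⁻¹) * (a : H)⁻¹
        group)
      smul_mul := fun k v w => Subtype.ext (by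
        change (k : H) * (v * w) * (k : H)⁻¹ = (k : H) * v * (k : H)⁻¹ * ((k : H) * w * (k : H)⁻¹)
        group)
      smul_one := fun k => Subtype.ext (by change (k : H) * 1 * (k : H)⁻¹ = 1; group) }
  have h := CfsgLib.Coprime.closure_fixed_eq_top (G := V) (A := K) hnc hcop
  intro v hv
  have hv' : (⟨v, hv⟩ : V) ∈ Z.subgroupOf V := by
    have : Subgroup.closure {g : V | ∃ a : K, a ≠ 1 ∧ a • g = g} ≤ Z.subgroupOf V := by
      rw [Subgroup.closure_le]
      rintro g ⟨a, ha, hfix⟩
      refine Subgroup.mem_subgroupOf.2 (hZ a a.2 (fun e => ha (Subtype.ext e)) g g.2 ?_)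
      exact mul_inv_eq_iff_eq_mul.1 (congrArg Subtype.val hfix)
    exact this (h ▸ Subgroup.mem_top _)
  exact Subgroup.mem_subgroupOf.1 hv'

end CfsgLib.ThreeCC.Grp
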