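import Cfsg.Agent.ThreeCC.Setup
import Cfsg.Agent.Char.ClassProducts
import Cfsg.Agent.Char.Burnside
import Cfsg.Agent.Char.Galois

/-!
Products of two involutions lying in `A₁`: one class of involutions and the basic equation.
-/

set_option autoImplicit false
set_option linter.unusedSectionVars false
set_option linter.style.haveILetI false

namespace CfsgLib.ThreeCC

open CfsgLib.Char
open scoped ComplexConjugate Classical

universe u

variable {G : Type u} [Group G] [Fintype G]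

/-- An irreducible character of a nonabelian simple group other than the principal one takes no
value equal to its degree away from `1`. -/
theorem apply_ne_degree [IsSimpleGroup G] (hna : ¬ ∀ a b : G, a * b = b * a) {ψ : G → ℂ}
    (hψ : Cfsg.IsIrrCharacter G ψ) (hψ1 : ψ ≠ fun _ => (1 : ℂ)) {g : G} (hg : g ≠ 1) :
    ψ g ≠ ψ 1 := by
  obtain ⟨n, ρ, hirr, rfl⟩ := hψ
  haveI := hirr
  intro h
  refine hψ1 (eq_one_of_norm_eq_of_simple hna ρ hg ?_)
  rw [h, Representation.char_one, Complex.norm_natCast]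

theorem involution_int {t : G} (ht : t * t = 1) {ψ : G → ℂ} (hψ : Cfsg.IsCharacter G ψ)
    (hG : 2 ∣ Nat.card G) : ∃ z : ℤ, ψ t = z := by
  refine IsCharacter.exists_int_apply hψ fun s hs => ?_
  have hodd : ¬ 2 ∣ s := fun h => Nat.not_coprime_of_dvd_of_dvd (by norm_num) h hG hs
  obtain ⟨r, rfl⟩ : ∃ r, s = 2 * r + 1 := ⟨s / 2, by omega⟩
  rw [pow_succ, pow_mul, pow_two, ht, one_pow, one_mul]

namespace Sys

variable {A₁ A₂ A₃ : Subgroup G} (S : Sys A₁ A₂ A₃)

/-- The degree of `χ`. -/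
noncomputable def y : ℕ := (IsIrrCharacter.exists_degree S.χ_irr).choose

theorem y_pos : 0 < S.y := (IsIrrCharacter.exists_degree S.χ_irr).choose_spec.1

theorem χ_one : S.χ 1 = (S.y : ℂ) := (IsIrrCharacter.exists_degree S.χ_irr).choose_spec.2

/-- The signed degree of the first family. -/
noncomputable def X : ℤ := 1 + S.δ * S.y

theorem q1_one : S.q1 1 = (S.X : ℂ) := by
  rw [S.q1_eq (Or.inr rfl), S.χ_one]; simp [X]

theorem com_one_X : (S.F1.ε : ℂ) * S.F1.com 1 = (S.X : ℂ) := S.q1_one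

theorem X_ne : S.X ≠ 0 := by
  intro h
  have h1 := S.q1_one
  rw [h, q1, Int.cast_zero, mul_eq_zero] at h1
  rcases h1 with h1 | h1
  · rcases S.F1.hε with e | e <;> rw [e] at h1 <;> norm_num at h1
  · exact IsIrrCharacter.apply_one_ne_zero (S.F1.irr _) h1

/-- The class sum at an element of `A₁`. -/
theorem sum_pairs {u v a : G} (ha : a ∈ A₁) (ha1 : a ≠ 1) (hu : ¬ InConj A₁ u)
    (hv : ¬ InConj A₁ v) :
    ∑ ψ ∈ irrFinset G, ψ u * ψ v * conj (ψ a) / ψ 1 =
      (S.δ : ℂ) * ((S.y : ℂ) - S.χ u) * ((S.y : ℂ) - S.χ v) / (S.y * S.X) := by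
  have hy : (S.y : ℂ) ≠ 0 := by exact_mod_cast S.y_pos.ne'
  have hX : (S.X : ℂ) ≠ 0 := by exact_mod_cast S.X_ne
  rw [S.F1.sum_split, ← Finset.add_sum_erase _ _ S.F1.one_mem_rest,
    Finset.sum_eq_single (a := S.χ) (fun ψ hψ hne => by
      rw [S.F1.cst_spec (Finset.mem_of_mem_erase hψ) ha ha1,
        S.cst_zero ψ (Finset.mem_of_mem_erase hψ) (Finset.ne_of_mem_erase hψ) hne]; simp)
      (fun hn => absurd (Finset.mem_erase.2 ⟨S.χ_ne, S.χ_mem⟩) hn)]
  rw [S.F1.cst_spec S.χ_mem ha ha1, S.χ_cst, S.χ_one]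
  have h1 : ∀ q, S.F1.θ q u * S.F1.θ q v * conj (S.F1.θ q a) / S.F1.θ q 1 =
      S.F1.com u * S.F1.com v / S.F1.com 1 * conj (S.F1.θ q a) := fun q => by
    rw [S.F1.com_eq hu, S.F1.com_eq hv, S.F1.com_one]; ring
  rw [Finset.sum_congr rfl fun q _ => h1 q, ← Finset.mul_sum, ← map_sum, S.F1.sum_θ ha ha1, S.e1]
  simp only [Int.cast_zero, mul_zero, zero_sub, map_neg, map_intCast, map_one, mul_one, div_one]
  have hcu := S.q1_eq (Or.inl hu)
  have hcv := S.q1_eq (Or.inl hv)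
  have hc1 := S.com_one_X
  simp only [q1] at hcu hcv
  have hε : (S.F1.ε : ℂ) * S.F1.ε = 1 := by rcases S.F1.hε with e | e <;> simp [e]
  have hcom : S.F1.com 1 = S.F1.ε * S.X := by linear_combination S.F1.ε * hc1 - S.F1.com 1 * hε
  have hε0 : (S.F1.ε : ℂ) ≠ 0 := fun h => by rw [h, zero_mul] at hε; exact zero_ne_one hε
  have hmul : S.F1.com u * S.F1.com v * (S.F1.ε * S.F1.ε) =
      (1 + S.δ * S.χ u) * (1 + S.δ * S.χ v) := by rw [← hcu, ← hcv]; ring
  rw [hε, mul_one] at hmul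
  rw [hcom, hmul]
  have hXd : (S.X : ℂ) = 1 + S.δ * S.y := by simp [X]
  have hδ := S.δ_sq
  field_simp
  rw [hXd]
  linear_combination (S.χ u * S.χ v * S.y - S.χ u * S.χ v * S.y) * hδ

variable [IsSimpleGroup G]

theorem card_sdiff {u : G} (F : Frame A₁ 2 u) :
    Nat.card {x : G // x ∈ Subgroup.normalizer (A₁ : Set G) ∧ x ∉ A₁} = Nat.card A₁ := by
  refine Nat.card_congr
    { toFun := fun x => ⟨u⁻¹ * x.1, by
        obtain ⟨i, hi, hmem⟩ := F.cover _ x.2.1
        rcases (by omega : i = 0 ∨ i = 1) with rfl | rfl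
        · exact absurd (by simpa using hmem) x.2.2
        · simpa using hmem⟩
      invFun := fun a => ⟨u * a.1, mul_mem F.mem (Subgroup.le_normalizer a.2), fun h =>
        (by simpa using F.pow_mem 1 : u ∉ A₁) ((A₁.mul_mem_cancel_right a.2).1 h)⟩
      left_inv := fun x => Subtype.ext (by simp)
      right_inv := fun a => Subtype.ext (by simp) }

/-- One class of involutions, and the basic equation. -/
theorem involutions (hna : ¬ ∀ a b : G, a * b = b * a) :
    ∃ t : G, orderOf t = 2 ∧ (∀ v : G, orderOf v = 2 → IsConj t v) ∧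
      ∃ a : ℤ, S.χ t = a ∧
        (Nat.card A₁ : ℤ) * (Nat.card (Subgroup.centralizer ({t} : Set G)) : ℤ) ^ 2 * S.y * (S.δ * S.X) =
          (Nat.card G : ℤ) * ((S.y : ℤ) - a) ^ 2 := by
  obtain ⟨u, F⟩ := S.hyp.f1
  obtain ⟨a, ha, ha1⟩ := S.F1.exists_elem
  have huA : u ∉ A₁ := by simpa using F.pow_mem 1
  have hodd := S.hyp.odd1
  have huu : u * u = 1 := F.sq_eq_one F.mem huA
  have hout : ∀ v : G, orderOf v = 2 → ¬ InConj A₁ v := fun v hv h => by
    have h2 := S.hyp.c1.orderOf_dvd h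
    rw [hv] at h2
    exact Nat.not_even_iff_odd.2 hodd (even_iff_two_dvd.2 h2)
  have ho : ∀ x : G, x ∈ Subgroup.normalizer (A₁ : Set G) → x ∉ A₁ → orderOf x = 2 ∧ IsConj u x := by
    intro x hx hxA
    refine ⟨orderOf_eq_prime (by rw [pow_two]; exact F.sq_eq_one hx hxA)
      fun e => hxA (e ▸ one_mem _), ?_⟩
    obtain ⟨i, hi, hmem⟩ := F.cover _ hx
    obtain rfl : i = 1 := by
      rcases (by omega : i = 0 ∨ i = 1) with rfl | rfl
      · exact absurd (by simpa using hmem) hxA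
      · rfl
    rw [pow_one] at hmem
    obtain ⟨b, hb⟩ := (Finite.injective_iff_surjective.1
      (powCoprime (G := A₁) (n := 2) (Nat.Coprime.symm (Nat.coprime_two_left.2 hodd))).injective)
      ⟨u⁻¹ * x, hmem⟩
    refine isConj_iff.2 ⟨(b : G)⁻¹, ?_⟩
    have hb' : (b : G) * b = u⁻¹ * x := by
      have := congrArg Subtype.val hb
      simpa [powCoprime, pow_two] using this
    have hub : u * (b : G)⁻¹ * u⁻¹ = b := by
      have := F.half_inverts dvd_rfl (inv_mem b.2)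
      simpa using this
    calc (b : G)⁻¹ * u * (b : G)⁻¹⁻¹ = u * ((u⁻¹ * (b : G)⁻¹ * u) * b) := by group
      _ = x := by
        have hinv : u⁻¹ = u := inv_eq_of_mul_eq_one_right huu
        rw [show u⁻¹ * (b : G)⁻¹ * u = u * (b : G)⁻¹ * u⁻¹ by rw [hinv], hub, hb', mul_inv_cancel_left]
  set t := u with ht
  have ht2 := (ho u F.mem huA).1
  have hG : 2 ∣ Nat.card G := ht2 ▸ orderOf_dvd_natCard u
  obtain ⟨av, hav⟩ := involution_int huu (IsIrrCharacter.isCharacter S.χ_irr) hG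
  have hinvert : ∀ p : G × G, orderOf p.1 = 2 → orderOf p.2 = 2 → p.1 * p.2 = a →
      p.1 ∈ Subgroup.normalizer (A₁ : Set G) ∧ p.1 ∉ A₁ := by
    intro p h1 h2 h
    have e1 : p.1 * p.1 = 1 := by rw [← pow_two, ← h1]; exact pow_orderOf_eq_one _
    have e2 : p.2 * p.2 = 1 := by rw [← pow_two, ← h2]; exact pow_orderOf_eq_one _
    have hx : p.1 * a * p.1⁻¹ = a⁻¹ := by
      rw [← h, mul_inv_rev, inv_eq_of_mul_eq_one_right e1, inv_eq_of_mul_eq_one_right e2,
        ← mul_assoc, e1, one_mul]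
    refine ⟨S.hyp.c1.ti ha ha1 (hx ▸ inv_mem ha), fun hA => hout _ h1 ⟨1, by simpa using hA⟩⟩
  have hne : ∀ v : G, orderOf v = 2 → (S.y : ℂ) - S.χ v ≠ 0 := fun v hv h => by
    refine apply_ne_degree hna S.χ_irr S.χ_ne (fun e => ?_) ((sub_eq_zero.1 h).symm.trans S.χ_one.symm)
    rw [e, orderOf_one] at hv
    omega
  have hδ0 : (S.δ : ℂ) ≠ 0 := fun h => by have := S.δ_sq; rw [h, zero_mul] at this; exact zero_ne_one this
  refine ⟨t, ht2, fun v hv => ?_, av, hav, ?_⟩
  · have h := card_class_products v v a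
    rw [S.sum_pairs ha ha1 (hout v hv) (hout v hv)] at h
    have hpos : Nat.card {p : G × G // IsConj v p.1 ∧ IsConj v p.2 ∧ p.1 * p.2 = a} ≠ 0 := by
      intro h0
      rw [h0] at h
      have hcl : (Nat.card {x : G // IsConj v x} : ℂ) ≠ 0 := by
        haveI : Nonempty {x : G // IsConj v x} := ⟨⟨v, IsConj.refl v⟩⟩
        exact_mod_cast (Nat.card_pos (α := {x : G // IsConj v x})).ne'
      have hy : (S.y : ℂ) ≠ 0 := by exact_mod_cast S.y_pos.ne'
      have hX : (S.X : ℂ) ≠ 0 := by exact_mod_cast S.X_ne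
      rw [Nat.cast_zero, eq_comm] at h
      simp [hcl, hδ0, hne v hv, hy, hX] at h
    haveI : Nonempty {p : G × G // IsConj v p.1 ∧ IsConj v p.2 ∧ p.1 * p.2 = a} :=
      (Nat.card_ne_zero.1 hpos).1
    obtain ⟨p, hp1, hp2, hp⟩ := Classical.arbitrary
      {p : G × G // IsConj v p.1 ∧ IsConj v p.2 ∧ p.1 * p.2 = a}
    have o1 : orderOf p.1 = 2 := by
      obtain ⟨c, hc⟩ := isConj_iff.1 hp1
      rw [← hc, show c * v * c⁻¹ = MulAut.conj c v from rfl, MulEquiv.orderOf_eq, hv]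
    have o2 : orderOf p.2 = 2 := by
      obtain ⟨c, hc⟩ := isConj_iff.1 hp2
      rw [← hc, show c * v * c⁻¹ = MulAut.conj c v from rfl, MulEquiv.orderOf_eq, hv]
    obtain ⟨hN, hA⟩ := hinvert p o1 o2 hp
    exact (ho _ hN hA).2.trans hp1.symm
  · have h := card_class_products t t a
    rw [S.sum_pairs ha ha1 (hout t ht2) (hout t ht2)] at h
    have hcard : Nat.card {p : G × G // IsConj t p.1 ∧ IsConj t p.2 ∧ p.1 * p.2 = a} =
        Nat.card A₁ := by
      rw [← card_sdiff F]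
      refine Nat.card_congr
        { toFun := fun p => ⟨p.1.1, ?_⟩
          invFun := fun x => ⟨(x.1, x.1⁻¹ * a), (ho _ x.2.1 x.2.2).2, ?_, mul_inv_cancel_left _ _⟩
          left_inv := fun p => Subtype.ext (Prod.ext rfl ?_)
          right_inv := fun x => rfl }
      · have o : ∀ x, IsConj t x → orderOf x = 2 := fun x hx => by
          obtain ⟨c, hc⟩ := isConj_iff.1 hx
          rw [← hc, show c * t * c⁻¹ = MulAut.conj c t from rfl, MulEquiv.orderOf_eq, ht2]
        exact hinvert p.1 (o _ p.2.1) (o _ p.2.2.1) p.2.2.2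
      · refine (ho _ (mul_mem (inv_mem x.2.1) (Subgroup.le_normalizer ha)) fun hm => x.2.2 ?_).2
        exact inv_mem_iff.1 ((A₁.mul_mem_cancel_right ha).1 hm)
      · show p.1.1⁻¹ * a = p.1.2
        rw [inv_mul_eq_iff_eq_mul]; exact p.2.2.2.symm
    rw [hcard, hav] at h
    have hcl := card_conj_class_mul_card_centralizer t
    set c := Nat.card (Subgroup.centralizer ({t} : Set G))
    set K := Nat.card {x : G // IsConj t x}
    have hG0 : (Nat.card G : ℂ) ≠ 0 := by exact_mod_cast (Nat.card_pos (α := G)).ne'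
    have hy : (S.y : ℂ) ≠ 0 := by exact_mod_cast S.y_pos.ne'
    have hX : (S.X : ℂ) ≠ 0 := by exact_mod_cast S.X_ne
    have hKc : (K : ℂ) * c = Nat.card G := by exact_mod_cast hcl
    field_simp at h
    have hfin : ((Nat.card A₁ : ℤ) * (c : ℤ) ^ 2 * S.y * (S.δ * S.X) : ℤ) =
        (((Nat.card G : ℤ) * ((S.y : ℤ) - av) ^ 2 : ℤ) : ℂ) := by
      push_cast
      refine mul_left_cancel₀ hG0 ?_
      linear_combination (S.δ : ℂ) * (c : ℂ) ^ 2 * h +
        ((S.δ : ℂ) * S.δ * ((S.y : ℂ) - av) ^ 2 * ((K : ℂ) * c + Nat.card G)) * hKc +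
        ((Nat.card G : ℂ) ^ 2 * ((S.y : ℂ) - av) ^ 2) * S.δ_sq
    exact_mod_cast hfin

end Sys

end CfsgLib.ThreeCC
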