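import Cfsg.Agent.FGSB.TIHall
import Cfsg.Agent.Char.TI
import Mathlib.Tactic

/-!
Subgroups equal to the centraliser of each of their nonidentity elements.
-/

set_option autoImplicit false
set_option linter.unusedSectionVars false
set_option linter.style.haveILetI false

namespace CfsgLib.ThreeCC

open Subgroup

universe u

variable {G : Type u} [Group G] [Finite G]

/-- `A` is nontrivial and is the centraliser of each of its nonidentity elements. -/
structure CC (A : Subgroup G) : Prop where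
  one_lt : 1 < Nat.card A
  cent : ∀ a ∈ A, a ≠ 1 → centralizer ({a} : Set G) = A

/-- `g` has a conjugate in `A`. -/
def InConj (A : Subgroup G) (g : G) : Prop := ∃ x : G, x * g * x⁻¹ ∈ A

namespace CC

variable {A : Subgroup G}

theorem comm (h : CC A) {a b : G} (ha : a ∈ A) (hb : b ∈ A) : a * b = b * a := by
  rcases eq_or_ne b 1 with rfl | hb1
  · simp
  · rw [← h.cent b hb hb1, mem_centralizer_singleton_iff] at ha; exact ha

theorem mem_of_commute (h : CC A) {a g : G} (ha : a ∈ A) (ha1 : a ≠ 1) (hg : g * a = a * g) :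
    g ∈ A := by
  rw [← h.cent a ha ha1, mem_centralizer_singleton_iff]; exact hg

theorem ti (h : CC A) {a g : G} (ha : a ∈ A) (ha1 : a ≠ 1) (hg : g * a * g⁻¹ ∈ A) :
    g ∈ normalizer (A : Set G) :=
  by_contra fun hn => ha1 (CfsgLib.Char.eq_one_of_centralizer_eq h.cent hn ha hg)

theorem isTI (h : CC A) : Cfsg.IsTISubset (A : Set G) := fun _ hg _ hx hgx =>
  CfsgLib.Char.eq_one_of_centralizer_eq h.cent hg hx hgx

theorem conj_mem (_h : CC A) {n a : G} (hn : n ∈ normalizer (A : Set G)) (ha : a ∈ A) :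
    n * a * n⁻¹ ∈ A := (Subgroup.mem_normalizer_iff.1 hn a).1 ha

theorem fpf (h : CC A) {g a : G} (hg : g ∉ A) (ha : a ∈ A) (he : g * a * g⁻¹ = a) : a = 1 :=
  by_contra fun ha1 => hg (h.mem_of_commute ha ha1 (mul_inv_eq_iff_eq_mul.1 he))

theorem relIndex_dvd (h : CC A) :
    A.relIndex (normalizer (A : Set G)) ∣ Nat.card A - 1 :=
  CfsgLib.Char.index_subgroupOf_dvd_card_sub_one le_normalizer (fun _ hn _ ha => h.conj_mem hn ha)
    (fun x hx hx1 => (h.cent x hx hx1).le)

theorem coprime_relIndex (h : CC A) :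
    (Nat.card A).Coprime (A.relIndex (normalizer (A : Set G))) := by
  refine Nat.Coprime.coprime_dvd_right h.relIndex_dvd ?_
  have hpos : 0 < Nat.card A := Nat.card_pos
  conv_lhs => rw [show Nat.card A = Nat.card A - 1 + 1 by omega]
  exact Nat.coprime_self_add_left.2 (Nat.coprime_one_left _)

theorem hall (h : CC A) : (Nat.card A).Coprime A.index :=
  CfsgLib.TIHall.hall_of_ti h.isTI h.coprime_relIndex

theorem exists_conj_of_order (h : CC A) {p : ℕ} (hp : p.Prime) (hpA : p ∣ Nat.card A) {x : G}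
    (hx : orderOf x = p) : InConj A x := by
  obtain ⟨g, hg⟩ := CfsgLib.TIHall.exists_conj_le h.hall h.isTI (zpowers x) (by
    intro q hq hd
    rw [Nat.card_zpowers, hx, Nat.prime_dvd_prime_iff_eq hq hp] at hd
    rwa [hd])
  have := hg (mem_zpowers x)
  rw [Subgroup.mem_map_equiv, MulAut.conj_symm_apply] at this
  exact ⟨g⁻¹, by rwa [inv_inv]⟩

theorem inConj_of_dvd (h : CC A) {p : ℕ} (hp : p.Prime) (hpA : p ∣ Nat.card A) {g : G}
    (hg : p ∣ orderOf g) : InConj A g := by
  have hx : orderOf (g ^ (orderOf g / p)) = p := orderOf_pow_orderOf_div (orderOf_pos g).ne' hg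
  obtain ⟨y, hy⟩ := h.exists_conj_of_order hp hpA hx
  refine ⟨y, h.mem_of_commute hy (fun e => ?_) ?_⟩
  · rw [conj_eq_one_iff] at e
    rw [e, orderOf_one] at hx
    exact hp.one_lt.ne hx
  · have hc := (Commute.self_pow g (orderOf g / p)).map (MulAut.conj y).toMonoidHom
    simpa using hc.eq

theorem orderOf_dvd (_h : CC A) {g : G} (hg : InConj A g) : orderOf g ∣ Nat.card A := by
  obtain ⟨x, hx⟩ := hg
  have := Subgroup.orderOf_dvd_natCard A hx
  rwa [show x * g * x⁻¹ = MulAut.conj x g from rfl, MulEquiv.orderOf_eq] at this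

/-- Non-conjugate subgroups have coprime orders. -/
theorem coprime (hA : CC A) {B : Subgroup G} (hB : CC B)
    (hnc : ∀ g : G, A.map (MulAut.conj g).toMonoidHom ≠ B) :
    (Nat.card A).Coprime (Nat.card B) := by
  refine Nat.coprime_of_dvd fun p hp hpA hpB => ?_
  obtain ⟨a, ha⟩ := exists_prime_orderOf_dvd_card' (G := A) (hp := ⟨hp⟩) p hpA
  obtain ⟨x, hx⟩ := hB.exists_conj_of_order hp hpB (x := (a : G)) (by rw [orderOf_coe, ha])
  have ha1 : (a : G) ≠ 1 := fun e => hp.one_lt.ne (by rw [← ha, ← orderOf_coe, e, orderOf_one])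
  have hb1 : x * a * x⁻¹ ≠ 1 := fun e => ha1 (conj_eq_one_iff.1 e)
  refine hnc x (le_antisymm ?_ ?_)
  · rintro _ ⟨b, hb, rfl⟩
    refine hB.mem_of_commute hx hb1 ?_
    have hc : Commute b (a : G) := hA.comm hb a.2
    simpa using (hc.map (MulAut.conj x).toMonoidHom).eq
  · intro b hb
    rw [Subgroup.mem_map_equiv, MulAut.conj_symm_apply]
    refine hA.mem_of_commute a.2 ha1 ?_
    have hc : Commute b (x * a * x⁻¹) := hB.comm hb hx
    have := (hc.map (MulAut.conj x⁻¹).toMonoidHom).eq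
    simp only [MulEquiv.coe_toMonoidHom, MulAut.conj_apply, inv_inv] at this
    simpa [mul_assoc] using this

/-- An element of the normaliser outside `A` with square in `A` inverts `A`. -/
theorem inverts (h : CC A) {w : G} (hw : w ∈ normalizer (A : Set G)) (hwA : w ∉ A)
    (hw2 : w * w ∈ A) {a : G} (ha : a ∈ A) : w * a * w⁻¹ = a⁻¹ := by
  have hb := h.conj_mem hw ha
  have h2 : w * (w * a * w⁻¹) * w⁻¹ = a := by
    rw [show w * (w * a * w⁻¹) * w⁻¹ = (w * w) * a * (w * w)⁻¹ by group, h.comm hw2 ha,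
      mul_inv_cancel_right]
  have h3 := h.fpf hwA (mul_mem ha hb) (by
    calc w * (a * (w * a * w⁻¹)) * w⁻¹ = (w * a * w⁻¹) * (w * (w * a * w⁻¹) * w⁻¹) := by group
      _ = _ := by rw [h2, h.comm hb ha])
  exact (inv_eq_of_mul_eq_one_right h3).symm

end CC

/-- `u` generates the normaliser modulo `A`, of index `k`. -/
structure Frame (A : Subgroup G) (k : ℕ) (u : G) : Prop where
  cc : CC A
  two_le : 2 ≤ k
  mem : u ∈ normalizer (A : Set G)
  pow_mem : ∀ i : ℕ, u ^ i ∈ A ↔ k ∣ i
  cover : ∀ g ∈ normalizer (A : Set G), ∃ i < k, (u ^ i)⁻¹ * g ∈ A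
  relIndex : A.relIndex (normalizer (A : Set G)) = k

theorem exists_frame_aux {A : Subgroup G} (h : CC A) {k : ℕ} (hk : 2 ≤ k)
    (hidx : A.relIndex (normalizer (A : Set G)) = k) {u : G} (hu : u ∈ normalizer (A : Set G))
    (hlow : ∀ i, 0 < i → i < k → u ^ i ∉ A) : Frame A k u := by
  set N := normalizer (A : Set G) with hN
  haveI : (A.subgroupOf N).Normal := Subgroup.normal_in_normalizer
  set q : N →* N ⧸ A.subgroupOf N := QuotientGroup.mk' _
  have hcard : Nat.card (N ⧸ A.subgroupOf N) = k := by rw [← Subgroup.index_eq_card]; exact hidx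
  have hq : ∀ i : ℕ, u ^ i ∈ A ↔ q ⟨u, hu⟩ ^ i = 1 := fun i => by
    rw [← map_pow, ← MonoidHom.mem_ker, QuotientGroup.ker_mk', mem_subgroupOf, SubgroupClass.coe_pow]
  have ho : orderOf (q ⟨u, hu⟩) = k := by
    have hd := orderOf_dvd_natCard (q ⟨u, hu⟩)
    rw [hcard] at hd
    have hle := Nat.le_of_dvd (by omega) hd
    by_contra hne
    exact hlow _ (orderOf_pos _) (by omega) ((hq _).2 (pow_orderOf_eq_one _))
  have htop : zpowers (q ⟨u, hu⟩) = ⊤ :=
    Subgroup.eq_top_of_card_eq _ (by rw [Nat.card_zpowers, ho, hcard])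
  refine ⟨h, hk, hu, fun i => by rw [hq, ← orderOf_dvd_iff_pow_eq_one, ho], fun g hg => ?_, hidx⟩
  have hm : q ⟨g, hg⟩ ∈ zpowers (q ⟨u, hu⟩) := htop ▸ mem_top _
  classical
  obtain ⟨i, hi, he⟩ := Finset.mem_image.1 (mem_zpowers_iff_mem_range_orderOf.1 hm)
  refine ⟨i, by rwa [Finset.mem_range, ho] at hi, ?_⟩
  rw [← map_pow] at he
  simpa [mem_subgroupOf] using QuotientGroup.eq.1 he

theorem exists_frame_two {A : Subgroup G} (h : CC A)
    (hidx : A.relIndex (normalizer (A : Set G)) = 2) : ∃ u, Frame A 2 u := by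
  obtain ⟨u, hu, huA⟩ : ∃ u ∈ normalizer (A : Set G), u ∉ A := by
    by_contra! hall
    rw [relIndex_eq_one.2 hall] at hidx
    omega
  refine ⟨u, exists_frame_aux h le_rfl hidx hu fun i h0 h2 => ?_⟩
  rwa [show i = 1 by omega, pow_one]

theorem exists_frame_four {A : Subgroup G} (h : CC A)
    (hidx : A.relIndex (normalizer (A : Set G)) = 4) : ∃ u, Frame A 4 u := by
  classical
  obtain ⟨u, hu, hu2⟩ : ∃ u ∈ normalizer (A : Set G), u * u ∉ A := by
    by_contra! hall
    obtain ⟨u, hu, huA⟩ : ∃ u ∈ normalizer (A : Set G), u ∉ A := by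
      by_contra! hall'
      rw [relIndex_eq_one.2 hall'] at hidx
      omega
    set N := normalizer (A : Set G)
    have hcov : ∀ g : N, (g : G) ∈ A ∨ u⁻¹ * g ∈ A := by
      intro g
      refine or_iff_not_imp_left.2 fun hg => ?_
      by_contra hne
      refine hne ((mul_mem_cancel_left (hall u hu)).1 ?_)
      rw [show u * u * (u⁻¹ * g) = u * g by group]
      obtain ⟨a, ha, ha1⟩ := A.bot_or_exists_ne_one.resolve_left fun e => by
        have := h.one_lt; rw [e, Subgroup.card_bot] at this; omega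
      refine h.mem_of_commute ha ha1 ?_
      have i1 := h.inverts g.2 hg (hall g g.2) ha
      have i2 := h.inverts hu huA (hall u hu) (inv_mem ha)
      rw [inv_inv] at i2
      calc u * g * a = u * ((g : G) * a * (g : G)⁻¹) * u⁻¹ * (u * g) := by group
        _ = a * (u * g) := by rw [i1, i2]
    have hf : Function.Injective (fun g : N =>
        if hg : (g : G) ∈ A then (Sum.inl ⟨g, hg⟩ : A ⊕ A)
        else Sum.inr ⟨u⁻¹ * g, (hcov g).resolve_left hg⟩) := by
      intro x y hxy
      dsimp only at hxy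
      split_ifs at hxy <;> simp only [Sum.inl.injEq, Sum.inr.injEq, Subtype.mk.injEq] at hxy
      · exact Subtype.ext hxy
      · exact Subtype.ext (mul_left_cancel hxy)
    have := Nat.card_le_card_of_injective _ hf
    rw [Nat.card_sum, ← CfsgLib.TIHall.card_mul_relIndex le_normalizer, hidx] at this
    have := h.one_lt
    omega
  refine ⟨u, exists_frame_aux h (by norm_num) hidx hu fun i h0 h4 hi => ?_⟩
  have hu1 : u ∉ A := fun hA => hu2 (mul_mem hA hA)
  interval_cases i
  · exact hu1 (by simpa using hi)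
  · exact hu2 (pow_two u ▸ hi)
  · refine hu1 ?_
    have h4' : u ^ 4 ∈ A := by
      have h' := (A.subgroupOf (normalizer (A : Set G))).pow_index_mem (⟨u, hu⟩ : normalizer (A : Set G))
      rw [show (A.subgroupOf (normalizer (A : Set G))).index = 4 from hidx] at h'
      simpa [mem_subgroupOf] using h'
    rw [show u ^ 4 = u * u ^ 3 by rw [← pow_succ']] at h4'
    exact (A.mul_mem_cancel_right hi).1 h4'

namespace Frame

variable {A : Subgroup G} {k : ℕ} {u : G}

theorem coprime (F : Frame A k u) : (Nat.card A).Coprime k := F.relIndex ▸ F.cc.coprime_relIndex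

theorem dvd_sub_one (F : Frame A k u) : k ∣ Nat.card A - 1 := F.relIndex ▸ F.cc.relIndex_dvd

theorem odd (F : Frame A k u) (hk : 2 ∣ k) : Odd (Nat.card A) :=
  Nat.odd_iff.2 <| by
    have hd := hk.trans F.dvd_sub_one
    have := F.cc.one_lt
    omega

theorem pow_normalizer (F : Frame A k u) (i : ℕ) : u ^ i ∈ normalizer (A : Set G) :=
  Subgroup.pow_mem _ F.mem i

/-- Elements of the normaliser outside `A` with square in `A` lie in the coset of `u ^ (k / 2)`. -/
theorem sq_coset (F : Frame A k u) {g : G} (hg : g ∈ normalizer (A : Set G)) (hgA : g ∉ A)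
    (hg2 : g * g ∈ A) : 2 * (k / 2) = k ∧ (u ^ (k / 2))⁻¹ * g ∈ A := by
  obtain ⟨i, hi, hmem⟩ := F.cover g hg
  have hi0 : i ≠ 0 := fun e => hgA (by simpa [e] using hmem)
  have h2 : u ^ (i + i) ∈ A := by
    have hn : (u ^ i)⁻¹ * g * (u ^ i) ∈ normalizer (A : Set G) :=
      mul_mem (mul_mem (inv_mem (F.pow_normalizer i)) hg) (F.pow_normalizer i)
    have hc : (u ^ i)⁻¹ * ((u ^ i)⁻¹ * g) * u ^ i ∈ A := by
      simpa using F.cc.conj_mem (inv_mem (F.pow_normalizer i)) hmem
    have : g * g = u ^ (i + i) * ((u ^ i)⁻¹ * ((u ^ i)⁻¹ * g) * u ^ i) * ((u ^ i)⁻¹ * g) := by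
      rw [pow_add]; group
    rw [this] at hg2
    exact (A.mul_mem_cancel_right hc).1 ((A.mul_mem_cancel_right hmem).1 hg2)
  obtain ⟨j, hj⟩ := (F.pow_mem _).1 h2
  have hj1 : j = 1 := by
    rcases j with _ | _ | j
    · omega
    · rfl
    · exfalso; nlinarith
  rw [hj1, mul_one] at hj
  refine ⟨by omega, ?_⟩
  rwa [show k / 2 = i by omega]

theorem pow_half (F : Frame A k u) (hk : 2 ∣ k) :
    u ^ (k / 2) ∉ A ∧ u ^ (k / 2) * u ^ (k / 2) ∈ A := by
  have := F.two_le
  constructor
  · rw [F.pow_mem]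
    intro hd
    have := Nat.le_of_dvd (by omega) hd
    omega
  · rw [← pow_add, F.pow_mem]
    exact dvd_of_eq (by omega)

theorem half_inverts (F : Frame A k u) (hk : 2 ∣ k) {a : G} (ha : a ∈ A) :
    u ^ (k / 2) * a * (u ^ (k / 2))⁻¹ = a⁻¹ :=
  F.cc.inverts (F.pow_normalizer _) (F.pow_half hk).1 (F.pow_half hk).2 ha

/-- With index 2 the normaliser outside `A` consists of involutions. -/
theorem sq_eq_one (F : Frame A 2 u) {g : G} (hg : g ∈ normalizer (A : Set G)) (hgA : g ∉ A) :
    g * g = 1 := by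
  obtain ⟨i, hi, hmem⟩ := F.cover g hg
  have hi1 : i = 1 := by
    rcases (by omega : i = 0 ∨ i = 1) with rfl | rfl
    · exact absurd (by simpa using hmem) hgA
    · rfl
  subst hi1
  rw [pow_one] at hmem
  have hg2 : g * g ∈ A := by
    have : g * g = (u * (u⁻¹ * g) * u⁻¹) * (u * u) * (u⁻¹ * g) := by group
    rw [this]
    refine mul_mem (mul_mem (F.cc.conj_mem F.mem hmem) ?_) hmem
    rw [← pow_two]; exact (F.pow_mem 2).2 dvd_rfl
  exact F.cc.fpf hgA hg2 (by group)

/-- An element of order 4. -/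
theorem exists_order_four (F : Frame A 4 u) : ∃ f : G, orderOf f = 4 := by
  have hodd := F.odd (by norm_num)
  have h4 : u ^ 4 ∈ A := (F.pow_mem 4).2 dvd_rfl
  refine ⟨u ^ Nat.card A, orderOf_eq_prime_pow (p := 2) (n := 1) ?_ ?_⟩
  · rw [← pow_mul, pow_one]
    intro e
    have := (F.pow_mem (Nat.card A * 2)).1 (e ▸ one_mem A)
    obtain ⟨k, hk⟩ := hodd
    omega
  · have : (⟨u ^ 4, h4⟩ : A) ^ Nat.card A = 1 := pow_card_eq_one'
    rw [← pow_mul, mul_comm, pow_mul]
    have h' := congrArg Subtype.val this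
    rwa [SubgroupClass.coe_pow, OneMemClass.coe_one] at h'

end Frame

end CfsgLib.ThreeCC
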