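import Cfsg.Agent.ThreeCC.Family

/-!
Columns of the character table at the nonidentity elements of `A`.
-/

set_option autoImplicit false
set_option linter.unusedSectionVars false
set_option linter.style.haveILetI false

namespace CfsgLib.ThreeCC

open CfsgLib.Char
open scoped ComplexConjugate Classical

universe u

variable {G : Type u} [Group G] [Fintype G] {A : Subgroup G} {k : ℕ}

theorem CC.not_isConj {B : Subgroup G} (hA : CC A) (hB : CC B)
    (hco : (Nat.card A).Coprime (Nat.card B)) {a b : G} (ha : a ∈ A) (ha1 : a ≠ 1) (hb : b ∈ B) :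
    ¬ IsConj a b := fun h => by
  have h1 := Subgroup.orderOf_dvd_natCard A ha
  obtain ⟨x, hx⟩ := isConj_iff.1 h
  have h2 := hB.orderOf_dvd (g := a) ⟨x, hx ▸ hb⟩
  exact ha1 (orderOf_eq_one_iff.1 (Nat.eq_one_of_dvd_coprimes hco h1 h2))

theorem CC.not_inConj {B : Subgroup G} (hA : CC A) (hB : CC B)
    (hco : (Nat.card A).Coprime (Nat.card B)) {a : G} (ha : a ∈ A) (ha1 : a ≠ 1) :
    ¬ InConj B a := fun ⟨x, hx⟩ =>
  hA.not_isConj hB hco ha ha1 hx (isConj_iff.2 ⟨x, rfl⟩)

theorem not_inConj_conj {B : Subgroup G} {g x : G} (h : ¬ InConj B g) :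
    ¬ InConj B (x * g * x⁻¹) := fun ⟨y, hy⟩ => h ⟨y * x, by
  simpa [mul_assoc] using hy⟩

namespace Fam

variable (F : Fam A k)

/-- The members. -/
noncomputable def mems : Finset (G → ℂ) := Finset.univ.image F.θ

/-- The irreducible characters outside the family. -/
noncomputable def rest : Finset (G → ℂ) := irrFinset G \ F.mems

theorem mem_rest {ψ : G → ℂ} :
    ψ ∈ F.rest ↔ Cfsg.IsIrrCharacter G ψ ∧ ∀ q, ψ ≠ F.θ q := by
  simp [rest, mems, mem_irrFinset, eq_comm]

theorem sum_split {M : Type*} [AddCommMonoid M] (f : (G → ℂ) → M) :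
    ∑ ψ ∈ irrFinset G, f ψ = ∑ q, f (F.θ q) + ∑ ψ ∈ F.rest, f ψ := by
  have hsub : F.mems ⊆ irrFinset G := by
    intro ψ hψ
    simp only [mems, Finset.mem_image] at hψ
    obtain ⟨q, -, rfl⟩ := hψ
    exact mem_irrFinset.2 (F.irr q)
  rw [rest, ← Finset.sum_sdiff hsub, add_comm, mems, Finset.sum_image fun a _ b _ h => F.inj h]

/-- The value on `A \ {1}` of a character outside the family. -/
noncomputable def cst (ψ : G → ℂ) : ℤ :=
  if h : Cfsg.IsIrrCharacter G ψ ∧ ∀ q, ψ ≠ F.θ q then (F.const ψ h.1 h.2).choose else 0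

theorem cst_spec {ψ : G → ℂ} (h : ψ ∈ F.rest) {a : G} (ha : a ∈ A) (ha1 : a ≠ 1) :
    ψ a = F.cst ψ := by
  rw [mem_rest] at h
  rw [cst, dif_pos h]
  exact (F.const ψ h.1 h.2).choose_spec.1 a ha ha1

theorem cst_dvd {ψ : G → ℂ} (h : ψ ∈ F.rest) {d : ℕ} (hd : ψ 1 = d) :
    (Nat.card A : ℤ) ∣ (d : ℤ) - F.cst ψ := by
  rw [mem_rest] at h
  rw [cst, dif_pos h]
  exact (F.const ψ h.1 h.2).choose_spec.2 d hd

theorem exists_elem (F : Fam A k) : ∃ a ∈ A, a ≠ 1 := by
  obtain ⟨a, ha, ha1, -⟩ := F.nconst ⟨0, by linarith [F.two_le]⟩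
  exact ⟨a, ha, ha1⟩

theorem one_mem_rest : (fun _ => (1 : ℂ)) ∈ F.rest := by
  rw [mem_rest]
  refine ⟨isIrrCharacter_one, fun q h => ?_⟩
  obtain ⟨a, ha, ha1, b, hb, hb1, hne⟩ := F.nconst q
  apply hne
  have e1 := F.val q a ha ha1
  have e2 := F.val q b hb hb1
  simp only [← h] at e1 e2
  have hε : (F.ε : ℂ) ≠ 0 := by rcases F.hε with e | e <;> simp [e]
  exact mul_left_cancel₀ hε (by linear_combination e2 - e1)

theorem cst_one : F.cst (fun _ => (1 : ℂ)) = 1 := by
  obtain ⟨a, ha, ha1⟩ := F.exists_elem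
  have := F.cst_spec F.one_mem_rest ha ha1
  exact_mod_cast this.symm

/-- The common value of the family at elements without conjugates in `A`. -/
noncomputable def com (g : G) : ℂ := F.θ ⟨0, by linarith [F.two_le]⟩ g

theorem com_eq {g : G} (hg : ¬ InConj A g) (q : Fin F.m) : F.θ q g = F.com g := F.off _ _ g hg

theorem com_one (q : Fin F.m) : F.θ q 1 = F.com 1 := F.deg _ _

theorem sum_θ {a : G} (ha : a ∈ A) (ha1 : a ≠ 1) :
    ∑ q, F.θ q a = (F.m : ℂ) * F.e - F.ε := by
  rw [Finset.sum_congr rfl fun q _ => F.val q a ha ha1, Finset.sum_add_distrib, ← Finset.mul_sum,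
    F.sum_φ a ha ha1, Finset.sum_const, Finset.card_univ, Fintype.card_fin, nsmul_eq_mul]
  ring

/-- The norm of the column at an element of `A`. -/
theorem budget {u : G} (hu : Frame A k u) :
    ∑ ψ ∈ F.rest, (F.cst ψ) ^ 2 + (F.m * F.e ^ 2 - 2 * F.ε * F.e) = k := by
  obtain ⟨a, ha, ha1⟩ := F.exists_elem
  have h := sum_irr_mul_conj a a
  rw [if_pos (IsConj.refl a), hu.cc.cent a ha ha1, F.sum_split] at h
  have h1 : ∑ q, F.θ q a * conj (F.θ q a) =
      (Nat.card A : ℂ) - k + ((F.m : ℂ) * F.e ^ 2 - 2 * F.ε * F.e) := by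
    have e1 : ∀ q, F.θ q a * conj (F.θ q a) =
        F.φ q a * conj (F.φ q a) + (F.ε * F.e : ℂ) * (F.φ q a + conj (F.φ q a)) + (F.e : ℂ) ^ 2 := by
      intro q
      rw [F.val q a ha ha1]
      simp only [map_add, map_mul, map_intCast]
      have : (F.ε : ℂ) * F.ε = 1 := by rcases F.hε with e | e <;> simp [e]
      linear_combination (F.φ q a * conj (F.φ q a)) * this
    rw [Finset.sum_congr rfl fun q _ => e1 q, Finset.sum_add_distrib, Finset.sum_add_distrib,
      ← Finset.mul_sum, Finset.sum_add_distrib, F.sum_sq a ha ha1, F.sum_φ a ha ha1, ← map_sum,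
      F.sum_φ a ha ha1, Finset.sum_const, Finset.card_univ, Fintype.card_fin, nsmul_eq_mul,
      map_neg, map_one]
    ring
  rw [h1, Finset.sum_congr rfl fun ψ hψ => by rw [F.cst_spec hψ ha ha1, map_intCast]] at h
  have h2 : ((∑ ψ ∈ F.rest, F.cst ψ ^ 2 + (F.m * F.e ^ 2 - 2 * F.ε * F.e) : ℤ) : ℂ) = (k : ℤ) := by
    push_cast
    simp only [sq] at h ⊢
    linear_combination h
  exact_mod_cast h2

/-- Orthogonality of the column at an element of `A` and any other column. -/
theorem orth {g : G} (hg : ¬ InConj A g ∨ g = 1) :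
    ∑ ψ ∈ F.rest, (F.cst ψ : ℂ) * ψ g + ((F.m : ℂ) * F.e - F.ε) * F.com g = 0 := by
  obtain ⟨a, ha, ha1⟩ := F.exists_elem
  have hn : ¬ IsConj g a := by
    rcases hg with hg | rfl
    · exact fun h => hg (by obtain ⟨x, hx⟩ := isConj_iff.1 h; exact ⟨x, hx ▸ ha⟩)
    · exact fun h => ha1 (isConj_one_right.1 h)
  have h := sum_irr_mul_conj g a
  rw [if_neg hn, F.sum_split] at h
  have hθ : ∀ q, F.θ q g = F.com g := fun q => by
    rcases hg with hg | rfl
    · exact F.com_eq hg q
    · exact F.com_one q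
  have hs : conj ((F.m : ℂ) * F.e - F.ε) = (F.m : ℂ) * F.e - F.ε := by simp
  rw [Finset.sum_congr rfl fun q _ => by rw [hθ q], ← Finset.mul_sum, ← map_sum, F.sum_θ ha ha1,
    hs, Finset.sum_congr rfl fun ψ hψ => show ψ g * conj (ψ a) = (F.cst ψ : ℂ) * ψ g by
      rw [F.cst_spec hψ ha ha1, map_intCast]; ring] at h
  linear_combination h

/-- Two families with subgroups without common classes are disjoint. -/
theorem disjoint {B : Subgroup G} {l : ℕ} (F' : Fam B l)
    (hne : ∀ a ∈ A, a ≠ 1 → ¬ InConj B a) (q : Fin F.m) (p : Fin F'.m) : F.θ q ≠ F'.θ p := by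
  intro h
  obtain ⟨p', hp'⟩ : ∃ p' : Fin F'.m, p' ≠ p := by
    by_cases hp : p = ⟨0, by linarith [F'.two_le]⟩
    · exact ⟨⟨1, F'.two_le⟩, by rw [hp]; simp⟩
    · exact ⟨_, Ne.symm hp⟩
  have hval : ∀ a ∈ A, a ≠ 1 → F'.θ p' a = F.θ q a := fun a ha ha1 => by
    rw [F'.off p' p a (hne a ha ha1), h]
  by_cases hm : ∃ q', F'.θ p' = F.θ q'
  · obtain ⟨q', hq'⟩ := hm
    have hqq : q' = q := F.sep _ _ fun a ha ha1 => by
      have := hval a ha ha1
      rw [hq', F.val q' a ha ha1, F.val q a ha ha1] at this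
      have hε : (F.ε : ℂ) ≠ 0 := by rcases F.hε with e | e <;> simp [e]
      exact mul_left_cancel₀ hε (add_right_cancel this)
    rw [hqq, h] at hq'
    exact hp' (F'.inj hq')
  · push Not at hm
    obtain ⟨a, ha, ha1, b, hb, hb1, hab⟩ := F.nconst q
    obtain ⟨c, hc, -⟩ := F.const _ (F'.irr p') hm
    have e1 := hval a ha ha1
    have e2 := hval b hb hb1
    rw [hc a ha ha1, F.val q a ha ha1] at e1
    rw [hc b hb hb1, F.val q b hb hb1] at e2
    have hε : (F.ε : ℂ) ≠ 0 := by rcases F.hε with e | e <;> simp [e]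
    exact hab (mul_left_cancel₀ hε (by linear_combination e2 - e1))

/-- Changing the sign of a family with two members. -/
theorem exists_norm (F : Fam A k) : ∃ F' : Fam A k, F'.m = 2 → F'.e ≠ F'.ε := by
  by_cases h : F.m = 2 ∧ F.e = F.ε
  swap
  · exact ⟨F, fun h2 he => h ⟨h2, he⟩⟩
  obtain ⟨h2, he⟩ := h
  let sw : Fin F.m → Fin F.m := fun q => ⟨1 - q.1, by omega⟩
  have hsw : ∀ q, sw (sw q) = q := fun q => Fin.ext (by simp [sw]; omega)
  have hsum : ∀ (f : Fin F.m → ℂ) q, ∑ p, f p = f q + f (sw q) := by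
    intro f q
    have : (Finset.univ : Finset (Fin F.m)) = {q, sw q} := by
      ext x
      simp only [Finset.mem_univ, Finset.mem_insert, Finset.mem_singleton, true_iff, Fin.ext_iff, sw]
      omega
    rw [this, Finset.sum_pair]
    intro hq
    have := congrArg Fin.val hq
    simp [sw] at this
    omega
  refine ⟨{ F with
    ε := -F.ε
    e := 0
    θ := fun q => F.θ (sw q)
    hε := by rcases F.hε with e | e <;> simp [e]
    irr := fun q => F.irr _
    inj := fun a b hab => by rw [← hsw a, ← hsw b, F.inj hab]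
    deg := fun p q => F.deg _ _
    val := fun q a ha ha1 => by
      have hs := F.sum_φ a ha ha1
      rw [hsum (fun p => F.φ p a) q] at hs
      rw [F.val _ a ha ha1, he]
      push_cast
      linear_combination (F.ε : ℂ) * hs
    off := fun p q g hg => F.off _ _ g hg
    const := fun ψ hψ hne => F.const ψ hψ fun q => by simpa [hsw] using hne (sw q) }, fun _ => ?_⟩
  rcases F.hε with e | e <;> simp [e]

/-- The classes meeting `A \ {1}`. -/
theorem card_classes {u : G} (hu : Frame A k u) :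
    F.m ≤ ((Finset.univ.filter fun a : G => a ∈ A ∧ a ≠ 1).image ConjClasses.mk).card := by
  set S := Finset.univ.filter fun a : G => a ∈ A ∧ a ≠ 1
  have hS : S.card = Nat.card A - 1 := by
    rw [Nat.card_eq_fintype_card, Fintype.card_subtype]
    have : S = (Finset.univ.filter fun a : G => a ∈ A).erase 1 := by
      ext a; simp [S, and_comm]
    rw [this, Finset.card_erase_of_mem]
    simp
  have hle := Finset.card_le_mul_card_image (f := ConjClasses.mk) S k (fun C hC => by
    obtain ⟨a, ha, rfl⟩ := Finset.mem_image.1 hC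
    simp only [S, Finset.mem_filter, Finset.mem_univ, true_and] at ha
    refine le_trans (Finset.card_le_card
      (t := (Finset.range k).image fun i => u ^ i * a * (u ^ i)⁻¹) fun b hb => ?_)
      (Finset.card_image_le.trans (Finset.card_range k).le)
    simp only [S, Finset.mem_filter, Finset.mem_univ, true_and, ConjClasses.mk_eq_mk_iff_isConj] at hb
    obtain ⟨x, hx⟩ := isConj_iff.1 hb.2.symm
    obtain ⟨i, hi, hmem⟩ := hu.cover x (hu.cc.ti ha.1 ha.2 (hx ▸ hb.1.1))
    refine Finset.mem_image.2 ⟨i, Finset.mem_range.2 hi, ?_⟩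
    have hc := hu.cc.comm hmem ha.1
    calc u ^ i * a * (u ^ i)⁻¹ = u ^ i * (((u ^ i)⁻¹ * x) * a) * ((u ^ i)⁻¹ * x)⁻¹ * (u ^ i)⁻¹ := by
          rw [hc]; group
      _ = x * a * x⁻¹ := by group
      _ = b := hx)
  rw [hS, ← F.hm, Nat.add_sub_cancel] at hle
  rw [mul_comm k] at hle
  exact Nat.le_of_mul_le_mul_right hle (by linarith [hu.two_le])

end Fam

end CfsgLib.ThreeCC
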