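import Mathlib.LinearAlgebra.Matrix.ProjectiveSpecialLinearGroup
import Mathlib.Algebra.CharP.Lemmas
import Mathlib.LinearAlgebra.Matrix.NonsingularInverse
import Mathlib.LinearAlgebra.Matrix.CharP
import Mathlib.Tactic

/-!
In `PSL(2, F)` an element of order prime to the characteristic is conjugate within its centraliser
only to itself and to its inverse.
-/

set_option autoImplicit false

namespace CfsgLib.ThreeCC.PSLTwo

open Matrix

universe u

variable {F : Type u} [Field F]

local notation "SL2" => Matrix.SpecialLinearGroup (Fin 2) F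
local notation "PSL2" => Matrix.ProjectiveSpecialLinearGroup (Fin 2) F

/-- Commuting with a non-scalar matrix means being a polynomial in it. -/
theorem exists_poly {a b c d a' b' c' d' : F} (hns : ¬ (b = 0 ∧ c = 0 ∧ a = d))
    (h1 : b' * c = b * c') (h2 : a * b' + b * d' = a' * b + b' * d) (h3 : c * a' + d * c' = c' * a + d' * c) :
    ∃ x y : F, a' = x * a + y ∧ b' = x * b ∧ c' = x * c ∧ d' = x * d + y := by
  by_cases hb : b = 0
  · subst hb
    by_cases hc : c = 0
    · subst hc
      have had : a - d ≠ 0 := fun e => hns ⟨rfl, rfl, sub_eq_zero.1 e⟩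
      refine ⟨(a' - d') / (a - d), a' - (a' - d') / (a - d) * a, by ring, ?_, ?_, ?_⟩
      · rw [mul_zero]
        exact (mul_eq_zero.1 (show (a - d) * b' = 0 by linear_combination h2)).resolve_left had
      · rw [mul_zero]
        exact (mul_eq_zero.1 (show (a - d) * c' = 0 by linear_combination -h3)).resolve_left had
      · field_simp
        ring
    · refine ⟨c' / c, a' - c' / c * a, by ring, ?_, by field_simp, ?_⟩
      · rw [mul_zero]
        exact (mul_eq_zero.1 (show b' * c = 0 by linear_combination h1)).resolve_right hc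
      · field_simp
        linear_combination -h3
  · refine ⟨b' / b, a' - b' / b * a, by ring, by field_simp, ?_, ?_⟩
    · field_simp
      linear_combination -h1
    · field_simp
      linear_combination h2

theorem mem_center_of_scalar {M : SL2} {r : F} (h : (M : Matrix (Fin 2) (Fin 2) F) = Matrix.scalar (Fin 2) r) :
    M ∈ Subgroup.center SL2 := by
  refine Subgroup.mem_center_iff.2 fun B => ?_
  apply Subtype.ext
  show (B : Matrix (Fin 2) (Fin 2) F) * (M : Matrix (Fin 2) (Fin 2) F) = (M : Matrix (Fin 2) (Fin 2) F) * B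
  rw [h]
  exact (Matrix.scalar_commute r (fun s => mul_comm r s) (B : Matrix (Fin 2) (Fin 2) F)).eq.symm

theorem eq_or_eq_inv {a g : PSL2} {p : ℕ} [Fact p.Prime] [CharP F p]
    (hp : ¬ p ∣ orderOf a) (ha1 : a ≠ 1) (ha2 : orderOf a ≠ 2)
    (hc : g * a * g⁻¹ * a = a * (g * a * g⁻¹)) : g * a * g⁻¹ = a ∨ g * a * g⁻¹ = a⁻¹ := by
  set π := QuotientGroup.mk' (Subgroup.center SL2) with hπ
  obtain ⟨M, rfl⟩ := QuotientGroup.mk'_surjective (Subgroup.center SL2) a
  obtain ⟨H, rfl⟩ := QuotientGroup.mk'_surjective (Subgroup.center SL2) g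
  rw [← hπ] at hp ha1 ha2 hc ⊢
  set N : SL2 := H * M * H⁻¹ with hN
  have hNπ : π N = π H * π M * (π H)⁻¹ := by rw [hN, map_mul, map_mul, map_inv]
  rw [← hNπ] at hc ⊢
  have hker : ∀ X : SL2, π X = 1 ↔ X ∈ Subgroup.center SL2 := fun X => QuotientGroup.eq_one_iff X
  -- coordinates
  have hτ : (N : Matrix (Fin 2) (Fin 2) F).trace = (M : Matrix (Fin 2) (Fin 2) F).trace := by
    rw [hN, Matrix.SpecialLinearGroup.coe_mul, Matrix.SpecialLinearGroup.coe_mul,
      Matrix.trace_mul_comm, ← Matrix.mul_assoc, ← Matrix.SpecialLinearGroup.coe_mul,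
      inv_mul_cancel, Matrix.SpecialLinearGroup.coe_one, Matrix.one_mul]
  set A : Matrix (Fin 2) (Fin 2) F := (M : Matrix (Fin 2) (Fin 2) F) with hA
  set B : Matrix (Fin 2) (Fin 2) F := (N : Matrix (Fin 2) (Fin 2) F) with hB
  have hdA : A 0 0 * A 1 1 - A 0 1 * A 1 0 = 1 := by rw [← Matrix.det_fin_two]; exact M.2
  have hdB : B 0 0 * B 1 1 - B 0 1 * B 1 0 = 1 := by rw [← Matrix.det_fin_two]; exact N.2
  rw [Matrix.trace_fin_two, Matrix.trace_fin_two] at hτ
  set τ := A 0 0 + A 1 1 with hτd
  have hns : ¬ (A 0 1 = 0 ∧ A 1 0 = 0 ∧ A 0 0 = A 1 1) := by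
    rintro ⟨h1, h2, h3⟩
    refine ha1 ((hker M).2 (mem_center_of_scalar (r := A 0 0) ?_))
    ext i j
    fin_cases i <;> fin_cases j <;> simp [← hA, h1, h2, h3]
  have hsq : τ = 0 → False := fun h0 => by
    have hd : orderOf (π M) ∣ 2 := by
      rw [orderOf_dvd_iff_pow_eq_one, ← map_pow, hker]
      refine mem_center_of_scalar (r := (-1 : F)) ?_
      rw [pow_two, Matrix.SpecialLinearGroup.coe_mul, ← hA]
      have hd' : A 1 1 = -A 0 0 := by linear_combination h0
      ext i j
      fin_cases i <;> fin_cases j <;> simp [Matrix.mul_apply, Fin.sum_univ_two] <;>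
        first
        | linear_combination (-1 : F) * hdA + A 0 0 * hd'
        | linear_combination A 0 1 * hd'
        | linear_combination A 1 0 * hd'
        | linear_combination (-1 : F) * hdA + A 1 1 * hd'
    rcases (Nat.dvd_prime Nat.prime_two).1 hd with h | h
    · exact ha1 (orderOf_eq_one_iff.1 h)
    · exact ha2 h
  -- the two lifts commute
  have hcomm : B * A = A * B := by
    have hz : (N * M) * (M * N)⁻¹ ∈ Subgroup.center SL2 := by
      rw [← hker, map_mul π (N * M), map_inv, map_mul π N, map_mul π M, hc, mul_inv_cancel]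
    obtain ⟨r, -, hr⟩ := (Matrix.SpecialLinearGroup.mem_center_iff).1 hz
    have e : B * A = Matrix.scalar (Fin 2) r * (A * B) := by
      rw [hr, ← Matrix.SpecialLinearGroup.coe_mul, ← Matrix.SpecialLinearGroup.coe_mul,
        ← Matrix.SpecialLinearGroup.coe_mul, inv_mul_cancel_right]
    have e' : B = r • ((M * N * M⁻¹ : SL2) : Matrix (Fin 2) (Fin 2) F) := by
      have h1 : B = (B * A) * ((M⁻¹ : SL2) : Matrix (Fin 2) (Fin 2) F) := by
        rw [hB, hA, Matrix.mul_assoc, ← Matrix.SpecialLinearGroup.coe_mul M, mul_inv_cancel,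
          Matrix.SpecialLinearGroup.coe_one, Matrix.mul_one]
      rw [h1, e, Matrix.SpecialLinearGroup.coe_mul, Matrix.SpecialLinearGroup.coe_mul,
        Matrix.mul_assoc, ← Matrix.smul_mul]
      simp [Matrix.scalar_apply, Matrix.smul_eq_diagonal_mul, Matrix.mul_assoc, hA, hB]
    have ht : B 0 0 + B 1 1 = r * (B 0 0 + B 1 1) := by
      have h := congrArg Matrix.trace e'
      rw [Matrix.trace_smul, Matrix.SpecialLinearGroup.coe_mul, Matrix.trace_mul_comm,
        ← Matrix.SpecialLinearGroup.coe_mul, ← mul_assoc, inv_mul_cancel, one_mul, ← hB,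
        Matrix.trace_fin_two, smul_eq_mul] at h
      exact h
    rw [hτ] at ht
    have hr1 : r = 1 := by
      by_contra hne
      exact hsq ((mul_eq_zero.1 (show (1 - r) * τ = 0 by linear_combination ht)).resolve_left
        (sub_ne_zero.2 (Ne.symm hne)))
    rw [hr1] at e
    simpa using e
  have e00 := congrFun (congrFun hcomm 0) 0
  have e01 := congrFun (congrFun hcomm 0) 1
  have e10 := congrFun (congrFun hcomm 1) 0
  simp only [Matrix.mul_apply, Fin.sum_univ_two] at e00 e01 e10
  obtain ⟨x, y, a1, a2, a3, a4⟩ := exists_poly hns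
    (a' := B 0 0) (b' := B 0 1) (c' := B 1 0) (d' := B 1 1)
    (by linear_combination e00) (by linear_combination -e01) (by linear_combination -e10)
  have htr : (x - 1) * τ + 2 * y = 0 := by linear_combination hτ - a1 - a4
  have hdet : x ^ 2 + x * y * τ + y ^ 2 = 1 := by
    rw [a1, a2, a3, a4] at hdB
    linear_combination hdB - x ^ 2 * hdA
  have hfin : (x = 1 ∧ y = 0) ∨ (x = -1 ∧ y = τ) := by
    by_cases h2 : (2 : F) = 0
    · have hx : x = 1 := by
        have : (x - 1) * τ = 0 := by linear_combination htr - y * h2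
        exact sub_eq_zero.1 ((mul_eq_zero.1 this).resolve_right fun h => hsq h)
      have hy : y * (y - τ) = 0 := by
        subst hx
        linear_combination hdet - y * τ * h2
      rcases mul_eq_zero.1 hy with h | h
      · exact Or.inl ⟨hx, h⟩
      · exact Or.inr ⟨by linear_combination hx + h2, sub_eq_zero.1 h⟩
    · have h4 : (x - 1) * (x + 1) * ((2 - τ) * (2 + τ)) = 0 := by
        linear_combination 4 * hdet - (2 * y + x * τ + τ) * htr
      rcases mul_eq_zero.1 h4 with h | h
      · rcases mul_eq_zero.1 h with h | h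
        · obtain rfl : x = 1 := sub_eq_zero.1 h
          exact Or.inl ⟨rfl, (mul_eq_zero.1 (show 2 * y = 0 by linear_combination htr)).resolve_left h2⟩
        · obtain rfl : x = -1 := by linear_combination h
          refine Or.inr ⟨rfl, sub_eq_zero.1 ((mul_eq_zero.1 (show 2 * (y - τ) = 0 by
            linear_combination htr)).resolve_left h2)⟩
      · -- a unipotent element
        exfalso
        have hτ4 : τ ^ 2 = 4 := by linear_combination -h
        set s : F := τ / 2
        have hs : 2 * s = τ := mul_div_cancel₀ _ h2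
        have hs2 : s ^ 2 = 1 := by
          have : 4 * (s ^ 2 - 1) = 0 := by linear_combination (2 * s + τ) * hs + hτ4
          exact sub_eq_zero.1 ((mul_eq_zero.1 this).resolve_left fun h4 =>
            h2 (by
              have : (2 : F) * 2 = 0 := by linear_combination h4
              exact (mul_eq_zero.1 this).elim id id))
        have hnil : (A - Matrix.scalar (Fin 2) s) ^ 2 = 0 := by
          rw [pow_two]
          ext i j
          fin_cases i <;> fin_cases j <;>
            simp [Matrix.mul_apply, Fin.sum_univ_two, Matrix.scalar_apply] <;>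
            first
            | linear_combination (-1 : F) * hdA + hs2 + (-A 0 0) * hs
            | linear_combination -A 0 1 * hs
            | linear_combination -A 1 0 * hs
            | linear_combination (-1 : F) * hdA + hs2 + (-A 1 1) * hs
        haveI : CharP (Matrix (Fin 2) (Fin 2) F) p := inferInstance
        have hpow : A ^ p = Matrix.scalar (Fin 2) (s ^ p) := by
          have hcm : Commute (A - Matrix.scalar (Fin 2) s) (Matrix.scalar (Fin 2) s) :=
            (Matrix.scalar_commute s (fun r => mul_comm s r) _).symm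
          have h := add_pow_char_of_commute p hcm
          rwa [sub_add_cancel, pow_eq_zero_of_le (Fact.out : p.Prime).two_le hnil, zero_add,
            ← map_pow] at h
        refine hp ?_
        have hd : orderOf (π M) ∣ p := by
          rw [orderOf_dvd_iff_pow_eq_one, ← map_pow, hker]
          refine mem_center_of_scalar (r := s ^ p) ?_
          rw [Matrix.SpecialLinearGroup.coe_pow, ← hA, hpow]
        rcases (Nat.dvd_prime (Fact.out : p.Prime)).1 hd with h | h
        · exact absurd (orderOf_eq_one_iff.1 h) ha1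
        · rw [h]
  rcases hfin with ⟨rfl, rfl⟩ | ⟨rfl, rfl⟩
  · left
    refine congrArg π (Subtype.ext ?_)
    ext i j
    fin_cases i <;> fin_cases j <;> simp [← hA, ← hB, a1, a2, a3, a4]
  · right
    rw [← map_inv]
    refine congrArg π (Subtype.ext ?_)
    rw [Matrix.SpecialLinearGroup.coe_inv, Matrix.adjugate_fin_two, ← hA, ← hB]
    ext i j
    fin_cases i <;> fin_cases j <;> simp [a1, a2, a3, a4, hτd]

end CfsgLib.ThreeCC.PSLTwo
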