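import Cfsg.Agent.ThreeCC.DegCase
import Cfsg.Agent.ThreeCC.PSLCase
import Cfsg.Agent.CITGroups.Final
import Cfsg.Agent.CITGraph.Main

/-!
A simple group with three such subgroups is a Suzuki group.
-/

set_option autoImplicit false
set_option linter.unusedSectionVars false
set_option linter.style.haveILetI false

namespace CfsgLib.ThreeCC

universe u

variable {G : Type u} [Group G] [Fintype G] {A₁ A₂ A₃ : Subgroup G}

/-- A subgroup with normaliser index `4` does not fit into `PSL(2, F)` away from the characteristic. -/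
theorem no_frame_psl {F : Type} [Field F] [Fintype F] {p : ℕ} [Fact p.Prime] [CharP F p]
    (e : G ≃* Matrix.ProjectiveSpecialLinearGroup (Fin 2) F) {A : Subgroup G} {u : G}
    (Fr : Frame A 4 u) (hp : ¬ p ∣ Nat.card A) : False := by
  obtain ⟨a, ha, ha1⟩ : ∃ a ∈ A, a ≠ 1 := (Subgroup.bot_or_exists_ne_one A).resolve_left fun h => by
    have := Fr.cc.one_lt
    rw [h, Subgroup.card_bot] at this
    omega
  have hord := Subgroup.orderOf_dvd_natCard A ha
  have hodd := Fr.odd (by norm_num)
  have hconj := Fr.cc.conj_mem Fr.mem ha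
  have h := PSLTwo.eq_or_eq_inv (p := p) (a := e a) (g := e u)
    (fun h => hp ((orderOf_injective e.toMonoidHom e.injective a ▸ h : p ∣ orderOf a).trans hord))
    (fun h => ha1 (e.injective (h.trans e.map_one.symm)))
    (fun h => Nat.not_even_iff_odd.2 hodd (even_iff_two_dvd.2
      ((orderOf_injective e.toMonoidHom e.injective a).symm.trans h ▸ hord)))
    (by rw [← map_inv, ← map_mul, ← map_mul, ← map_mul, ← map_mul, Fr.cc.comm hconj ha])
  rw [← map_inv, ← map_mul, ← map_mul, ← map_inv, e.injective.eq_iff, e.injective.eq_iff] at h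
  have h2 : u ^ 2 * a * (u ^ 2)⁻¹ = a := by
    rw [pow_two, mul_inv_rev, show u * u * a * (u⁻¹ * u⁻¹) = u * (u * a * u⁻¹) * u⁻¹ by group]
    rcases h with h | h <;> rw [h]
    · exact h
    · rw [show u * a⁻¹ * u⁻¹ = (u * a * u⁻¹)⁻¹ by group, h, inv_inv]
  have := (Fr.pow_mem 2).1 (Fr.cc.mem_of_commute ha ha1 (mul_inv_eq_iff_eq_mul.1 h2))
  omega

theorem isoSuzuki [IsSimpleGroup G] (hna : ¬ ∀ a b : G, a * b = b * a) (H : Hyp A₁ A₂ A₃) :
    Cfsg.Lie.IsoSuzuki G := by
  classical
  by_cases hcit : CfsgLib.CIT.IsCIT G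
  · rcases CfsgLib.CIT.simple_cit hcit
      (fun hs => hna (IsSimpleGroup.comm_iff_isSolvable.2 hs)) with ⟨F, _, _, -, ⟨e⟩⟩ |
      ⟨F, _, _, hF, ⟨e⟩⟩ | h
    · exfalso
      obtain ⟨p, hp⟩ := CharP.exists F
      haveI : Fact p.Prime := ⟨CharP.char_is_prime F p⟩
      by_cases h2 : p ∣ Nat.card A₂
      · exact no_frame_psl e H.f3.choose_spec fun h3 =>
          (Fact.out : p.Prime).ne_one (Nat.eq_one_of_dvd_coprimes H.co23 h2 h3)
      · exact no_frame_psl e H.f2.choose_spec h2
    · exfalso
      have hG : Nat.card G = 20160 := by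
        rw [Nat.card_congr e.toEquiv, CfsgLib.CITGraph.card_psl_three_four hF]
      have e2 := H.mod2
      have e3 := H.swap.mod2
      obtain ⟨g2, g3, hne⟩ := H.nine_le
      have hdiv : ∀ A : Subgroup G, Nat.card A % 4 = 1 → 9 ≤ Nat.card A →
          3 ∣ Nat.card A ∨ Nat.card A = 5 := by
        intro A h4 h9
        have hd := Subgroup.card_subgroup_dvd_card A
        rw [hG] at hd
        have hd' : Nat.card A ∣ 315 := by
          have hco : (Nat.card A).Coprime 64 := by
            rw [show 64 = 2 ^ 6 from rfl]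
            exact Nat.Coprime.pow_right _ (Nat.coprime_two_right.2 (Nat.odd_iff.2 (by omega)))
          exact hco.dvd_of_dvd_mul_left (show Nat.card A ∣ 64 * 315 from hd)
        have hle := Nat.le_of_dvd (by norm_num) hd'
        generalize Nat.card A = n at *
        have hmem : n ∈ Nat.divisors 315 := Nat.mem_divisors.2 ⟨hd', by norm_num⟩
        rw [show Nat.divisors 315 = {1, 3, 5, 7, 9, 15, 21, 35, 45, 63, 105, 315} by decide +kernel] at hmem
        simp only [Finset.mem_insert, Finset.mem_singleton] at hmem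
        omega
      rcases hdiv A₂ e2 g2 with h2 | h2 <;> rcases hdiv A₃ e3 g3 with h3 | h3
      · exact absurd (Nat.eq_one_of_dvd_coprimes H.co23 h2 h3) (by norm_num)
      all_goals omega
    · exact h
  · exfalso
    rw [CfsgLib.CIT.IsCIT] at hcit
    push Not at hcit
    obtain ⟨t0, ht0, hnp⟩ := hcit
    obtain ⟨S⟩ := exists_sys H
    obtain ⟨t1, -, hcl, -⟩ := S.involutions hna
    have hnc : ∀ t : G, orderOf t = 2 → ∃ p : ℕ, p.Prime ∧ p ≠ 2 ∧
        p ∣ Nat.card (Subgroup.centralizer ({t} : Set G)) := by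
      intro t ht
      by_contra hno
      push Not at hno
      apply hnp
      obtain ⟨g, hg⟩ := isConj_iff.1 ((hcl t ht).symm.trans (hcl t0 ht0))
      haveI : Fact (Nat.Prime 2) := ⟨Nat.prime_two⟩
      have hcard : Nat.card (Subgroup.centralizer ({t0} : Set G)) =
          Nat.card (Subgroup.centralizer ({t} : Set G)) := by
        have h1 := CfsgLib.Char.card_conj_class_mul_card_centralizer t
        have h2 := CfsgLib.Char.card_conj_class_mul_card_centralizer t0
        have hK : Nat.card {x : G // IsConj t x} = Nat.card {x : G // IsConj t0 x} := by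
          have hc : IsConj t t0 := isConj_iff.2 ⟨g, hg⟩
          exact Nat.card_congr (Equiv.subtypeEquivRight fun x =>
            ⟨fun h => hc.symm.trans h, fun h => hc.trans h⟩)
        rw [hK, ← h2] at h1
        haveI : Nonempty {x : G // IsConj t0 x} := ⟨⟨t0, IsConj.refl t0⟩⟩
        exact (Nat.eq_of_mul_eq_mul_left Nat.card_pos h1).symm
      obtain ⟨n, hn⟩ : ∃ n, Nat.card (Subgroup.centralizer ({t} : Set G)) = 2 ^ n :=
        ⟨_, Nat.eq_prime_pow_of_unique_prime_dvd Nat.card_pos.ne' fun {p} hp hd => by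
          by_contra hne
          exact hno p hp hne hd⟩
      exact IsPGroup.of_card (p := 2) (n := n) (hcard.trans hn)
    rcases S.kind with hk | hk
    · obtain ⟨B⟩ := S.exists_base hna hk hnc
      exact B.false
    · obtain ⟨B⟩ := S.swap.exists_base hna hk hnc
      exact B.false

end CfsgLib.ThreeCC
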