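import Mathlib.Tactic

/-!
Arithmetic for groups with three strongly self-centralising subgroups.
`a` is the value of the special character at an involution, `c` the order of the centraliser of
an involution, `r = h / c`.
-/

set_option autoImplicit false

namespace CfsgLib.ThreeCC

theorem y_dvd_mul {c y X r N a : ℕ} (hE : c * y * X = r * N * a ^ 2) (hy : y ∣ r * c)
    (hco : Nat.Coprime y N) : y ∣ r * a := by
  have h1 : y ^ 2 ∣ N * (r * a) ^ 2 := by
    have : N * (r * a) ^ 2 = (r * c) * y * X := by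
      calc N * (r * a) ^ 2 = r * (r * N * a ^ 2) := by ring
        _ = _ := by rw [← hE]; ring
    rw [this, sq]
    exact Dvd.dvd.mul_right (Nat.mul_dvd_mul hy dvd_rfl) X
  exact (Nat.pow_dvd_pow_iff (by norm_num)).1 ((hco.pow_left 2).dvd_of_dvd_mul_left h1)

/-- The data at an involution when both order `4` families are standard. -/
structure StdEq where
  (c r N m : ℕ)
  (y a X δ : ℤ)
  hm : 2 ≤ m
  hr : 0 < r
  hN : 117 ≤ N
  hδ : δ = 1 ∨ δ = -1
  hX : X = δ * (1 + δ * y)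
  hy : 0 < y
  hdiv : (N : ℤ) ∣ X
  hXpos : 0 < X
  eq : (c : ℤ) * y * X = r * N * (y - a) ^ 2
  col : 1 + a ^ 2 + m * (1 + δ * a) ^ 2 ≤ (c : ℤ)
  ord : r * c ≤ 3 * (2 * m + 1) * N
  ord' : (2 * m + 1) * N < r * c

namespace StdEq

variable (S : StdEq)

theorem le_X : (S.N : ℤ) ≤ S.X := Int.le_of_dvd S.hXpos S.hdiv

theorem X_le : S.X ≤ S.y + 1 ∧ S.y - 1 ≤ S.X := by
  have := S.hX
  rcases S.hδ with h | h <;> rw [h] at this <;> constructor <;> linarith

theorem y_ge : (S.N : ℤ) - 1 ≤ S.y := by linarith [S.le_X, S.X_le.1]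

theorem abs_sq : (S.r : ℤ) * (|S.a| - 1) ^ 2 ≤ 6 * S.N := by
  have h1 : (|S.a| - 1) ^ 2 ≤ (1 + S.δ * S.a) ^ 2 := by
    rcases S.hδ with h | h <;> rw [h] <;> rcases abs_choice S.a with e | e <;> rw [e] <;>
      nlinarith [abs_nonneg S.a, le_abs_self S.a, neg_abs_le S.a, sq_abs S.a]
  have h2 : (|S.a| - 1) ^ 2 ≤ 1 + S.a ^ 2 := by nlinarith [abs_nonneg S.a, sq_abs S.a]
  have hm : (0 : ℤ) ≤ S.m := Int.natCast_nonneg _
  have h3 : ((S.m : ℤ) + 1) * (|S.a| - 1) ^ 2 ≤ S.c := by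
    nlinarith [mul_le_mul_of_nonneg_left h1 hm, S.col]
  have h4 : (S.r : ℤ) * S.c ≤ 3 * (2 * S.m + 1) * S.N := by exact_mod_cast S.ord
  have hr : (0 : ℤ) ≤ S.r := Int.natCast_nonneg _
  have h5 : ((S.m : ℤ) + 1) * ((S.r : ℤ) * (|S.a| - 1) ^ 2) ≤ ((S.m : ℤ) + 1) * (6 * S.N) := by
    nlinarith [mul_le_mul_of_nonneg_left h3 hr, Int.natCast_nonneg S.N]
  exact le_of_mul_le_mul_left h5 (by linarith)

theorem abs_le_quarter : 4 * |S.a| ≤ S.y := by
  by_contra h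
  push Not at h
  have h1 := S.abs_sq
  have h2 : (1 : ℤ) ≤ S.r := by exact_mod_cast S.hr
  have h3 : (|S.a| - 1) ^ 2 ≤ 6 * (S.y + 1) := by
    nlinarith [sq_nonneg (|S.a| - 1), S.le_X, S.X_le.1]
  have h4 : (116 : ℤ) ≤ S.y := by
    have := S.y_ge; have : (117 : ℤ) ≤ S.N := by exact_mod_cast S.hN
    linarith
  nlinarith

theorem r_sq : 3 * 116 * S.r ^ 2 ≤ 16 * 117 * (2 * S.m + 1) := by
  have h4 : (116 : ℤ) ≤ S.y := by
    have := S.y_ge; have : (117 : ℤ) ≤ S.N := by exact_mod_cast S.hN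
    linarith
  have h1 := S.abs_le_quarter
  have h2 : 9 * S.y ^ 2 ≤ 16 * (S.y - S.a) ^ 2 := by
    nlinarith [le_abs_self S.a, neg_abs_le S.a]
  have hN : (0 : ℤ) < S.N := by exact_mod_cast (show 0 < S.N by linarith [S.hN])
  have h3 : (S.r : ℤ) ^ 2 * (S.y - S.a) ^ 2 * S.N ≤ 3 * (2 * S.m + 1) * S.y * (S.y + 1) * S.N := by
    have hord : (S.r : ℤ) * S.c ≤ 3 * (2 * S.m + 1) * S.N := by exact_mod_cast S.ord
    have hyX : S.y * S.X ≤ S.y * (S.y + 1) := mul_le_mul_of_nonneg_left S.X_le.1 S.hy.le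
    have hyX0 : 0 ≤ S.y * S.X := mul_nonneg S.hy.le S.hXpos.le
    calc (S.r : ℤ) ^ 2 * (S.y - S.a) ^ 2 * S.N = (S.r * S.c) * (S.y * S.X) := by
          linear_combination -(S.r : ℤ) * S.eq
      _ ≤ (3 * (2 * S.m + 1) * S.N) * (S.y * (S.y + 1)) :=
          mul_le_mul hord hyX hyX0 (by positivity)
      _ = _ := by ring
  have h5 := le_of_mul_le_mul_right h3 hN
  have h6 : (9 * (S.r : ℤ) ^ 2 * S.y) * S.y ≤ (48 * (2 * S.m + 1) * (S.y + 1)) * S.y := by
    nlinarith [mul_le_mul_of_nonneg_left h2 (sq_nonneg (S.r : ℤ))]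
  have h7 := le_of_mul_le_mul_right h6 S.hy
  have h8 : 116 * (S.y + 1) ≤ 117 * S.y := by linarith
  have h9 : (3 * 116 * (S.r : ℤ) ^ 2) * S.y ≤ (16 * 117 * (2 * S.m + 1)) * S.y := by
    nlinarith [Int.natCast_nonneg S.m]
  exact_mod_cast le_of_mul_le_mul_right h9 S.hy

theorem r_ne_one : S.r ≠ 1 := by
  intro hr
  have h4 : (116 : ℤ) ≤ S.y := by
    have := S.y_ge; have : (117 : ℤ) ≤ S.N := by exact_mod_cast S.hN
    linarith
  have hN : (0 : ℤ) < S.N := by exact_mod_cast (show 0 < S.N by linarith [S.hN])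
  have h1 := S.abs_le_quarter
  have h2 : 16 * (S.y - S.a) ^ 2 ≤ 25 * S.y ^ 2 := by
    nlinarith [le_abs_self S.a, neg_abs_le S.a]
  have he := S.eq
  have ho : (2 * (S.m : ℤ) + 1) * S.N < S.r * S.c := by exact_mod_cast S.ord'
  rw [hr, Nat.cast_one, one_mul] at he ho
  have hyX : S.y * (S.y - 1) ≤ S.y * S.X := mul_le_mul_of_nonneg_left S.X_le.2 S.hy.le
  have hm : (5 : ℤ) ≤ 2 * S.m + 1 := by exact_mod_cast (show 5 ≤ 2 * S.m + 1 by linarith [S.hm])
  have h3 : (5 * (S.y * (S.y - 1))) * S.N ≤ (S.y - S.a) ^ 2 * S.N := by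
    have a1 : 5 * (S.N : ℤ) ≤ S.c := by nlinarith
    have a0 : 0 ≤ S.y * (S.y - 1) := mul_nonneg S.hy.le (by linarith)
    calc (5 * (S.y * (S.y - 1))) * S.N = (5 * S.N) * (S.y * (S.y - 1)) := by ring
      _ ≤ S.c * (S.y * S.X) := mul_le_mul a1 hyX a0 (Int.natCast_nonneg _)
      _ = _ := by linear_combination he
  nlinarith [le_of_mul_le_mul_right h3 hN]

theorem a_eq_zero (hr : S.r ≤ 8) (hdy : S.y.natAbs ∣ S.r * S.c)
    (hco : Nat.Coprime S.y.natAbs S.N) : S.a = 0 := by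
  by_contra ha
  have h4 : (116 : ℤ) ≤ S.y := by
    have := S.y_ge; have : (117 : ℤ) ≤ S.N := by exact_mod_cast S.hN
    linarith
  have he : S.c * S.y.natAbs * S.X.natAbs = S.r * S.N * (S.y - S.a).natAbs ^ 2 := by
    have := congrArg Int.natAbs S.eq
    simpa [Int.natAbs_mul, Int.natAbs_pow] using this
  have h1 : S.y ∣ (S.r : ℤ) * (S.y - S.a) := by
    have := y_dvd_mul he hdy hco
    rw [← Int.natAbs_dvd_natAbs, Int.natAbs_mul, Int.natAbs_natCast]
    exact this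
  have h2 : S.y ∣ (S.r : ℤ) * S.a := by
    have := (dvd_mul_left S.y (S.r : ℤ)).sub h1
    rwa [← mul_sub, sub_sub_cancel] at this
  have hr0 : (S.r : ℤ) ≠ 0 := by exact_mod_cast S.hr.ne'
  have h3 := Int.le_of_dvd (abs_pos.2 (mul_ne_zero hr0 ha)) ((dvd_abs _ _).2 h2)
  rw [abs_mul, Nat.abs_cast] at h3
  have hr' : (S.r : ℤ) ≤ 8 := by exact_mod_cast hr
  have h5 : (S.y - S.r) ^ 2 ≤ 6 * S.r * (S.y + 1) := by
    have h7 : 0 ≤ S.y - S.r := by linarith
    have h8 : S.y - S.r ≤ S.r * (|S.a| - 1) := by linarith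
    calc (S.y - S.r) ^ 2 ≤ ((S.r : ℤ) * (|S.a| - 1)) ^ 2 := by nlinarith
      _ = S.r * (S.r * (|S.a| - 1) ^ 2) := by ring
      _ ≤ S.r * (6 * (S.y + 1)) := mul_le_mul_of_nonneg_left
          (le_trans S.abs_sq (by linarith [S.le_X, S.X_le.1])) (Int.natCast_nonneg _)
      _ = _ := by ring
  nlinarith

theorem c_large (hr : 3 ≤ S.r) (hN : 221 ≤ S.N) : 289 ≤ S.c := by
  have h4 : (220 : ℤ) ≤ S.y := by
    have := S.y_ge; have : (221 : ℤ) ≤ S.N := by exact_mod_cast hN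
    linarith
  have h1 := S.abs_le_quarter
  have h2 : 9 * S.y ^ 2 ≤ 16 * (S.y - S.a) ^ 2 := by
    nlinarith [le_abs_self S.a, neg_abs_le S.a]
  have hN' : (221 : ℤ) ≤ S.N := by exact_mod_cast hN
  have hr' : (3 : ℤ) ≤ S.r := by exact_mod_cast hr
  have h3 : (663 : ℤ) * (9 * S.y ^ 2) ≤ (S.r * S.N) * (16 * (S.y - S.a) ^ 2) :=
    mul_le_mul (by nlinarith) h2 (by positivity) (by positivity)
  have h5 : (663 * 9 * S.y) * S.y ≤ (16 * S.c * (S.y + 1)) * S.y := by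
    have hX := mul_le_mul_of_nonneg_left S.X_le.1
      (mul_nonneg (Int.natCast_nonneg S.c) S.hy.le)
    nlinarith [S.eq]
  have h6 := le_of_mul_le_mul_right h5 S.hy
  by_contra hc
  have : (S.c : ℤ) ≤ 288 := by exact_mod_cast (show S.c ≤ 288 by omega)
  nlinarith

/-- With `a = 0` the cofactor divides `r`. -/
theorem of_a_zero (ha : S.a = 0) : ∃ z : ℕ, S.X = S.N * z ∧ (S.c : ℤ) * z = S.r * S.y ∧ z ∣ S.r := by
  obtain ⟨k, hk⟩ := S.hdiv
  have hk0 : 0 < k := by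
    have := S.hXpos; rw [hk] at this
    exact (pos_iff_pos_of_mul_pos this).1 (by exact_mod_cast (show 0 < S.N by linarith [S.hN]))
  lift k to ℕ using hk0.le
  have he := S.eq
  rw [ha, sub_zero, hk] at he
  have hy0 := S.hy.ne'
  have hN0 : (S.N : ℤ) ≠ 0 := by exact_mod_cast (show S.N ≠ 0 by linarith [S.hN])
  have h1 : (S.c : ℤ) * k = S.r * S.y := by
    have : ((S.c : ℤ) * k - S.r * S.y) * (S.y * S.N) = 0 := by linear_combination he
    linarith [(mul_eq_zero.1 this).resolve_right (mul_ne_zero hy0 hN0)]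
  refine ⟨k, hk, h1, ?_⟩
  have hco : IsCoprime (k : ℤ) S.y := by
    have hX := S.hX
    rw [hk] at hX
    refine ⟨S.δ * S.N, -S.δ, ?_⟩
    rcases S.hδ with h | h <;> rw [h] at hX ⊢ <;> linarith
  have : (k : ℤ) ∣ S.r := hco.dvd_of_dvd_mul_right ⟨S.c, by linear_combination -h1⟩
  exact_mod_cast this

end StdEq

/-- The data at an involution when one family is degenerate. -/
structure DegEq where
  (c r N : ℕ)
  (y a X δ : ℤ)
  hr : 0 < r
  hδ : δ = 1 ∨ δ = -1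
  hX : X = δ * (1 + δ * y)
  hy : 0 < y
  hX17 : 17 ≤ X
  hN : 0 < N
  hdiv : (N : ℤ) ∣ y * X
  eq : (c : ℤ) * y * X = r * N * (y - a) ^ 2
  col : 23 * (1 + δ * a) ^ 2 ≤ 4 * (c : ℤ)
  ord : r * c ≤ 15 * N
  ord' : 5 * N < r * c

namespace DegEq

variable (S : DegEq)

theorem sub_eq : S.y - S.a = S.X - S.δ * (1 + S.δ * S.a) := by
  have := S.hX
  rcases S.hδ with h | h <;> rw [h] at this ⊢ <;> linarith

theorem b_sq : 23 * (S.δ * (1 + S.δ * S.a)) ^ 2 ≤ 4 * S.r * (S.y - S.a) ^ 2 := by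
  have hyX : 0 < S.y * S.X := mul_pos S.hy (by linarith [S.hX17])
  have hle : (S.N : ℤ) ≤ S.y * S.X := Int.le_of_dvd hyX S.hdiv
  have h1 : (S.c : ℤ) * (S.y * S.X) ≤ (S.r * (S.y - S.a) ^ 2) * (S.y * S.X) := by
    have := mul_le_mul_of_nonneg_left hle
      (mul_nonneg (Int.natCast_nonneg S.r) (sq_nonneg (S.y - S.a)))
    linarith [S.eq]
  have h2 := le_of_mul_le_mul_right h1 hyX
  have h3 : (S.δ * (1 + S.δ * S.a)) ^ 2 = (1 + S.δ * S.a) ^ 2 := by
    rcases S.hδ with h | h <;> rw [h] <;> ring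
  rw [h3]; linarith [S.col]

theorem X_le : S.y ≤ S.X + 1 ∧ S.X - 1 ≤ S.y := by
  have := S.hX
  rcases S.hδ with h | h <;> rw [h] at this <;> constructor <;> linarith

theorem r_ne_one : S.r ≠ 1 := by
  intro hr
  have hb := S.b_sq
  have he := S.eq
  have ho : 5 * (S.N : ℤ) < S.r * S.c := by exact_mod_cast S.ord'
  rw [hr, Nat.cast_one, one_mul] at he ho
  rw [hr, Nat.cast_one, mul_one] at hb
  have hs := S.sub_eq
  generalize hP : S.y - S.a = P at hb hs he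
  generalize hB : S.δ * (1 + S.δ * S.a) = B at hb hs
  have hN : (0 : ℤ) < S.N := by exact_mod_cast S.hN
  have hX := S.hX17
  have hyX : (S.X - 1) * S.X ≤ S.y * S.X := mul_le_mul_of_nonneg_right S.X_le.2 (by linarith)
  have h3 : (5 * ((S.X - 1) * S.X)) * S.N ≤ P ^ 2 * S.N := by
    calc (5 * ((S.X - 1) * S.X)) * S.N = (5 * S.N) * ((S.X - 1) * S.X) := by ring
      _ ≤ S.c * (S.y * S.X) := mul_le_mul ho.le hyX (by nlinarith) (Int.natCast_nonneg _)
      _ = _ := by linear_combination he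
  have h4 := le_of_mul_le_mul_right h3 hN
  have h5 : 7 * |B| ≤ 3 * |P| := by nlinarith [sq_abs B, sq_abs P, abs_nonneg B, abs_nonneg P]
  have h6 : 4 * |P| ≤ 7 * S.X := by
    have : |P| ≤ S.X + |B| := by
      rw [hs]; exact le_trans (abs_sub _ _) (by rw [abs_of_nonneg (show 0 ≤ S.X by linarith)])
    linarith
  nlinarith [sq_abs P, abs_nonneg P]

theorem r_le : S.r ≤ 8 := by
  by_contra hr
  have hr' : (9 : ℤ) ≤ S.r := by exact_mod_cast (show 9 ≤ S.r by omega)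
  have hb := S.b_sq
  have he := S.eq
  have hs := S.sub_eq
  have ho : (S.r : ℤ) * S.c ≤ 15 * S.N := by exact_mod_cast S.ord
  generalize hP : S.y - S.a = P at hb hs he
  generalize hB : S.δ * (1 + S.δ * S.a) = B at hb hs
  have hN : (0 : ℤ) < S.N := by exact_mod_cast S.hN
  have hX := S.hX17
  have hyX : S.y * S.X ≤ (S.X + 1) * S.X := mul_le_mul_of_nonneg_right S.X_le.1 (by linarith)
  have h3 : ((S.r : ℤ) * P) ^ 2 * S.N ≤ (15 * ((S.X + 1) * S.X)) * S.N := by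
    calc ((S.r : ℤ) * P) ^ 2 * S.N = (S.r * S.c) * (S.y * S.X) := by
          linear_combination -(S.r : ℤ) * he
      _ ≤ (15 * S.N) * ((S.X + 1) * S.X) := mul_le_mul ho hyX
          (mul_nonneg S.hy.le (by linarith)) (by positivity)
      _ = _ := by ring
  have h4 := le_of_mul_le_mul_right h3 hN
  have hQ : 0 ≤ (S.r : ℤ) * |P| := by positivity
  have h5 : 100000 * |B| ≤ 13901 * ((S.r : ℤ) * |P|) := by
    have : 23 * B ^ 2 * 9 ≤ 4 * ((S.r : ℤ) * |P|) ^ 2 := by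
      rw [mul_pow, sq_abs]
      nlinarith [mul_le_mul_of_nonneg_right hr' (mul_nonneg (Int.natCast_nonneg S.r) (sq_nonneg P))]
    nlinarith [sq_abs B, abs_nonneg B]
  have h6 : 900000 * S.X ≤ (100000 + 9 * 13901) * ((S.r : ℤ) * |P|) := by
    have h7 : S.X ≤ |P| + |B| := by
      have : S.X = P + B := by linarith
      rw [this]; exact add_le_add (le_abs_self _) (le_abs_self _)
    have h8 : 9 * |P| ≤ (S.r : ℤ) * |P| := mul_le_mul_of_nonneg_right hr' (abs_nonneg P)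
    linarith
  have h9 : ((S.r : ℤ) * |P|) ^ 2 * 17 ≤ 15 * 18 * S.X ^ 2 := by
    rw [mul_pow, sq_abs, ← mul_pow]; nlinarith
  nlinarith

end DegEq

end CfsgLib.ThreeCC
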