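import Cfsg.Agent.ThreeCC.Shape

/-!
With a Sylow `3`-subgroup of order `9` in `C(t)`, that centraliser is small.
-/

set_option autoImplicit false
set_option linter.unusedSectionVars false
set_option linter.style.haveILetI false

namespace CfsgLib.ThreeCC

open Subgroup

universe u

variable {G : Type u} [Group G] [Finite G]

theorem eq_of_five {E : Subgroup G} (hE : Nat.card E = 4) {a b c d e : G} (ha : a ∈ E) (hb : b ∈ E)
    (hc : c ∈ E) (hd : d ∈ E) (he : e ∈ E) (h : [a, b, c, d].Nodup) :
    e = a ∨ e = b ∨ e = c ∨ e = d := by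
  classical
  by_contra hne
  simp only [not_or] at hne
  haveI := Fintype.ofFinite E
  have h5 : ([⟨a, ha⟩, ⟨b, hb⟩, ⟨c, hc⟩, ⟨d, hd⟩, ⟨e, he⟩] : List E).Nodup := by
    refine List.Nodup.of_map Subtype.val ?_
    simp only [List.map_cons, List.map_nil]
    simp only [List.nodup_cons, List.mem_cons, List.not_mem_nil, or_false, not_or, List.nodup_nil,
      and_true, not_false_iff] at h ⊢
    obtain ⟨⟨p1, p2, p3⟩, ⟨p4, p5⟩, p6⟩ := h
    exact ⟨⟨p1, p2, p3, Ne.symm hne.1⟩, ⟨p4, p5, Ne.symm hne.2.1⟩, ⟨p6, Ne.symm hne.2.2.1⟩,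
      Ne.symm hne.2.2.2⟩
  have := h5.length_le_card
  rw [← Nat.card_eq_fintype_card, hE] at this
  simp at this

namespace At

variable {M : ℕ} {t : G} {r : ℕ} {x : G} (A : At M t r x)
include A

/-- The 2-elements of `C(tx)` form a subgroup centralised by the elements of odd order. -/
theorem exists_two_group {l g d : ℕ} (hg : g = r ∨ (r = 3 ∧ g = 9))
    (hD : Nat.card (centralizer ({t * x} : Set G)) = 2 ^ l * g)
    (hX : Nat.card (centralizer ({x} : Set G)) = r ^ d * (2 ^ l * g))
    (h : l = 1 ∨ (l = 2 ∧ r = 3 ∧ d = 1 ∧ ∀ u v : G, orderOf u = 2 → orderOf v = 2 →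
      u * x = x * u → v * x = x * v → u * v = v * u)) :
    ∃ E : Subgroup G, E ≤ centralizer ({t * x} : Set G) ∧ Nat.card E = 2 ^ l ∧
      (∀ v ∈ centralizer ({t * x} : Set G), ∀ k, orderOf v = 2 ^ k → v ∈ E) ∧
      ∀ y ∈ centralizer ({t * x} : Set G), Odd (orderOf y) → ∀ e ∈ E, e * y = y * e := by
  classical
  rcases h with rfl | ⟨rfl, hr3, rfl, hcomm⟩
  · refine ⟨zpowers t, zpowers_le.2 A.tx_mem, by rw [Nat.card_zpowers, A.five.ord_t, pow_one],
      fun v hv k hk => A.two_elts hg (by rwa [pow_one] at hD) hv hk, fun y hy _ e he => ?_⟩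
    obtain ⟨i, rfl⟩ := mem_zpowers_iff.1 he
    exact (((show Commute y t from (A.mem_prod.1 hy).1).zpow_right i).symm).eq
  · have hnI : Nat.card {s : centralizer ({x} : Set G) // orderOf (s : G) = 2} = 3 := by
      have := A.card_invol
      rw [hX, hD, hr3, pow_one] at this
      exact Nat.eq_of_mul_eq_mul_right (Nat.mul_pos (by norm_num)
        (by rcases hg with e | ⟨-, e⟩ <;> omega)) this
    set X := centralizer ({x} : Set G)
    obtain ⟨E0, hEn, hE, hEc⟩ := A.exists_elem_group hcomm
    rw [hnI] at hEc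
    have hcard : Nat.card (E0.map X.subtype) = 4 := by
      rw [Subgroup.card_map_of_injective X.subtype_injective, hEc]
    have hmem : ∀ v : G, v ∈ E0.map X.subtype ↔ v * x = x * v ∧ v * v = 1 := by
      intro v
      rw [Subgroup.mem_map]
      constructor
      · rintro ⟨w, hw, rfl⟩
        exact ⟨mem_centralizer_singleton_iff.1 w.2, congrArg Subtype.val ((hE w).1 hw)⟩
      · rintro ⟨h1, h2⟩
        exact ⟨⟨v, mem_centralizer_singleton_iff.2 h1⟩, (hE _).2 (Subtype.ext h2), rfl⟩
    have htE : t ∈ E0.map X.subtype := (hmem t).2 ⟨A.comm.symm, by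
      rw [← pow_two, ← A.five.ord_t, pow_orderOf_eq_one]⟩
    have hcom : ∀ v ∈ E0.map X.subtype, v * t = t * v := by
      intro v hv
      by_cases hv1 : v = 1
      · simp [hv1]
      · exact hcomm v t (orderOf_eq_prime (by rw [pow_two]; exact ((hmem v).1 hv).2) hv1) A.five.ord_t
          ((hmem v).1 hv).1 A.comm.symm
    refine ⟨E0.map X.subtype, fun v hv => A.mem_prod.2 ⟨hcom v hv, ((hmem v).1 hv).1⟩, by
      rw [hcard]; norm_num, ?_, ?_⟩
    · intro v hv k hk
      refine (hmem v).2 ⟨(A.mem_prod.1 hv).2, ?_⟩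
      have hk2 := A.pow_four hk (A.mem_prod.1 hv).2
      interval_cases k
      · rw [orderOf_eq_one_iff.1 (by simpa using hk : orderOf v = 1), one_mul]
      · rw [← pow_two, ← (show orderOf v = 2 by simpa using hk), pow_orderOf_eq_one]
      · exact absurd (A.mem_prod.1 hv).2 (A.no_four_klein hcomm hnI (by simpa using hk))
    · intro y hy hodd e he
      by_contra hne
      have he1 : e ≠ 1 := fun h => hne (by simp [h])
      have het : e ≠ t := fun h => hne (by rw [h]; exact (A.mem_prod.1 hy).1.symm)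
      have ht1 : t ≠ 1 := fun h => by
        have := A.five.ord_t
        rw [h, orderOf_one] at this
        omega
      have hte : t * e ∈ E0.map X.subtype := mul_mem htE he
      have hw : y * e * y⁻¹ ∈ E0.map X.subtype := by
        refine (hmem _).2 ⟨?_, ?_⟩
        · exact (((show Commute y x from (A.mem_prod.1 hy).2).mul_left
            (show Commute e x from ((hmem e).1 he).1)).mul_left
            (show Commute y x from (A.mem_prod.1 hy).2).inv_left).eq
        · rw [show y * e * y⁻¹ * (y * e * y⁻¹) = y * (e * e) * y⁻¹ by group, ((hmem e).1 he).2,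
            mul_one, mul_inv_cancel]
      have hyt : y * t * y⁻¹ = t := mul_inv_eq_iff_eq_mul.2 (A.mem_prod.1 hy).1
      have hnd : [1, t, e, t * e].Nodup := by
        simp only [List.nodup_cons, List.mem_cons, List.not_mem_nil, or_false, not_or, List.nodup_nil,
          and_true, not_false_iff]
        refine ⟨⟨Ne.symm ht1, Ne.symm he1, ?_⟩, ⟨Ne.symm het, ?_⟩, ?_⟩
        · intro h
          exact het ((eq_inv_of_mul_eq_one_right h.symm).trans
            (inv_eq_of_mul_eq_one_right ((hmem t).1 htE).2))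
        · exact fun h => he1 (mul_eq_left.1 h.symm)
        · exact fun h => ht1 (mul_eq_right.1 h.symm)
      rcases eq_of_five hcard (one_mem _) htE he hte hw hnd with h | h | h | h
      · exact he1 (by simpa using h)
      · exact het (mul_left_cancel (mul_right_cancel (h.trans hyt.symm)))
      · exact hne (mul_inv_eq_iff_eq_mul.1 h).symm
      · have h2 : y ^ 2 * e * (y ^ 2)⁻¹ = e := by
          calc y ^ 2 * e * (y ^ 2)⁻¹ = y * (y * e * y⁻¹) * y⁻¹ := by rw [pow_two]; group
            _ = (y * t * y⁻¹) * (y * e * y⁻¹) := by nth_rewrite 1 [h]; group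
            _ = t * t * e := by rw [hyt, h, mul_assoc]
            _ = e := by rw [((hmem t).1 htE).2, one_mul]
        obtain ⟨j, hj⟩ := hodd
        have hy' : (y ^ 2) ^ (j + 1) = y := by
          rw [← pow_mul, show 2 * (j + 1) = orderOf y + 1 by omega, pow_succ, pow_orderOf_eq_one, one_mul]
        have := ((show Commute (y ^ 2) e from mul_inv_eq_iff_eq_mul.1 h2).pow_left (j + 1)).eq
        rw [hy'] at this
        exact hne this.symm

/-- With a Sylow `r`-subgroup of order `9`, `|C(t)| ≤ 288`. -/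
theorem ct_le {ρ : ℕ} (I : Idx M t ρ) (h9 : ∃ a, Nat.card (centralizer ({t} : Set G)) = 2 ^ a * 9)
    (h3 : r = 3) : Nat.card (centralizer ({t} : Set G)) ≤ 288 := by
  classical
  haveI := Fact.mk A.hr
  haveI : Fact (Nat.Prime 2) := ⟨Nat.prime_two⟩
  obtain ⟨a, l, g, d, hg, hc, hD, hX, -, hl⟩ := A.shape I
  obtain ⟨b, hb⟩ := h9
  have hg9 : g = 9 := by
    rcases hg with e | ⟨-, e⟩
    · exfalso
      rw [e, h3] at hc
      have : 9 ∣ 2 ^ a * 3 := ⟨2 ^ b, by rw [← hc, hb, mul_comm]⟩
      have := (show Nat.Coprime 9 (2 ^ a) from Nat.Coprime.pow_right a (by norm_num)).dvd_of_dvd_mul_left this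
      omega
    · exact e
  have hl' : l = 1 ∨ (l = 2 ∧ r = 3 ∧ d = 1 ∧ ∀ u v : G, orderOf u = 2 → orderOf v = 2 →
      u * x = x * u → v * x = x * v → u * v = v * u) := hl.imp And.left id
  have hl2 : l ≤ 2 := by rcases hl' with e | ⟨e, -⟩ <;> omega
  obtain ⟨E, hED, hEc, hE2, hEodd⟩ := A.exists_two_group hg hD hX hl'
  set H := centralizer ({t} : Set G)
  have memH : ∀ y : H, (y : G) * t = t * y := fun y => mem_centralizer_singleton_iff.1 y.2
  obtain ⟨P, hP⟩ := (IsPGroup.of_card (p := r) (n := 1)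
    (by rw [Nat.card_zpowers, Subgroup.orderOf_mk, A.ord_x, pow_one]) :
      IsPGroup r (zpowers (⟨x, A.x_mem_ct⟩ : H))).exists_le_sylow
  obtain ⟨hPc, hPexp, hPab⟩ := A.sylow_ct P
  have hP9 : Nat.card (P : Subgroup H) = 9 := by
    rcases hPc with e | ⟨-, e⟩
    · exfalso
      have h := P.pow_dvd_card_of_pow_dvd_card (n := 2)
        (by rw [hb, h3]; exact dvd_mul_left _ _)
      rw [e, h3] at h
      norm_num at h
    · exact e
  have hnc : ¬ IsCyclic (P : Subgroup H) := fun hcyc => by
    obtain ⟨y, hy⟩ := hcyc.exists_ofOrder_eq_natCard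
    rw [hP9] at hy
    by_cases h1 : (y : H) = 1
    · rw [show y = 1 from Subtype.ext h1, orderOf_one] at hy; omega
    · rw [← Subgroup.orderOf_coe, hPexp y y.2 h1, h3] at hy; omega
  have hPD : ∀ y ∈ (P : Subgroup H), ((y : G)) ∈ centralizer ({t * x} : Set G) := fun y hy =>
    A.mem_prod.2 ⟨memH y, congrArg Subtype.val (hPab y hy _ (hP (mem_zpowers _)))⟩
  have hodd : ∀ y ∈ (P : Subgroup H), Odd (orderOf (y : G)) := by
    intro y hy
    rw [Subgroup.orderOf_coe]
    by_cases h1 : y = 1
    · simp [h1]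
    · rw [hPexp y hy h1, h3]; decide
  -- 2-elements centralising an element of `P`
  have hcent : ∀ y ∈ (P : Subgroup H), y ≠ 1 → ∀ v : H, ∀ k, orderOf v = 2 ^ k → y * v = v * y →
      (v : G) ∈ E := by
    intro y hy hy1 v k hk hyv
    obtain ⟨c, hct, hcx⟩ := A.conj_x_ct (x' := (y : G))
      (by rw [Subgroup.orderOf_coe, hPexp y hy hy1]) (memH y)
    have htc : c * t * c⁻¹ = t := mul_inv_eq_iff_eq_mul.2 hct
    have hmv : ∀ w : G, w * t = t * w → w * (y : G) = y * w →
        c⁻¹ * w * c ∈ centralizer ({t * x} : Set G) := by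
      intro w h1 h2
      refine A.mem_prod.2 ⟨?_, ?_⟩
      · calc c⁻¹ * w * c * t = c⁻¹ * (w * (c * t * c⁻¹)) * c := by group
          _ = c⁻¹ * (c * t * c⁻¹ * w) * c := by rw [htc, h1]
          _ = t * (c⁻¹ * w * c) := by group
      · calc c⁻¹ * w * c * x = c⁻¹ * (w * (c * x * c⁻¹)) * c := by group
          _ = c⁻¹ * (c * x * c⁻¹ * w) * c := by rw [hcx, h2]
          _ = x * (c⁻¹ * w * c) := by group
    have hord : ∀ w : G, orderOf (c⁻¹ * w * c) = orderOf w := fun w => by
      have := orderOf_conj' c⁻¹ w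
      rwa [inv_inv] at this
    have hEconj : ∀ e ∈ E, c⁻¹ * e * c ∈ E := by
      intro e he
      obtain ⟨j, -, hj⟩ := (Nat.dvd_prime_pow Nat.prime_two).1
        (hEc ▸ Subgroup.orderOf_dvd_natCard E he : orderOf e ∣ 2 ^ l)
      exact hE2 _ (hmv e (A.mem_prod.1 (hED he)).1 (hEodd _ (hPD y hy) (hodd y hy) e he)) j
        ((hord e).trans hj)
    obtain ⟨⟨e, he⟩, hce⟩ := ((Finite.injective_iff_surjective
      (f := fun e : E => (⟨c⁻¹ * e * c, hEconj e e.2⟩ : E))).1
      (fun a b hab => by
        have := congrArg Subtype.val hab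
        exact Subtype.ext (mul_left_cancel (mul_right_cancel this))))
      ⟨_, hE2 _ (hmv v (memH v) (congrArg Subtype.val hyv).symm) k
        (by rw [hord, Subgroup.orderOf_coe, hk])⟩
    have : c⁻¹ * e * c = c⁻¹ * (v : G) * c := congrArg Subtype.val hce
    rw [← mul_left_cancel (mul_right_cancel this)]
    exact he
  have hn : (P : Subgroup H).Normal := Grp.sylow_normal (fun p hp h => A.primes_ct hp h) P hPab
    fun V hVn hV v hv y hy => by
      haveI := hVn
      haveI : Group.IsNilpotent V := hV.isNilpotent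
      have hle : V ≤ E.subgroupOf H := by
        refine Grp.le_of_centralizers hPab hnc (fun k _ w hw => hVn.conj_mem w hw k) ?_ ?_
        · obtain ⟨i, hi⟩ := hV.exists_card_eq
          rw [hP9, hi]
          exact Nat.Coprime.pow_right i (by norm_num)
        · intro k hk hk1 w hw hcomm
          obtain ⟨i, hi⟩ := IsPGroup.iff_orderOf.1 hV ⟨w, hw⟩
          exact Subgroup.mem_subgroupOf.2
            (hcent k hk hk1 w i (by rw [← Subgroup.orderOf_mk w hw, hi]) hcomm)
      exact Subtype.ext (hEodd _ (hPD y hy) (hodd y hy) _ (Subgroup.mem_subgroupOf.1 (hle hv)))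
  -- the class of `x` in `C(t)` lies in `P`
  have hcl := CfsgLib.Char.card_conj_class_mul_card_centralizer (⟨x, A.x_mem_ct⟩ : H)
  have h8 : Nat.card {y : H // IsConj (⟨x, A.x_mem_ct⟩ : H) y} ≤ 8 := by
    haveI := Fintype.ofFinite H
    rw [Nat.card_eq_fintype_card, Fintype.card_subtype]
    refine le_trans (Finset.card_le_card (t := (Finset.univ.filter fun y : H => y ∈ (P : Subgroup H)).erase 1)
      fun y hy => ?_) ?_
    · simp only [Finset.mem_filter, Finset.mem_univ, true_and] at hy
      obtain ⟨c, rfl⟩ := isConj_iff.1 hy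
      refine Finset.mem_erase.2 ⟨fun e => ?_, Finset.mem_filter.2
        ⟨Finset.mem_univ _, hn.conj_mem _ (hP (mem_zpowers _)) c⟩⟩
      have := congrArg orderOf e
      rw [orderOf_one, orderOf_isConj (isConj_iff.2 ⟨c, rfl⟩).symm, Subgroup.orderOf_mk, A.ord_x] at this
      exact A.hr.one_lt.ne' this
    · rw [Finset.card_erase_of_mem (Finset.mem_filter.2 ⟨Finset.mem_univ _, one_mem _⟩),
        ← Fintype.card_subtype, ← Nat.card_eq_fintype_card]
      exact le_of_eq (by rw [hP9])
  have hcD : Nat.card (centralizer ({(⟨x, A.x_mem_ct⟩ : H)} : Set H)) =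
      Nat.card (centralizer ({t * x} : Set G)) := by
    refine Nat.card_congr
      { toFun := fun c => ⟨((c : H) : G), A.mem_prod.2 ⟨memH _,
          congrArg Subtype.val (mem_centralizer_singleton_iff.1 c.2)⟩⟩
        invFun := fun c => ⟨⟨c, mem_centralizer_singleton_iff.2 (A.mem_prod.1 c.2).1⟩,
          mem_centralizer_singleton_iff.2 (Subtype.ext (A.mem_prod.1 c.2).2)⟩
        left_inv := fun c => rfl
        right_inv := fun c => rfl }
  rw [hcD, hD, hg9] at hcl
  rw [← hcl]
  calc _ ≤ 8 * (2 ^ 2 * 9) :=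
        Nat.mul_le_mul h8 (Nat.mul_le_mul_right _ (Nat.pow_le_pow_right (by norm_num) hl2))
    _ = 288 := by norm_num

end At

end CfsgLib.ThreeCC
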