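import Cfsg.Agent.ThreeCC.Values
import Cfsg.Agent.ThreeCC.Invol
import Cfsg.Agent.ThreeCC.Gamma
import Cfsg.Agent.Char.Central

/-!
The data of the case in which the centraliser of an involution is not a 2-group.
-/

set_option autoImplicit false
set_option linter.unusedSectionVars false
set_option linter.style.haveILetI false

namespace CfsgLib.ThreeCC

open CfsgLib.Char
open scoped ComplexConjugate Classical

universe u

variable {G : Type u} [Group G] [Fintype G] {A₁ A₂ A₃ : Subgroup G}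

/-- The involution, an element of odd prime order centralising it, and the index `ρ`. -/
structure Base (S : Sys A₁ A₂ A₃) where
  kind : S.HasKind
  t : G
  av : ℤ
  r : ℕ
  x : G
  ρ : ℕ
  at_ : At (Nat.card A₁ * Nat.card A₂ * Nat.card A₃) t r x
  χ_t : S.χ t = av
  card : Nat.card G =
    Nat.card A₁ * Nat.card A₂ * Nat.card A₃ * ρ * Nat.card (Subgroup.centralizer ({t} : Set G))
  odd : Odd ρ
  cop : ρ.Coprime (Nat.card A₁ * Nat.card A₂ * Nat.card A₃)
  big : Nat.card A₁ * Nat.card A₂ * Nat.card A₃ < ρ * Nat.card (Subgroup.centralizer ({t} : Set G))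
  small : ρ * Nat.card (Subgroup.centralizer ({t} : Set G)) ≤
    3 * (Nat.card A₁ * Nat.card A₂ * Nat.card A₃)
  three_R : 3 ≤ S.R.card
  eqn : (Nat.card (Subgroup.centralizer ({t} : Set G)) : ℤ) * S.y * (S.δ * S.X) =
    (ρ : ℤ) * (Nat.card A₂ * Nat.card A₃ : ℕ) * ((S.y : ℤ) - av) ^ 2

theorem Hyp.dvd_card (H : Hyp A₁ A₂ A₃) :
    Nat.card A₁ * Nat.card A₂ * Nat.card A₃ ∣ Nat.card G :=
  Nat.Coprime.mul_dvd_of_dvd_of_dvd (Nat.coprime_mul_iff_left.2 ⟨H.co13, H.co23⟩)
    (Nat.Coprime.mul_dvd_of_dvd_of_dvd H.co12 (Subgroup.card_subgroup_dvd_card A₁)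
      (Subgroup.card_subgroup_dvd_card A₂)) (Subgroup.card_subgroup_dvd_card A₃)

namespace Sys

variable (S : Sys A₁ A₂ A₃) [IsSimpleGroup G]

theorem exists_five (hna : ¬ ∀ a b : G, a * b = b * a) (hk : S.HasKind) :
    ∃ t : G, Five (Nat.card A₁ * Nat.card A₂ * Nat.card A₃) t ∧ ∃ a : ℤ, S.χ t = a ∧
      (Nat.card A₁ : ℤ) * (Nat.card (Subgroup.centralizer ({t} : Set G)) : ℤ) ^ 2 * S.y *
        (S.δ * S.X) = (Nat.card G : ℤ) * ((S.y : ℤ) - a) ^ 2 := by
  obtain ⟨t, ht, hcl, a, ha, heq⟩ := S.involutions hna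
  refine ⟨t, ⟨ht, hcl, (S.hyp.odd1.mul S.hyp.odd2).mul S.hyp.odd3, ?_, ?_, ?_, S.hyp.ab⟩, a, ha, heq⟩
  · intro g hg1 hg
    refine Nat.coprime_of_dvd fun p hp h1 h2 => ?_
    obtain ⟨w, hw⟩ := exists_prime_orderOf_dvd_card' (hp := ⟨hp⟩) p h1
    have hw' : orderOf (w : G) = p := by rw [Subgroup.orderOf_coe, hw]
    have hwg : (w : G) * g = g * w := Subgroup.mem_centralizer_singleton_iff.1 w.2
    have hw1 : (w : G) ≠ 1 := fun e => by rw [e, orderOf_one] at hw'; exact hp.one_lt.ne hw'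
    have hout := (out_iff S.hyp).2 ⟨hg1, hg⟩
    have key : ∀ A : Subgroup G, CC A → p ∣ Nat.card A → InConj A g := by
      intro A hA hpA
      obtain ⟨c, hc⟩ := hA.inConj_of_dvd hp hpA (g := (w : G)) (hw'.symm ▸ dvd_rfl)
      refine ⟨c, hA.mem_of_commute hc (fun e => hw1 (by simpa using e)) ?_⟩
      calc c * g * c⁻¹ * (c * w * c⁻¹) = c * (g * w) * c⁻¹ := by group
        _ = c * (w * g) * c⁻¹ := by rw [hwg]
        _ = _ := by group
    rcases hp.dvd_mul.1 h2 with h3 | h3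
    · rcases hp.dvd_mul.1 h3 with h4 | h4
      · exact hout.1 (key A₁ S.hyp.c1 h4)
      · exact hout.2.1 (key A₂ S.hyp.c2 h4)
    · exact hout.2.2 (key A₃ S.hyp.c3 h3)
  · intro L hL hnc
    have h1 := S.out_le L (fun g hg => (out_iff S.hyp).2 (hL g hg)) hnc
    have h2 := (S.card_supp_le hk).1
    have h3 := S.card_Z_le
    have h4 := S.card_R
    omega
  · exact S.hyp.f2.choose_spec.exists_order_four

theorem exists_base (hna : ¬ ∀ a b : G, a * b = b * a) (hk : S.HasKind)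
    (hcit : ∀ t : G, orderOf t = 2 → ∃ p : ℕ, p.Prime ∧ p ≠ 2 ∧
      p ∣ Nat.card (Subgroup.centralizer ({t} : Set G))) : Nonempty (Base S) := by
  obtain ⟨t, hF, av, hav, heq⟩ := S.exists_five hna hk
  obtain ⟨r, hr, hr2, hrc⟩ := hcit t hF.ord_t
  haveI := Fact.mk hr
  obtain ⟨x', hx'⟩ := exists_prime_orderOf_dvd_card' r hrc
  set x : G := (x' : G) with hxdef
  have A : At (Nat.card A₁ * Nat.card A₂ * Nat.card A₃) t r x :=
    ⟨hF, hr, hr2, by rw [hxdef, Subgroup.orderOf_coe, hx'],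
      Subgroup.mem_centralizer_singleton_iff.1 x'.2⟩
  set M := Nat.card A₁ * Nat.card A₂ * Nat.card A₃ with hM
  set c := Nat.card (Subgroup.centralizer ({t} : Set G)) with hc
  obtain ⟨k, hk'⟩ := S.hyp.dvd_card
  have hck : c ∣ k := hF.cent_t.dvd_of_dvd_mul_left
    (hk' ▸ Subgroup.card_subgroup_dvd_card (Subgroup.centralizer ({t} : Set G)))
  obtain ⟨ρ, rfl⟩ := hck
  have hcard : Nat.card G = M * ρ * c := by rw [hk']; ring
  have hc0 : 0 < c := Nat.card_pos
  have hρ : Odd ρ := by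
    rw [Nat.odd_iff, Nat.two_dvd_ne_zero.symm]
    intro h2
    refine hF.index_odd ?_
    have hi := Subgroup.card_mul_index (Subgroup.centralizer ({t} : Set G))
    rw [← hc, hcard, mul_comm _ c] at hi
    rw [Nat.eq_of_mul_eq_mul_left hc0 hi]
    exact dvd_mul_of_dvd_right h2 _
  have hcop : ρ.Coprime M := by
    have key : ∀ A : Subgroup G, CC A → ∀ b, M = Nat.card A * b → ρ.Coprime (Nat.card A) := by
      intro A hA b hb
      refine (Nat.Coprime.coprime_dvd_right ?_ hA.hall).symm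
      have hi := Subgroup.card_mul_index A
      rw [hcard, hb, mul_assoc, mul_assoc] at hi
      rw [Nat.eq_of_mul_eq_mul_left Nat.card_pos hi]
      exact dvd_mul_of_dvd_right (dvd_mul_right _ _) _
    exact Nat.Coprime.mul_right (Nat.Coprime.mul_right (key A₁ S.hyp.c1 _ (by rw [hM, mul_assoc]))
      (key A₂ S.hyp.c2 (Nat.card A₁ * Nat.card A₃) (by rw [hM]; ring)))
      (key A₃ S.hyp.c3 (Nat.card A₁ * Nat.card A₂) (by rw [hM]; ring))
  obtain ⟨f, hf, hfg⟩ := hF.good_four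
  have h2r := A.ord_prod hF.ord_t A.ord_x A.comm.symm A.two_coprime
  have h3 := A.three_le
  have hro := A.r_odd
  have hR : 3 ≤ S.R.card := by
    have hgood : ∀ i : Fin 4, Good M (![t, f, x, t * x] i) := fun i => by
      fin_cases i
      · exact hF.good_t
      · exact hfg
      · exact A.good_x
      · exact A.good_prod hF.good_t A.good_x A.comm.symm fun e => by
          rw [e, orderOf_one] at h2r; omega
    have hne : ∀ i j : Fin 4, IsConj (![t, f, x, t * x] i) (![t, f, x, t * x] j) → i = j := by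
      intro i j h
      have := orderOf_isConj h
      fin_cases i <;> fin_cases j <;> (try rfl) <;> (exfalso; simp at this) <;>
        simp only [hF.ord_t, hf, A.ord_x, h2r] at this <;> omega
    have h := S.out_le (Finset.univ.image ![t, f, x, t * x])
      (fun g hg => by
        obtain ⟨i, -, rfl⟩ := Finset.mem_image.1 hg
        exact (out_iff S.hyp).2 (hgood i))
      (fun g hg g' hg' h => by
        obtain ⟨i, -, rfl⟩ := Finset.mem_image.1 hg
        obtain ⟨j, -, rfl⟩ := Finset.mem_image.1 hg'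
        rw [hne i j h])
    rw [Finset.card_image_of_injective _ fun i j e =>
      hne i j (isConj_iff.2 ⟨1, by simp [e]⟩)] at h
    simp at h
    omega
  have hZ : 1 ≤ S.Z.card := by
    have := (S.card_supp_le hk).1
    have := S.card_R
    omega
  have hbig : M < ρ * c := by
    have h := S.card_Z_mul_lt
    rw [← hM, hcard] at h
    have h' : M ^ 2 < M * ρ * c := lt_of_le_of_lt (Nat.le_mul_of_pos_left _ hZ) h
    rw [pow_two, mul_assoc M ρ c] at h'
    exact lt_of_mul_lt_mul_left h' (Nat.zero_le _)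
  have hM0 : 0 < M := Nat.mul_pos (Nat.mul_pos Nat.card_pos Nat.card_pos) Nat.card_pos
  refine ⟨⟨hk, t, av, r, x, ρ, A, hav, hcard, hρ, hcop, hbig, ?_, hR, ?_⟩⟩
  · have h := S.hyp.ord
    rw [hcard, show 3 * Nat.card A₁ ^ 2 * Nat.card A₂ ^ 2 * Nat.card A₃ ^ 2 = M * (3 * M) by
      rw [hM]; ring, mul_assoc] at h
    exact Nat.le_of_mul_le_mul_left h hM0
  · rw [hcard] at heq
    have h0 : (Nat.card A₁ : ℤ) * c ≠ 0 :=
      mul_ne_zero (by exact_mod_cast Nat.card_pos.ne') (by exact_mod_cast hc0.ne')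
    refine mul_left_cancel₀ h0 ?_
    rw [hM] at heq
    push_cast at heq ⊢
    linear_combination heq

end Sys

namespace Base

variable {S : Sys A₁ A₂ A₃} (B : Base S)
include B

/-- The centraliser order of the involution. -/
noncomputable def c : ℕ := Nat.card (Subgroup.centralizer ({B.t} : Set G))

theorem out {g : G} (h : Good (Nat.card A₁ * Nat.card A₂ * Nat.card A₃) g) : Out A₁ A₂ A₃ g :=
  (out_iff S.hyp).2 h

theorem out_t : Out A₁ A₂ A₃ B.t := B.out B.at_.five.good_t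

theorem out_x : Out A₁ A₂ A₃ B.x := B.out B.at_.good_x

theorem out_tx : Out A₁ A₂ A₃ (B.t * B.x) :=
  B.out (B.at_.good_prod B.at_.five.good_t B.at_.good_x B.at_.comm.symm fun e => by
    have := B.at_.ord_prod B.at_.five.ord_t B.at_.ord_x B.at_.comm.symm B.at_.two_coprime
    rw [e, orderOf_one] at this
    omega)

theorem two_dvd : 2 ∣ Nat.card G := B.at_.five.ord_t ▸ orderOf_dvd_natCard B.t

theorem pow_t {i : ℕ} (hi : i.Coprime (Nat.card G)) : B.t ^ i = B.t := by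
  have hodd : i % 2 = 1 := Nat.two_dvd_ne_zero.1 fun h => Nat.not_coprime_of_dvd_of_dvd
    (by norm_num) h B.two_dvd hi
  rw [← pow_mod_orderOf, B.at_.five.ord_t, hodd, pow_one]

theorem intAt_t : Nonempty (IntAt B.t) := exists_intAt fun _ hi => (B.pow_t hi).symm ▸ IsConj.refl _

theorem conj_tx_pow {i : ℕ} (hi : i.Coprime (Nat.card G)) :
    ∃ g : G, g * B.t * g⁻¹ = B.t ∧ g * B.x * g⁻¹ = B.x ^ i := by
  have ho : orderOf (B.x ^ i) = B.r := by
    rw [Nat.Coprime.orderOf_pow, B.at_.ord_x]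
    exact (hi.coprime_dvd_right (orderOf_dvd_natCard B.x)).symm
  obtain ⟨g, hg, hgx⟩ := B.at_.conj_x_ct ho ((show Commute B.x B.t from B.at_.comm).pow_left i).eq
  exact ⟨g, mul_inv_eq_iff_eq_mul.2 hg, hgx⟩

theorem intAt_x : Nonempty (IntAt B.x) := exists_intAt fun _ hi => by
  obtain ⟨g, -, hg⟩ := B.conj_tx_pow hi
  exact isConj_iff.2 ⟨g, hg⟩

theorem intAt_tx : Nonempty (IntAt (B.t * B.x)) := exists_intAt fun i hi => by
  obtain ⟨g, hg, hgx⟩ := B.conj_tx_pow hi
  refine isConj_iff.2 ⟨g, ?_⟩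
  rw [(show Commute B.t B.x from B.at_.comm.symm).mul_pow, B.pow_t hi, ← hgx]
  calc g * (B.t * B.x) * g⁻¹ = g * B.t * g⁻¹ * (g * B.x * g⁻¹) := by group
    _ = B.t * (g * B.x * g⁻¹) := by rw [hg]

theorem v_t (V : IntAt B.t) : S.P1 V = 1 + S.δ * B.av := by
  have h := V.spec _ S.χ_irr
  rw [S.v_χ B.out_t.1 V, B.χ_t] at h
  have h' : B.av = S.δ * (S.P1 V - 1) := by exact_mod_cast h
  rw [h']
  rcases S.hδ with e | e <;> rw [e] <;> ring

theorem idx (h : B.ρ ≠ 1) : Idx (Nat.card A₁ * Nat.card A₂ * Nat.card A₃) B.t B.ρ :=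
  ⟨B.card, B.odd, h, B.cop⟩

/-- An element of prime order dividing `ρ`, other than `r`. -/
theorem extra_elem {p : ℕ} (hp : p.Prime) (hpρ : p ∣ B.ρ) (hpr : p ≠ B.r) :
    ∃ u : G, Out A₁ A₂ A₃ u ∧ Nonempty (IntAt u) ∧
      Nat.card (Subgroup.centralizer ({u} : Set G)) ∣ B.ρ := by
  haveI := Fact.mk hp
  set M := Nat.card A₁ * Nat.card A₂ * Nat.card A₃
  have hp2 : p ≠ 2 := fun e => Nat.not_even_iff_odd.2 B.odd (even_iff_two_dvd.2 (e ▸ hpρ))
  have hpM : ¬ p ∣ M := fun h => hp.ne_one (Nat.eq_one_of_dvd_coprimes B.cop hpρ h)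
  obtain ⟨u, hu⟩ := exists_prime_orderOf_dvd_card' (G := G) p
    (B.card ▸ (hpρ.mul_left M).mul_right _)
  obtain ⟨hgu, hconj, hcent, -⟩ := B.at_.extra hp hp2 hpr hpM hu
  refine ⟨u, B.out hgu, exists_intAt fun i hi => hconj _ ?_, ?_⟩
  · rw [Nat.Coprime.orderOf_pow, hu]
    exact (hi.coprime_dvd_right (orderOf_dvd_natCard u)).symm
  have hP : IsPGroup p (Subgroup.centralizer ({u} : Set G)) :=
    IsPGroup.iff_orderOf.2 fun v => by
      by_cases hv : v = 1
      · exact ⟨0, by rw [hv, orderOf_one, pow_zero]⟩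
      · refine ⟨1, ?_⟩
        rw [pow_one, ← Subgroup.orderOf_coe]
        exact hcent v (Subgroup.mem_centralizer_singleton_iff.1 v.2) fun e => hv (Subtype.ext e)
  obtain ⟨j, hj⟩ := hP.exists_card_eq
  have hd := Subgroup.card_subgroup_dvd_card (Subgroup.centralizer ({u} : Set G))
  rw [hj, B.card] at hd
  rw [hj]
  have hpc : ¬ p ∣ Nat.card (Subgroup.centralizer ({B.t} : Set G)) := fun h => by
    rcases B.at_.primes_ct hp h with e | e
    · exact hp2 e
    · exact hpr e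
  exact ((hp.coprime_iff_not_dvd.2 hpM).pow_left j).dvd_of_dvd_mul_left
    (((hp.coprime_iff_not_dvd.2 hpc).pow_left j).dvd_of_dvd_mul_right hd)

theorem y_dvd_card : S.y ∣ Nat.card G := IsIrrCharacter.degree_dvd_card S.χ_irr S.χ_one

theorem X_cast : S.δ * S.X = S.δ + S.y := by
  rw [Sys.X]
  rcases S.hδ with e | e <;> rw [e] <;> ring

theorem χ_mod1 : (Nat.card A₁ : ℤ) ∣ (S.y : ℤ) - S.δ := by
  have h := S.F1.cst_dvd S.χ_mem (S.χ_one)
  rwa [S.χ_cst] at h

theorem χ_mod2 : (Nat.card A₂ : ℤ) ∣ (S.y : ℤ) - S.δ * (S.qv - 1) := by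
  have h := S.F2.cst_dvd S.χ_rest2 (S.χ_one)
  rwa [S.χ_cst_eq] at h

theorem δX_pos (h : 2 ≤ S.y) : 0 < S.δ * S.X := by
  rw [B.X_cast]
  rcases S.hδ with e | e <;> rw [e] <;> omega

end Base

end CfsgLib.ThreeCC
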