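import Cfsg.Agent.ThreeCC.Setup

/-!
The possible columns at the three subgroups.
-/

set_option autoImplicit false
set_option linter.unusedSectionVars false
set_option linter.style.haveILetI false

namespace CfsgLib.ThreeCC

open CfsgLib.Char
open scoped ComplexConjugate Classical

universe u

theorem cost_cases {m e ε : ℤ} (hm : 2 ≤ m) (hε : ε = 1 ∨ ε = -1) (hn : m = 2 → e ≠ ε) :
    0 ≤ m * e ^ 2 - 2 * ε * e ∧ (m * e ^ 2 - 2 * ε * e ≤ 0 → e = 0) ∧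
      (m * e ^ 2 - 2 * ε * e ≤ 1 → e = 0 ∨ (e = ε ∧ m = 3)) := by
  obtain rfl | h1 | h2 : e = 0 ∨ e = ε ∨ (e ≠ 0 ∧ e ≠ ε) := by tauto
  · simp
  · subst h1
    have hne : m ≠ 2 := fun h => hn h rfl
    have hee : e ^ 2 = 1 := by rcases hε with h | h <;> rw [h] <;> norm_num
    have : m * e ^ 2 - 2 * e * e = m - 2 := by linear_combination (m - 2) * hee
    exact ⟨by omega, fun h => by omega, fun h => Or.inr ⟨rfl, by omega⟩⟩
  · have h3 : 2 ≤ m * e ^ 2 - 2 * ε * e := by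
      have := mul_le_mul_of_nonneg_right hm (sq_nonneg e)
      rcases hε with rfl | rfl
      · rcases (by omega : e ≤ -1 ∨ 2 ≤ e) with h | h <;> nlinarith
      · rcases (by omega : 1 ≤ e ∨ e ≤ -2) with h | h <;> nlinarith
    exact ⟨by omega, fun h => by omega, fun h => by omega⟩

theorem budget_cases {m1 m3 q r S K : ℤ} (h1 : 2 ≤ m1) (h3 : 2 ≤ m3) (hS : 0 ≤ S) (hK : 0 ≤ K)
    (h : 1 + (q - 1) ^ 2 + m1 * q ^ 2 + m3 * r ^ 2 + S + K = 4) :
    (q = 0 ∧ m3 * r ^ 2 + S + K = 2) ∨ (q = 1 ∧ m1 + m3 * r ^ 2 + S + K = 3 ∧ r = 0) := by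
  have hr : 0 ≤ m3 * r ^ 2 := mul_nonneg (by linarith) (sq_nonneg r)
  have hq := mul_le_mul_of_nonneg_right h1 (sq_nonneg q)
  obtain rfl | rfl | h4 : q = 0 ∨ q = 1 ∨ (2 ≤ q ∨ q ≤ -1) := by omega
  · exact Or.inl ⟨rfl, by linear_combination h⟩
  · refine Or.inr ⟨rfl, by linear_combination h, ?_⟩
    by_contra hr0
    have : 1 ≤ r ^ 2 := Int.add_one_le_iff.2 (sq_pos_of_ne_zero hr0)
    nlinarith
  · rcases h4 with h4 | h4 <;> nlinarith

/-- `q = 1 + δ p` at `A₂`, `q'` at `A₃`; `S22`, `S33`, `S23` are sums over the other characters. -/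
inductive Kind (m1 m2 m3 q q' r r' e e' ε' S22 S33 S23 : ℤ) : Prop
  | std : q = 0 → q' = 0 → r = 0 → r' = 0 → e = 0 → e' = 0 → S22 = 2 → S33 = 2 → S23 = -2 →
      Kind m1 m2 m3 q q' r r' e e' ε' S22 S33 S23
  | nine : m2 = 2 → S33 = 0 → m1 + S22 ≤ 3 → Kind m1 m2 m3 q q' r r' e e' ε' S22 S33 S23
  | deg : q = 1 → q' = 0 → m1 = 2 → r = 0 → r' = 0 → e = 0 → S22 = 1 → S23 = -1 →
      ((e' = 0 ∧ S33 = 2) ∨ (e' = ε' ∧ m3 = 3 ∧ S33 = 1)) →
      Kind m1 m2 m3 q q' r r' e e' ε' S22 S33 S23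

theorem kind_of {m1 m2 m3 q q' r r' e e' ε ε' S22 S33 S23 : ℤ} (h1 : 2 ≤ m1) (h2 : 2 ≤ m2)
    (h3 : 2 ≤ m3) (hne : m2 ≠ m3) (hε : ε = 1 ∨ ε = -1) (hε' : ε' = 1 ∨ ε' = -1)
    (hn : m2 = 2 → e ≠ ε) (hn' : m3 = 2 → e' ≠ ε') (hS : 0 ≤ S22) (hS' : 0 ≤ S33)
    (hC : S23 ^ 2 ≤ S22 * S33)
    (hb : 1 + (q - 1) ^ 2 + m1 * q ^ 2 + m3 * r ^ 2 + S22 + (m2 * e ^ 2 - 2 * ε * e) = 4)
    (hb' : 1 + (q' - 1) ^ 2 + m1 * q' ^ 2 + m2 * r' ^ 2 + S33 + (m3 * e' ^ 2 - 2 * ε' * e') = 4)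
    (hx : 1 + (q - 1) * (q' - 1) + m1 * q * q' + (m2 * e - ε) * r' + r * (m3 * e' - ε') + S23 = 0) :
    Kind m1 m2 m3 q q' r r' e e' ε' S22 S33 S23 ∨
      Kind m1 m3 m2 q' q r' r e' e ε S33 S22 S23 := by
  obtain ⟨k0, k1, k2⟩ := cost_cases h2 hε hn
  obtain ⟨k0', k1', k2'⟩ := cost_cases h3 hε' hn'
  have sq1 : ∀ x : ℤ, x ≠ 0 → 1 ≤ x ^ 2 := fun x hx => Int.add_one_le_iff.2 (sq_pos_of_ne_zero hx)
  rcases budget_cases h1 h3 hS k0 hb with ⟨rfl, a⟩ | ⟨rfl, a, rfl⟩ <;>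
    rcases budget_cases h1 h2 hS' k0' hb' with ⟨rfl, a'⟩ | ⟨rfl, a', rfl⟩
  · have hr : r = 0 := by
      by_contra hr
      have hr1 := sq1 r hr
      have hm : m3 = 2 := by nlinarith
      subst hm
      have hr2 : r ^ 2 = 1 := by nlinarith
      have hr' : r' = 0 := by
        by_contra hr'
        have := sq1 r' hr'
        have : 3 ≤ m2 := by omega
        nlinarith
      subst hr'
      have : S22 = 0 := by nlinarith
      subst this
      have hS0 : S23 = 0 := by nlinarith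
      subst hS0
      rcases sq_eq_one_iff.1 hr2 with rfl | rfl <;> rcases hε' with rfl | rfl <;> omega
    have hr' : r' = 0 := by
      by_contra hr'
      have hr1 := sq1 r' hr'
      have hm : m2 = 2 := by nlinarith
      subst hm
      have hr2 : r' ^ 2 = 1 := by nlinarith
      subst hr
      have : S33 = 0 := by nlinarith
      subst this
      have hS0 : S23 = 0 := by nlinarith
      subst hS0
      rcases sq_eq_one_iff.1 hr2 with rfl | rfl <;> rcases hε with rfl | rfl <;> omega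
    subst hr hr'
    have hS2 : S23 = -2 := by linear_combination hx
    subst hS2
    have s1 : S22 = 2 := by nlinarith
    have s2 : S33 = 2 := by nlinarith
    subst s1 s2
    exact Or.inl (Kind.std rfl rfl rfl rfl (k1 (by linarith)) (k1' (by linarith)) rfl rfl rfl)
  · by_cases hr : r = 0
    · subst hr
      have hS2 : S23 = -1 := by linear_combination hx
      subst hS2
      have s1 : 1 ≤ S33 := by nlinarith
      have hm1 : m1 = 2 := by nlinarith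
      subst hm1
      refine Or.inr (Kind.deg rfl rfl rfl rfl rfl (k1' (by linarith)) (by linarith) rfl ?_)
      have : 1 ≤ S22 := by nlinarith
      rcases k2 (by linarith) with h | ⟨h, h'⟩
      · refine Or.inl ⟨h, ?_⟩
        subst h
        linarith
      · refine Or.inr ⟨h, h', ?_⟩
        subst h h'
        rcases hε with rfl | rfl <;> linarith
    · have hr1 := sq1 r hr
      have hm : m3 = 2 := by nlinarith
      subst hm
      exact Or.inr (Kind.nine rfl (by nlinarith) (by nlinarith))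
  · by_cases hr : r' = 0
    · subst hr
      have hS2 : S23 = -1 := by linear_combination hx
      subst hS2
      have s1 : 1 ≤ S22 := by nlinarith
      have hm1 : m1 = 2 := by nlinarith
      subst hm1
      refine Or.inl (Kind.deg rfl rfl rfl rfl rfl (k1 (by linarith)) (by linarith) rfl ?_)
      have : 1 ≤ S33 := by nlinarith
      rcases k2' (by linarith) with h | ⟨h, h'⟩
      · refine Or.inl ⟨h, ?_⟩
        subst h
        linarith
      · refine Or.inr ⟨h, h', ?_⟩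
        subst h h'
        rcases hε' with rfl | rfl <;> linarith
    · have hr1 := sq1 r' hr
      have hm : m2 = 2 := by nlinarith
      subst hm
      exact Or.inl (Kind.nine rfl (by nlinarith) (by nlinarith))
  · exfalso
    have hS2 : S23 = -(1 + m1) := by linear_combination hx
    subst hS2
    nlinarith

namespace Sys

variable {G : Type u} [Group G] [Fintype G] {A₁ A₂ A₃ : Subgroup G} (S : Sys A₁ A₂ A₃)

/-- `1 + δ χ` on `A₂`. -/
noncomputable def qv : ℤ := 1 + S.δ * S.F2.cst S.χ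

/-- The value of the third family on `A₂`. -/
noncomputable def rv : ℤ := S.F2.cst (S.F3.θ ⟨0, by linarith [S.F3.two_le]⟩)

theorem cst_fam1 (q : Fin S.F1.m) : (S.F2.cst (S.F1.θ q) : ℂ) = S.F1.ε * S.qv := by
  obtain ⟨a, ha, ha1⟩ := S.F2.exists_elem
  have hmem : S.F1.θ q ∈ S.F2.rest :=
    S.F2.mem_rest.2 ⟨S.F1.irr q, fun p h => S.disj21 p q h.symm⟩
  rw [← S.F2.cst_spec hmem ha ha1, S.F1.com_eq (S.not2_1 ha ha1)]
  have h := S.q1_eq (Or.inl (S.not2_1 ha ha1))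
  rw [S.F2.cst_spec S.χ_rest2 ha ha1] at h
  simp only [q1] at h
  have hε : (S.F1.ε : ℂ) * S.F1.ε = 1 := by rcases S.F1.hε with e | e <;> simp [e]
  simp only [qv]; push_cast
  linear_combination (S.F1.ε : ℂ) * h - S.F1.com a * hε

theorem cst_fam3 (q : Fin S.F3.m) : S.F2.cst (S.F3.θ q) = S.rv := by
  obtain ⟨a, ha, ha1⟩ := S.F2.exists_elem
  have hmem : ∀ q, S.F3.θ q ∈ S.F2.rest := fun q =>
    S.F2.mem_rest.2 ⟨S.F3.irr q, fun p h => S.disj23 p q h.symm⟩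
  have : (S.F2.cst (S.F3.θ q) : ℂ) = S.rv := by
    rw [rv, ← S.F2.cst_spec (hmem _) ha ha1, ← S.F2.cst_spec (hmem _) ha ha1]
    exact S.F3.off _ _ a (S.not2_3 ha ha1)
  exact_mod_cast this

theorem χ_cst_eq : S.F2.cst S.χ = S.δ * (S.qv - 1) := by
  simp only [qv]
  rcases S.hδ with h | h <;> rw [h] <;> ring

/-- The sum of squares over the remaining characters at `A₂`. -/
noncomputable def sq2 : ℤ := ∑ ψ ∈ S.R, S.F2.cst ψ ^ 2

theorem budget2 : 1 + (S.qv - 1) ^ 2 + S.F1.m * S.qv ^ 2 + S.F3.m * S.rv ^ 2 + S.sq2 +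
    (S.F2.m * S.F2.e ^ 2 - 2 * S.F2.ε * S.F2.e) = 4 := by
  obtain ⟨u, hu⟩ := S.hyp.f2
  have h := S.F2.budget hu
  rw [S.sum_rest2, S.F2.cst_one] at h
  have h1 : ∀ q, S.F2.cst (S.F1.θ q) ^ 2 = S.qv ^ 2 := fun q => by
    have e : (S.F2.cst (S.F1.θ q) : ℤ) = S.F1.ε * S.qv := by exact_mod_cast S.cst_fam1 q
    rw [e, mul_pow]
    rcases S.F1.hε with e | e <;> rw [e] <;> ring
  have hδ : S.δ ^ 2 = 1 := by rcases S.hδ with e | e <;> rw [e] <;> norm_num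
  simp only [h1, S.cst_fam3, S.χ_cst_eq, Finset.sum_const, Finset.card_univ, Fintype.card_fin,
    nsmul_eq_mul, mul_pow, hδ, one_pow, one_mul, Nat.cast_ofNat] at h
  simp only [sq2]
  linear_combination h

/-- Orthogonality of the column at `A₂` with an element without conjugates in `A₂`. -/
theorem orth2 {g : G} (hg : ¬ InConj A₂ g ∨ g = 1) :
    1 + S.δ * (S.qv - 1 : ℤ) * S.χ g + (S.qv : ℂ) * (∑ q, (S.F1.ε : ℂ) * S.F1.θ q g) +
      (S.rv : ℂ) * ∑ q, S.F3.θ q g + ∑ ψ ∈ S.R, (S.F2.cst ψ : ℂ) * ψ g +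
      ((S.F2.m : ℂ) * S.F2.e - S.F2.ε) * S.F2.com g = 0 := by
  have h := S.F2.orth hg
  rw [S.sum_rest2, S.F2.cst_one] at h
  simp only [S.cst_fam1, S.cst_fam3, S.χ_cst_eq] at h
  rw [Finset.mul_sum, Finset.mul_sum]
  push_cast at h ⊢
  rw [Finset.sum_congr rfl fun q _ => show (S.qv : ℂ) * (S.F1.ε * S.F1.θ q g) =
    S.F1.ε * S.qv * S.F1.θ q g by ring]
  linear_combination h

theorem cross : 1 + (S.qv - 1) * (S.swap.qv - 1) + S.F1.m * S.qv * S.swap.qv +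
    (S.F2.m * S.F2.e - S.F2.ε) * S.swap.rv + S.rv * (S.F3.m * S.F3.e - S.F3.ε) +
    ∑ ψ ∈ S.R, S.F2.cst ψ * S.F3.cst ψ = 0 := by
  obtain ⟨b, hb, hb1⟩ := S.F3.exists_elem
  have hb2 : ¬ InConj A₂ b := S.swap.not2_3 hb hb1
  have h := S.orth2 (Or.inl hb2)
  have hχ : S.χ b = S.F3.cst S.χ := S.F3.cst_spec S.swap.χ_rest2 hb hb1
  have h1 : ∀ q, (S.F1.ε : ℂ) * S.F1.θ q b = S.swap.qv := fun q => by
    rw [S.F3.cst_spec (S.F3.mem_rest.2 ⟨S.F1.irr q, fun p h => S.swap.disj21 p q h.symm⟩) hb hb1,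
      show (S.F3.cst (S.F1.θ q) : ℂ) = S.F1.ε * S.swap.qv from S.swap.cst_fam1 q]
    rcases S.F1.hε with e | e <;> rw [e] <;> push_cast <;> ring
  have h2 : S.F2.com b = S.swap.rv :=
    show S.F2.θ ⟨0, by linarith [S.F2.two_le]⟩ b =
      (S.F3.cst (S.F2.θ ⟨0, by linarith [S.F2.two_le]⟩) : ℂ) from S.F3.cst_spec
    (S.F3.mem_rest.2 ⟨S.F2.irr _, fun p h => S.disj23 _ p h⟩) hb hb1
  have h3 : ∀ ψ ∈ S.R, (S.F2.cst ψ : ℂ) * ψ b = S.F2.cst ψ * S.F3.cst ψ := fun ψ hψ => by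
    have hmem : ψ ∈ S.F3.rest := S.swap.R_rest2 (S.swap_R.symm ▸ hψ)
    rw [S.F3.cst_spec hmem hb hb1]
  rw [Finset.sum_congr rfl fun q _ => h1 q, Finset.sum_congr rfl h3, S.F3.sum_θ hb hb1, hχ,
    show (S.F3.cst S.χ : ℂ) = (S.δ * (S.swap.qv - 1) : ℤ) from
      congrArg Int.cast S.swap.χ_cst_eq, h2,
    Finset.sum_const, Finset.card_univ, Fintype.card_fin, nsmul_eq_mul] at h
  have h4 : ((1 + (S.qv - 1) * (S.swap.qv - 1) + S.F1.m * S.qv * S.swap.qv +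
      (S.F2.m * S.F2.e - S.F2.ε) * S.swap.rv + S.rv * (S.F3.m * S.F3.e - S.F3.ε) +
      ∑ ψ ∈ S.R, S.F2.cst ψ * S.F3.cst ψ : ℤ) : ℂ) = 0 := by
    have := S.δ_sq
    push_cast at h ⊢
    linear_combination h - ((S.qv : ℂ) - 1) * ((S.swap.qv : ℂ) - 1) * this
  exact_mod_cast h4

/-- The classification of the columns. -/
def HasKind : Prop :=
  Kind (S.F1.m : ℤ) S.F2.m S.F3.m S.qv S.swap.qv S.rv S.swap.rv S.F2.e S.F3.e S.F3.ε S.sq2
    S.swap.sq2 (∑ ψ ∈ S.R, S.F2.cst ψ * S.F3.cst ψ)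

theorem kind : S.HasKind ∨ S.swap.HasKind := by
  have hne : (S.F2.m : ℤ) ≠ S.F3.m := fun h => S.hyp.nine_le.2.2 (by
    rw [← S.F2.hm, ← S.F3.hm, Nat.cast_injective h])
  have h := kind_of (by exact_mod_cast S.F1.two_le) (by exact_mod_cast S.F2.two_le)
    (by exact_mod_cast S.F3.two_le) hne S.F2.hε S.F3.hε
    (fun h => S.norm2 (by exact_mod_cast h)) (fun h => S.norm3 (by exact_mod_cast h))
    (Finset.sum_nonneg fun ψ _ => sq_nonneg _) (Finset.sum_nonneg fun ψ _ => sq_nonneg _)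
    (show (∑ ψ ∈ S.R, S.F2.cst ψ * S.F3.cst ψ) ^ 2 ≤ S.sq2 * S.swap.sq2 by
      simp only [sq2, S.swap_R]
      exact Finset.sum_mul_sq_le_sq_mul_sq _ _ _)
    S.budget2 S.swap.budget2 S.cross
  refine h.imp id fun h => ?_
  unfold HasKind
  have e : ∑ ψ ∈ S.swap.R, S.swap.F2.cst ψ * S.swap.F3.cst ψ =
      ∑ ψ ∈ S.R, S.F2.cst ψ * S.F3.cst ψ := by
    rw [S.swap_R]
    exact Finset.sum_congr rfl fun ψ _ => mul_comm _ _
  rw [e]
  exact h

end Sys

end CfsgLib.ThreeCC
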