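import Cfsg.Agent.ThreeCC.Cases
import Cfsg.Agent.Char.DegreeSums

/-!
Counting the classes outside the three subgroups.
-/

set_option autoImplicit false
set_option linter.unusedSectionVars false
set_option linter.style.haveILetI false

namespace CfsgLib.ThreeCC

open CfsgLib.Char
open scoped ComplexConjugate Classical

universe u

namespace Sys

variable {G : Type u} [Group G] [Fintype G] {A₁ A₂ A₃ : Subgroup G} (S : Sys A₁ A₂ A₃)

theorem card_irr_eq : (irrFinset G).card = 2 + S.F1.m + S.F2.m + S.F3.m + S.R.card := by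
  have h := S.sum_irr fun _ => (1 : ℕ)
  simp only [Finset.sum_const, smul_eq_mul, mul_one, Finset.card_univ, Fintype.card_fin] at h
  omega

include S in
theorem disjoint_classes {A B : Subgroup G} (hA : CC A) (hB : CC B)
    (hco : (Nat.card A).Coprime (Nat.card B)) :
    Disjoint ((Finset.univ.filter fun a : G => a ∈ A ∧ a ≠ 1).image ConjClasses.mk)
      ((Finset.univ.filter fun a : G => a ∈ B ∧ a ≠ 1).image ConjClasses.mk) := by
  rw [Finset.disjoint_left]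
  intro C h1 h2
  simp only [Finset.mem_image, Finset.mem_filter, Finset.mem_univ, true_and] at h1 h2
  obtain ⟨a, ⟨ha, ha1⟩, rfl⟩ := h1
  obtain ⟨b, ⟨hb, -⟩, he⟩ := h2
  exact hA.not_isConj hB hco ha ha1 hb (ConjClasses.mk_eq_mk_iff_isConj.1 he).symm

/-- Pairwise non-conjugate elements without conjugates in the three subgroups. -/
theorem out_le (L : Finset G) (hL : ∀ g ∈ L, Out A₁ A₂ A₃ g)
    (hnc : ∀ g ∈ L, ∀ g' ∈ L, IsConj g g' → g = g') : L.card ≤ S.R.card + 1 := by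
  obtain ⟨u1, hu1⟩ := S.hyp.f1
  obtain ⟨u2, hu2⟩ := S.hyp.f2
  obtain ⟨u3, hu3⟩ := S.hyp.f3
  set I1 := (Finset.univ.filter fun a : G => a ∈ A₁ ∧ a ≠ 1).image ConjClasses.mk
  set I2 := (Finset.univ.filter fun a : G => a ∈ A₂ ∧ a ≠ 1).image ConjClasses.mk
  set I3 := (Finset.univ.filter fun a : G => a ∈ A₃ ∧ a ≠ 1).image ConjClasses.mk
  set IL := L.image ConjClasses.mk
  have hILc : IL.card = L.card := Finset.card_image_of_injOn fun g hg g' hg' h =>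
    hnc g hg g' hg' (ConjClasses.mk_eq_mk_iff_isConj.1 h)
  have hmemL : ∀ (A : Subgroup G), (∀ g, Out A₁ A₂ A₃ g → ¬ InConj A g) → Disjoint IL
      ((Finset.univ.filter fun a : G => a ∈ A ∧ a ≠ 1).image ConjClasses.mk) := by
    intro A hA
    rw [Finset.disjoint_left]
    intro C h1 h2
    simp only [IL, Finset.mem_image, Finset.mem_filter, Finset.mem_univ, true_and] at h1 h2
    obtain ⟨g, hg, rfl⟩ := h1
    obtain ⟨b, ⟨hb, -⟩, he⟩ := h2
    obtain ⟨x, hx⟩ := isConj_iff.1 (ConjClasses.mk_eq_mk_iff_isConj.1 he).symm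
    exact hA g (hL g hg) ⟨x, hx ▸ hb⟩
  have d1 : Disjoint IL I1 := hmemL A₁ fun g h => h.1
  have d2 : Disjoint IL I2 := hmemL A₂ fun g h => h.2.1
  have d3 : Disjoint IL I3 := hmemL A₃ fun g h => h.2.2
  have d12 : Disjoint I1 I2 := S.disjoint_classes hu1.cc hu2.cc S.hyp.co12
  have d13 : Disjoint I1 I3 := S.disjoint_classes hu1.cc hu3.cc S.hyp.co13
  have d23 : Disjoint I2 I3 := S.disjoint_classes hu2.cc hu3.cc S.hyp.co23
  have hone : ConjClasses.mk (1 : G) ∉ IL ∪ I1 ∪ I2 ∪ I3 := by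
    simp only [IL, I1, I2, I3, Finset.mem_union, Finset.mem_image, Finset.mem_filter,
      Finset.mem_univ, true_and, ConjClasses.mk_eq_mk_iff_isConj, isConj_one_left]
    rintro (((⟨g, hg, rfl⟩ | ⟨b, ⟨-, hb⟩, e⟩) | ⟨b, ⟨-, hb⟩, e⟩) | ⟨b, ⟨-, hb⟩, e⟩)
    · exact (hL 1 hg).ne_one rfl
    all_goals exact hb e
  have hle := Finset.card_le_univ (insert (ConjClasses.mk (1 : G)) (IL ∪ I1 ∪ I2 ∪ I3))
  rw [Finset.card_insert_of_notMem hone, Finset.card_union_of_disjoint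
      (Finset.disjoint_union_left.2 ⟨Finset.disjoint_union_left.2 ⟨d3, d13⟩, d23⟩),
    Finset.card_union_of_disjoint (Finset.disjoint_union_left.2 ⟨d2, d12⟩),
    Finset.card_union_of_disjoint d1, hILc, ← Nat.card_eq_fintype_card,
    ← card_irr_eq_card_conjClasses, card_irr, S.card_irr_eq] at hle
  have c1 : S.F1.m ≤ I1.card := S.F1.card_classes hu1
  have c2 : S.F2.m ≤ I2.card := S.F2.card_classes hu2
  have c3 : S.F3.m ≤ I3.card := S.F3.card_classes hu3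
  omega

/-- The remaining characters not vanishing on `A₂ ∪ A₃`. -/
noncomputable def supp : Finset (G → ℂ) :=
  S.R.filter fun ψ => S.F2.cst ψ ≠ 0 ∨ S.F3.cst ψ ≠ 0

/-- The characters vanishing on the three subgroups. -/
noncomputable def Z : Finset (G → ℂ) := S.R \ S.supp

theorem supp_subset : S.supp ⊆ S.R := Finset.filter_subset _ _

theorem card_R : S.R.card = S.supp.card + S.Z.card := by
  rw [Z, Finset.card_sdiff_of_subset S.supp_subset]
  have := Finset.card_le_card S.supp_subset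
  omega

theorem mem_Z {ψ : G → ℂ} : ψ ∈ S.Z ↔ ψ ∈ S.R ∧ S.F2.cst ψ = 0 ∧ S.F3.cst ψ = 0 := by
  simp only [Z, supp, Finset.mem_sdiff, Finset.mem_filter, not_and, not_or, not_not]
  tauto

theorem Z_degree_dvd {ψ : G → ℂ} (h : ψ ∈ S.Z) {d : ℕ} (hd : ψ 1 = d) :
    Nat.card A₁ * Nat.card A₂ * Nat.card A₃ ∣ d := by
  obtain ⟨hR, h2, h3⟩ := S.mem_Z.1 h
  have e1 := S.F1.cst_dvd (S.R_rest1 hR) hd
  have e2 := S.F2.cst_dvd (S.R_rest2 hR) hd
  have e3 := S.F3.cst_dvd (S.swap.R_rest2 (S.swap_R.symm ▸ hR)) hd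
  rw [S.cst1_R hR, sub_zero, Int.natCast_dvd_natCast] at e1
  rw [h2, sub_zero, Int.natCast_dvd_natCast] at e2
  rw [h3, sub_zero, Int.natCast_dvd_natCast] at e3
  exact Nat.Coprime.mul_dvd_of_dvd_of_dvd (Nat.coprime_mul_iff_left.2 ⟨S.hyp.co13, S.hyp.co23⟩)
    (Nat.Coprime.mul_dvd_of_dvd_of_dvd S.hyp.co12 e1 e2) e3

/-- The order is large. -/
theorem card_Z_mul_lt :
    S.Z.card * (Nat.card A₁ * Nat.card A₂ * Nat.card A₃) ^ 2 < Nat.card G := by
  set M := Nat.card A₁ * Nat.card A₂ * Nat.card A₃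
  have h := sum_cdeg_sq (G := G)
  have hone : (fun _ => (1 : ℂ)) ∉ S.Z := fun h1 => (S.mem_R.1 (S.mem_Z.1 h1).1).2.2.2.2.1 rfl
  have hsub : insert (fun _ => (1 : ℂ)) S.Z ⊆ irrFinset G := by
    intro ψ hψ
    rw [Finset.mem_insert] at hψ
    rcases hψ with rfl | hψ
    · exact mem_irrFinset.2 isIrrCharacter_one
    · exact mem_irrFinset.2 (S.mem_R.1 (S.mem_Z.1 hψ).1).1
  have h1 := Finset.sum_le_sum_of_subset (f := fun ψ => cdeg ψ ^ 2) hsub
  rw [h, Finset.sum_insert hone] at h1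
  have h2 : ∀ ψ ∈ S.Z, M ^ 2 ≤ cdeg ψ ^ 2 := fun ψ hψ => by
    have hirr := (S.mem_R.1 (S.mem_Z.1 hψ).1).1
    exact Nat.pow_le_pow_left (Nat.le_of_dvd (cdeg_pos hirr)
      (S.Z_degree_dvd hψ (irr_apply_one_eq_cdeg hirr))) 2
  have h3 : 0 < cdeg (G := G) (fun _ => (1 : ℂ)) := cdeg_pos isIrrCharacter_one
  have h4 := Finset.card_nsmul_le_sum S.Z _ _ h2
  rw [smul_eq_mul] at h4
  have : 0 < cdeg (G := G) (fun _ => (1 : ℂ)) ^ 2 := Nat.pow_pos h3
  omega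

theorem card_Z_le : S.Z.card ≤ 2 := by
  have h := S.card_Z_mul_lt
  have h2 := S.hyp.ord
  by_contra hc
  have : 3 * (Nat.card A₁ * Nat.card A₂ * Nat.card A₃) ^ 2 ≤
      S.Z.card * (Nat.card A₁ * Nat.card A₂ * Nat.card A₃) ^ 2 := Nat.mul_le_mul_right _ (by omega)
  rw [mul_pow, mul_pow] at this h
  nlinarith

theorem Z_degree {ψ : G → ℂ} (hψ : ψ ∈ S.Z) :
    ψ 1 = ((Nat.card A₁ * Nat.card A₂ * Nat.card A₃ : ℕ) : ℂ) := by
  set M := Nat.card A₁ * Nat.card A₂ * Nat.card A₃ with hM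
  have hirr := (S.mem_R.1 (S.mem_Z.1 hψ).1).1
  obtain ⟨k, hk⟩ := S.Z_degree_dvd hψ (irr_apply_one_eq_cdeg hirr)
  have hsq := Finset.single_le_sum (f := fun ψ => cdeg ψ ^ 2) (fun _ _ => Nat.zero_le _)
    (mem_irrFinset.2 hirr)
  rw [sum_cdeg_sq] at hsq
  have h2 := le_trans hsq S.hyp.ord
  have hk0 : 0 < k := by
    have := cdeg_pos hirr
    rw [hk] at this
    exact Nat.pos_of_mul_pos_left this
  have hk1 : k = 1 := by
    by_contra hne
    have h4 : 4 * M ^ 2 ≤ (M * k) ^ 2 := by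
      rw [show (M * k) ^ 2 = k ^ 2 * M ^ 2 from by ring]
      exact Nat.mul_le_mul_right _ (Nat.pow_le_pow_left (show 2 ≤ k by omega) 2)
    rw [hk] at h2
    have hM0 : 0 < M ^ 2 := by
      have : 0 < M := Nat.mul_pos (Nat.mul_pos Nat.card_pos Nat.card_pos) Nat.card_pos
      positivity
    have e : M ^ 2 = Nat.card A₁ ^ 2 * Nat.card A₂ ^ 2 * Nat.card A₃ ^ 2 := by rw [hM]; ring
    nlinarith
  rw [irr_apply_one_eq_cdeg hirr, hk, hk1, mul_one]

theorem card_filter_le (f : (G → ℂ) → ℤ) :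
    ((S.R.filter fun ψ => f ψ ≠ 0).card : ℤ) ≤ ∑ ψ ∈ S.R, f ψ ^ 2 := by
  rw [Finset.card_filter, Nat.cast_sum]
  refine Finset.sum_le_sum fun ψ _ => ?_
  split_ifs with h
  · exact_mod_cast Int.add_one_le_iff.2 (sq_pos_of_ne_zero h)
  · exact_mod_cast sq_nonneg (f ψ)

/-- The support has at most two members; at most one if `A₂` has order 9 in that case. -/
theorem card_supp_le (h : S.HasKind) : S.supp.card ≤ 2 ∧
    (S.F2.m = 2 → S.sq2 + S.F1.m ≤ 3 → S.swap.sq2 = 0 → S.supp.card + S.F1.m ≤ 3) := by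
  have hsub : ∀ (f : (G → ℂ) → ℤ), (∀ ψ ∈ S.R, f ψ = 0 → S.F2.cst ψ = 0 ∧ S.F3.cst ψ = 0) →
      (S.supp.card : ℤ) ≤ ∑ ψ ∈ S.R, f ψ ^ 2 := fun f hf => by
    refine le_trans (Int.ofNat_le.2 (Finset.card_le_card ?_)) (S.card_filter_le f)
    intro ψ hψ
    simp only [supp, Finset.mem_filter] at hψ ⊢
    exact ⟨hψ.1, fun h0 => hψ.2.elim (fun h => h (hf ψ hψ.1 h0).1) fun h => h (hf ψ hψ.1 h0).2⟩
  have h3eq : S.swap.sq2 = ∑ ψ ∈ S.R, S.F3.cst ψ ^ 2 := by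
    simp only [sq2, S.swap_R]; rfl
  have hnine : S.swap.sq2 = 0 → (S.supp.card : ℤ) ≤ S.sq2 := fun h0 => by
    rw [h3eq] at h0
    refine hsub _ fun ψ hψ hz => ⟨hz, ?_⟩
    exact pow_eq_zero_iff (n := 2) (by norm_num) |>.1
      ((Finset.sum_eq_zero_iff_of_nonneg fun ψ _ => sq_nonneg (S.F3.cst ψ)).1 h0 ψ hψ)
  refine ⟨?_, fun _ h1 h2 => ?_⟩
  swap
  · have := hnine h2
    omega
  rcases h with ⟨-, -, -, -, -, -, hS22, hS33, hS23⟩ | ⟨-, hS33, hle⟩ | ⟨-, -, -, -, -, -, hS22, hS23, hor⟩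
  · have hz : ∑ ψ ∈ S.R, (S.F2.cst ψ + S.F3.cst ψ) ^ 2 = 0 := by
      simp only [add_sq, Finset.sum_add_distrib, mul_assoc, ← Finset.mul_sum]
      rw [← h3eq, hS33, hS23, show ∑ ψ ∈ S.R, S.F2.cst ψ ^ 2 = S.sq2 from rfl, hS22]
      norm_num
    have := hsub (fun ψ => S.F2.cst ψ) fun ψ hψ h0 => ⟨h0, by
      have := pow_eq_zero_iff (n := 2) (by norm_num) |>.1
        ((Finset.sum_eq_zero_iff_of_nonneg fun ψ _ => sq_nonneg _).1 hz ψ hψ)
      simp only [h0, zero_add] at this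
      exact this⟩
    rw [show ∑ ψ ∈ S.R, S.F2.cst ψ ^ 2 = S.sq2 from rfl, hS22] at this
    omega
  · have := hnine hS33
    have : (2 : ℤ) ≤ S.F1.m := by exact_mod_cast S.F1.two_le
    omega
  · -- the character non-zero on `A₂` is non-zero on `A₃`
    have key : ∀ ψ ∈ S.R, S.F3.cst ψ = 0 → S.F2.cst ψ = 0 := by
      intro ψ hψ h3
      by_contra h2
      have e := Finset.add_sum_erase S.R (fun φ => S.F2.cst φ ^ 2) hψ
      rw [show ∑ φ ∈ S.R, S.F2.cst φ ^ 2 = S.sq2 from rfl, hS22] at e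
      have h1 : 1 ≤ S.F2.cst ψ ^ 2 := Int.add_one_le_iff.2 (sq_pos_of_ne_zero h2)
      have hz : ∑ φ ∈ S.R.erase ψ, S.F2.cst φ ^ 2 = 0 :=
        le_antisymm (by linarith) (Finset.sum_nonneg fun φ _ => sq_nonneg _)
      have : ∑ φ ∈ S.R, S.F2.cst φ * S.F3.cst φ = 0 := by
        rw [← Finset.add_sum_erase _ _ hψ, h3, mul_zero, zero_add]
        refine Finset.sum_eq_zero fun φ hφ => ?_
        rw [pow_eq_zero_iff (n := 2) (by norm_num) |>.1
          ((Finset.sum_eq_zero_iff_of_nonneg fun φ _ => sq_nonneg (S.F2.cst φ)).1 hz φ hφ), zero_mul]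
      rw [this] at hS23
      norm_num at hS23
    have := hsub (fun ψ => S.F3.cst ψ) fun ψ hψ h0 => ⟨key ψ hψ h0, h0⟩
    rw [← h3eq] at this
    rcases hor with ⟨-, h⟩ | ⟨-, -, h⟩ <;> omega

end Sys

end CfsgLib.ThreeCC
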