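import Mathlib.Tactic

/-!
The finite table for the columns at elements of order 6 and 3 in the degenerate case.
-/

set_option autoImplicit false

namespace CfsgLib.ThreeCC.Finite

def rng (k : ℕ) : List ℤ := (List.range (2 * k + 1)).map fun i : ℕ => (i : ℤ) - k

/-- the values `(e, w, v, q₂, q₃)` of a column of norm at most `C` -/
def rowOK (C : ℤ) (var : Bool) : ℤ × ℤ × ℤ × ℤ × ℤ → Bool
  | (e, w, v, q2, q3) =>
    decide (q2 = 1 + 2 * e + w) &&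
    (if var then decide (v = 0 ∧ 2 * q3 = e + w - 2) else decide (q3 = 2 - e - w + v)) &&
    decide (1 + (e - 1) ^ 2 + 2 * e ^ 2 + w ^ 2 + v ^ 2 + 3 * q2 ^ 2 + 3 * q3 ^ 2 ≤ C)

def rows (C : ℤ) (ke k : ℕ) (var : Bool) : List (ℤ × ℤ × ℤ × ℤ × ℤ) :=
  ((rng ke).flatMap fun e => (rng k).flatMap fun w => (rng k).map fun v =>
    (e, w, v, 1 + 2 * e + w,
      if var then (e + w - 2) / 2 else 2 - e - w + v)).filter (rowOK C var)

def pairOK : ℤ × ℤ × ℤ × ℤ → Bool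
  | (z1, z2, u1, u2) =>
    decide (u1 % 3 ≠ 0 ∧ (z1 - u1) % 2 = 0 ∧ (z2 - u2) % 2 = 0 ∧
      (u2 % 3 ≠ 0 ∨ (z2 = 0 ∧ u2 = 0)) ∧ z1 * z1 + z2 * z2 ≤ 12 ∧ u1 * u1 + u2 * u2 ≤ 36)

def triples : List (ℤ × ℤ × ℤ) :=
  (((rng 3).flatMap fun z1 => (rng 3).flatMap fun z2 => (rng 6).flatMap fun u1 =>
    (rng 6).map fun u2 => (z1, z2, u1, u2)).filter pairOK).map fun p =>
      (p.1 * p.1 + p.2.1 * p.2.1, p.2.2.1 * p.2.2.1 + p.2.2.2 * p.2.2.2,
        p.1 * p.2.2.1 + p.2.1 * p.2.2.2)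

def good (a b : ℤ × ℤ × ℤ × ℤ × ℤ) : Bool :=
  match a, b with
  | (e, w, v, _, q3), (e', w', v', _, q3') =>
    decide ((e - e') % 2 = 0 ∧ (w - w') % 2 = 0 ∧ (v - v') % 2 = 0 ∧ (q3 - q3') % 2 = 0 ∧
      ((e - e') % 3 = 0 ↔ e' % 3 ≠ 2))

def trip (a b : ℤ × ℤ × ℤ × ℤ × ℤ) (m2 m3 : ℤ) : ℤ × ℤ × ℤ :=
  match a, b with
  | (e, w, v, q2, q3), (e', w', v', q2', q3') =>
    (12 - (1 + (e - 1) ^ 2 + 2 * e ^ 2 + w ^ 2 + v ^ 2 + m2 * q2 ^ 2 + m3 * q3 ^ 2),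
      36 - (1 + (e' - 1) ^ 2 + 2 * e' ^ 2 + w' ^ 2 + v' ^ 2 + m2 * q2' ^ 2 + m3 * q3' ^ 2),
      -(1 + (e - 1) * (e' - 1) + 2 * e * e' + w * w' + v * v' + m2 * (q2 * q2') + m3 * (q3 * q3')))

def check (var : Bool) : Bool :=
  let T := triples.eraseDups
  (rows 12 2 3 var).all fun a => ((rows 36 4 6 var).filter (good a)).all fun b =>
    [3, 4, 7, 9, 10, 12].all fun m2 => [3, 4, 7, 9, 10, 12].all fun m3 => !T.contains (trip a b m2 m3)

theorem check_true : check false = true ∧ check true = true := by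
  constructor <;> decide +kernel

theorem mem_rng {k : ℕ} {x : ℤ} (h1 : -(k : ℤ) ≤ x) (h2 : x ≤ k) : x ∈ rng k := by
  simp only [rng, List.mem_map, List.mem_range]
  exact ⟨(x + k).toNat, by omega, by omega⟩

theorem mem_rng_sq {k : ℕ} {x : ℤ} (h : x * x < ((k : ℤ) + 1) ^ 2) : x ∈ rng k :=
  mem_rng (by nlinarith) (by nlinarith)

theorem mem_rows {C : ℤ} {ke k : ℕ} {var : Bool} {e w v q2 q3 : ℤ}
    (hq2 : q2 = 1 + 2 * e + w)
    (hq3 : if var then v = 0 ∧ 2 * q3 = e + w - 2 else q3 = 2 - e - w + v)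
    (hC : 1 + (e - 1) ^ 2 + 2 * e ^ 2 + w ^ 2 + v ^ 2 + 3 * q2 ^ 2 + 3 * q3 ^ 2 ≤ C)
    (hke : C < 2 * ((ke : ℤ) + 1) ^ 2) (hk : C < ((k : ℤ) + 1) ^ 2) :
    (e, w, v, q2, q3) ∈ rows C ke k var := by
  have hb : ∀ x : ℤ, ∀ l : ℕ, x ^ 2 < ((l : ℤ) + 1) ^ 2 → x ∈ rng l := fun x l h =>
    mem_rng (by nlinarith) (by nlinarith)
  simp only [rows, List.mem_filter, List.mem_flatMap, List.mem_map]
  refine ⟨⟨e, hb e ke ?_, w, hb w k ?_, v, hb v k ?_, ?_⟩, ?_⟩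
  · nlinarith [sq_nonneg (e - 1), sq_nonneg w, sq_nonneg v, sq_nonneg q2, sq_nonneg q3]
  · nlinarith [sq_nonneg (e - 1), sq_nonneg e, sq_nonneg v, sq_nonneg q2, sq_nonneg q3]
  · nlinarith [sq_nonneg (e - 1), sq_nonneg e, sq_nonneg w, sq_nonneg q2, sq_nonneg q3]
  · cases var <;> simp at hq3 ⊢ <;> omega
  · cases var <;> simp [rowOK, hq2] at hq3 ⊢ <;> simp_all

set_option maxHeartbeats 1600000 in
/-- There are no columns at elements of orders `6` and `3` with centralisers of order `12`, `36`. -/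
theorem no_columns {var : Bool} {m2 m3 : ℕ} (h2 : 3 ≤ m2) (h3 : 3 ≤ m3)
    (h23 : ¬ 3 ∣ 4 * m2 + 1) (h25 : ¬ 5 ∣ 4 * m2 + 1)
    (h33 : ¬ 3 ∣ 4 * m3 + 1) (h35 : ¬ 5 ∣ 4 * m3 + 1)
    {e w v q2 q3 e' w' v' q2' q3' z1 z2 u1 u2 : ℤ}
    (hq2 : q2 = 1 + 2 * e + w) (hq2' : q2' = 1 + 2 * e' + w')
    (hq3 : if var then v = 0 ∧ 2 * q3 = e + w - 2 else q3 = 2 - e - w + v)
    (hq3' : if var then v' = 0 ∧ 2 * q3' = e' + w' - 2 else q3' = 2 - e' - w' + v')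
    (hA : 1 + (e - 1) ^ 2 + 2 * e ^ 2 + w ^ 2 + v ^ 2 + m2 * q2 ^ 2 + m3 * q3 ^ 2 +
      (z1 * z1 + z2 * z2) = 12)
    (hB : 1 + (e' - 1) ^ 2 + 2 * e' ^ 2 + w' ^ 2 + v' ^ 2 + m2 * q2' ^ 2 + m3 * q3' ^ 2 +
      (u1 * u1 + u2 * u2) = 36)
    (hD : 1 + (e - 1) * (e' - 1) + 2 * e * e' + w * w' + v * v' + m2 * (q2 * q2') +
      m3 * (q3 * q3') + (z1 * u1 + z2 * u2) = 0)
    (he : (e - e') % 2 = 0) (hw : (w - w') % 2 = 0) (hv : (v - v') % 2 = 0)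
    (hq : (q3 - q3') % 2 = 0) (hr : (e - e') % 3 = 0 ↔ e' % 3 ≠ 2)
    (hu1 : u1 % 3 ≠ 0) (hp1 : (z1 - u1) % 2 = 0) (hp2 : (z2 - u2) % 2 = 0)
    (hu2 : u2 % 3 ≠ 0 ∨ (z2 = 0 ∧ u2 = 0)) : False := by
  have hm2 : (3 : ℤ) ≤ m2 := by exact_mod_cast h2
  have hm3 : (3 : ℤ) ≤ m3 := by exact_mod_cast h3
  have n1 := mul_le_mul_of_nonneg_right hm2 (sq_nonneg q2)
  have n2 := mul_le_mul_of_nonneg_right hm3 (sq_nonneg q3)
  have n3 := mul_le_mul_of_nonneg_right hm2 (sq_nonneg q2')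
  have n4 := mul_le_mul_of_nonneg_right hm3 (sq_nonneg q3')
  have hz : z1 * z1 + z2 * z2 ≤ 12 := by
    nlinarith [sq_nonneg (e - 1), sq_nonneg e, sq_nonneg w, sq_nonneg v, sq_nonneg q2, sq_nonneg q3]
  have hu : u1 * u1 + u2 * u2 ≤ 36 := by
    nlinarith [sq_nonneg (e' - 1), sq_nonneg e', sq_nonneg w', sq_nonneg v', sq_nonneg q2',
      sq_nonneg q3']
  have ra := mem_rows (C := 12) (ke := 2) (k := 3) (var := var) hq2 hq3
    (by nlinarith) (by norm_num) (by norm_num)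
  have rb := mem_rows (C := 36) (ke := 4) (k := 6) (var := var) hq2' hq3'
    (by nlinarith) (by norm_num) (by norm_num)
  have hT : (z1 * z1 + z2 * z2, u1 * u1 + u2 * u2, z1 * u1 + z2 * u2) ∈ triples.eraseDups := by
    rw [List.mem_eraseDups]
    simp only [triples, List.mem_map, List.mem_filter, List.mem_flatMap]
    have s1 := mul_self_nonneg z1; have s2 := mul_self_nonneg z2
    have s3 := mul_self_nonneg u1; have s4 := mul_self_nonneg u2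
    refine ⟨(z1, z2, u1, u2), ⟨⟨z1, mem_rng_sq (by norm_num; linarith), z2,
      mem_rng_sq (by norm_num; linarith), u1, mem_rng_sq (by norm_num; linarith), u2,
      mem_rng_sq (by norm_num; linarith), rfl⟩, ?_⟩, rfl⟩
    simp only [pairOK, decide_eq_true_eq]
    exact ⟨hu1, hp1, hp2, hu2, hz, hu⟩
  -- a multiplicity occurring with zero values only may be replaced by 3
  have red : ∀ (m : ℕ) (p p' : ℤ), 3 ≤ m → ¬ 3 ∣ 4 * m + 1 → ¬ 5 ∣ 4 * m + 1 → (p - p') % 2 = 0 →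
      (m : ℤ) * p ^ 2 ≤ 12 → (m : ℤ) * p' ^ 2 ≤ 36 → ∃ M ∈ ([3, 4, 7, 9, 10, 12] : List ℤ),
        (M * p ^ 2 = m * p ^ 2 ∧ M * p' ^ 2 = m * p' ^ 2 ∧ M * (p * p') = m * (p * p')) := by
    intro m p p' hm a b hpar hp hp'
    by_cases h0 : p = 0 ∧ p' = 0
    · exact ⟨3, by simp, by rw [h0.1, h0.2]; simp⟩
    have : m ≤ 12 := by
      by_contra hlt
      have hl : (13 : ℤ) ≤ m := by exact_mod_cast (show 13 ≤ m by omega)
      have p0 : p = 0 := by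
        by_contra hne
        have : 1 ≤ p ^ 2 := Int.add_one_le_iff.2 (sq_pos_of_ne_zero hne)
        nlinarith
      have : 2 ≤ |p'| := by
        have hne : p' ≠ 0 := fun h => h0 ⟨p0, h⟩
        rw [p0] at hpar
        rcases lt_or_gt_of_ne hne with h | h
        · rw [abs_of_neg h]; omega
        · rw [abs_of_pos h]; omega
      nlinarith [sq_abs p']
    have hm9 : m = 3 ∨ m = 4 ∨ m = 7 ∨ m = 9 ∨ m = 10 ∨ m = 12 := by interval_cases m <;> omega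
    refine ⟨m, ?_, rfl, rfl, rfl⟩
    rcases hm9 with rfl | rfl | rfl | rfl | rfl | rfl <;> simp
  obtain ⟨M2, hM2, a2, b2, c2⟩ := red m2 q2 q2' h2 h23 h25 (by omega)
    (by nlinarith) (by nlinarith)
  obtain ⟨M3, hM3, a3, b3, c3⟩ := red m3 q3 q3' h3 h33 h35 hq
    (by nlinarith) (by nlinarith)
  have hc : check var = true := by cases var <;> [exact check_true.1; exact check_true.2]
  simp only [check, List.all_eq_true] at hc
  have hg : good (e, w, v, q2, q3) (e', w', v', q2', q3') = true := by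
    simp only [good, decide_eq_true_eq]
    exact ⟨he, hw, hv, hq, hr⟩
  have hfin := hc _ ra _ (List.mem_filter.2 ⟨rb, hg⟩) M2 hM2 M3 hM3
  simp only [Bool.not_eq_true', ← Bool.not_eq_true, List.contains_iff_mem] at hfin
  apply hfin
  have : trip (e, w, v, q2, q3) (e', w', v', q2', q3') M2 M3 =
      (z1 * z1 + z2 * z2, u1 * u1 + u2 * u2, z1 * u1 + z2 * u2) := by
    simp only [trip, a2, b2, c2, a3, b3, c3]
    ext <;> simp <;> linarith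
  rwa [this]

end CfsgLib.ThreeCC.Finite
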