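import Cfsg.Agent.ThreeCC.StdCase
import Cfsg.Agent.ThreeCC.Finite

/-!
The cases in which an order `4` family is degenerate or a subgroup has order `9`.
-/

set_option autoImplicit false
set_option linter.unusedSectionVars false
set_option linter.style.haveILetI false

namespace CfsgLib.ThreeCC

open CfsgLib.Char
open scoped ComplexConjugate Classical

universe u

theorem deg_bound {m2 m3 p w v q2 q3 C : ℤ} (h2 : 3 ≤ m2) (h3 : 3 ≤ m3) (e2 : q2 = 1 + 2 * p + w)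
    (e3 : q3 = 2 - p - w + v ∨ (v = 0 ∧ 2 * q3 = p + w - 2))
    (h : 1 + (p - 1) ^ 2 + 2 * p ^ 2 + w ^ 2 + v ^ 2 + m2 * q2 ^ 2 + m3 * q3 ^ 2 ≤ C) :
    23 * p ^ 2 ≤ 4 * C ∧ 8 ≤ C := by
  have a2 := mul_le_mul_of_nonneg_right h2 (sq_nonneg q2)
  have a3 := mul_le_mul_of_nonneg_right h3 (sq_nonneg q3)
  have hv : 3 * (2 - p - w) ^ 2 ≤ 4 * (v ^ 2 + 3 * q3 ^ 2) := by
    rcases e3 with rfl | ⟨rfl, e⟩
    · nlinarith [sq_nonneg (4 * v + 3 * (2 - p - w))]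
    · have : (2 - p - w) ^ 2 = 4 * q3 ^ 2 := by
        rw [show 2 - p - w = -(2 * q3) by linarith]; ring
      nlinarith
  subst e2
  refine ⟨by nlinarith [sq_nonneg (19 * w + 27 * p + 6), sq_nonneg (p + 1), sq_nonneg p], ?_⟩
  by_contra hC
  have hp : -2 ≤ p ∧ p ≤ 2 := by constructor <;> nlinarith
  have hw : -3 ≤ w ∧ w ≤ 3 := by constructor <;> nlinarith
  obtain ⟨p1, p2⟩ := hp
  obtain ⟨w1, w2⟩ := hw
  interval_cases p <;> interval_cases w <;> nlinarith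

theorem one_hot {ι : Type*} (R : Finset ι) (f : ι → ℤ) (h : ∑ i ∈ R, f i ^ 2 ≤ 1) (a b : ι → ℤ) :
    (∑ i ∈ R, f i * a i) * (∑ i ∈ R, f i * b i) =
      ∑ i ∈ R.filter (fun i => f i ≠ 0), a i * b i := by
  rw [← Finset.sum_filter_of_ne (p := fun i => f i ≠ 0) (s := R) (f := fun i => f i * a i)
      (fun i _ hi h0 => hi (by simp only [h0, zero_mul])),
    ← Finset.sum_filter_of_ne (p := fun i => f i ≠ 0) (s := R) (f := fun i => f i * b i)
      (fun i _ hi h0 => hi (by simp only [h0, zero_mul]))]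
  have hc : (R.filter fun i => f i ≠ 0).card ≤ 1 := by
    have h1 : ((R.filter fun i => f i ≠ 0).card : ℤ) ≤ ∑ i ∈ R.filter (fun i => f i ≠ 0), f i ^ 2 := by
      rw [Finset.card_eq_sum_ones, Nat.cast_sum]
      refine Finset.sum_le_sum fun i hi => ?_
      exact_mod_cast Int.add_one_le_iff.2 (sq_pos_of_ne_zero (Finset.mem_filter.1 hi).2)
    have h2 := Finset.sum_le_sum_of_subset_of_nonneg (f := fun i => f i ^ 2)
      (Finset.filter_subset (fun i => f i ≠ 0) R) fun i _ _ => sq_nonneg _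
    omega
  rcases Nat.le_one_iff_eq_zero_or_eq_one.1 hc with h0 | h0
  · rw [Finset.card_eq_zero.1 h0]; simp
  · obtain ⟨i, hi⟩ := Finset.card_eq_one.1 h0
    have him : i ∈ R.filter fun i => f i ≠ 0 := by rw [hi]; exact Finset.mem_singleton_self i
    have hf : f i * f i = 1 := by
      have h1 := Finset.single_le_sum (fun j _ => sq_nonneg (f j)) (Finset.mem_filter.1 him).1
      have h2 : 1 ≤ f i ^ 2 := Int.add_one_le_iff.2 (sq_pos_of_ne_zero (Finset.mem_filter.1 him).2)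
      rw [← pow_two]; linarith
    rw [hi, Finset.sum_singleton, Finset.sum_singleton, Finset.sum_singleton]
    linear_combination (a i * b i) * hf

theorem mod_three {X P N k : ℤ} (hN : ¬ 3 ∣ N) (hk : ¬ 3 ∣ k) (h : k * ((X - 1) * X) = N * P ^ 2) :
    3 ∣ P ↔ X % 3 ≠ 2 := by
  have p3 : Prime (3 : ℤ) := Int.prime_three
  constructor
  · intro hP hX
    rcases p3.dvd_or_dvd (show (3 : ℤ) ∣ k * ((X - 1) * X) from h ▸ (hP.pow two_ne_zero).mul_left N)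
      with h1 | h1
    · exact hk h1
    rcases p3.dvd_or_dvd h1 with h2 | h2 <;> omega
  · intro hX
    have h1 : (3 : ℤ) ∣ (X - 1) * X := by
      rcases (by omega : (3 : ℤ) ∣ X - 1 ∨ (3 : ℤ) ∣ X) with h2 | h2
      · exact h2.mul_right _
      · exact h2.mul_left _
    have h2 : (3 : ℤ) ∣ N * P ^ 2 := h ▸ h1.mul_left k
    exact p3.dvd_of_dvd_pow ((p3.dvd_or_dvd h2).resolve_left hN)

variable {G : Type u} [Group G] [Fintype G] {A₁ A₂ A₃ : Subgroup G} {S : Sys A₁ A₂ A₃}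

namespace Base

variable (B : Base S)
include B

theorem cong_tx_x (V : IntAt (B.t * B.x)) (W : IntAt B.x) {ψ : G → ℂ}
    (hψ : Cfsg.IsIrrCharacter G ψ) : (2 : ℤ) ∣ V.v ψ - W.v ψ :=
  cong_int Nat.prime_two (show Commute B.t B.x from B.at_.comm.symm) (n := 1)
    (by rw [pow_one, ← B.at_.five.ord_t, pow_orderOf_eq_one]) (m := B.r)
    (fun h => B.at_.hr2 ((Nat.prime_dvd_prime_iff_eq Nat.prime_two B.at_.hr).1 h).symm)
    (by rw [← B.at_.ord_x, pow_orderOf_eq_one]) V W hψ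

theorem cong_x_one (W : IntAt B.x) {ψ : G → ℂ} (hψ : Cfsg.IsIrrCharacter G ψ) {d : ℕ}
    (hd : ψ 1 = d) : (B.r : ℤ) ∣ W.v ψ - d := by
  obtain ⟨I⟩ := exists_intAt (g := (1 : G)) fun i _ => by rw [one_pow]
  let W' : IntAt (B.x * 1) := ⟨W.v, fun φ hφ => by rw [mul_one]; exact W.spec φ hφ⟩
  have e : I.v ψ = d := by
    have := I.spec ψ hψ
    rw [hd] at this
    exact_mod_cast this.symm
  rw [← e]
  exact cong_int B.at_.hr (Commute.one_right B.x) (n := 1)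
    (by rw [pow_one, ← B.at_.ord_x, pow_orderOf_eq_one]) (m := 1)
    (fun h => B.at_.hr.one_lt.ne' (Nat.dvd_one.1 h)) (one_pow 1) W' I hψ

set_option maxHeartbeats 1000000 in
theorem false_of_deg (hq : S.qv = 1) (hq' : S.swap.qv = 0) (hm : S.F1.m = 2) (hrv : S.rv = 0)
    (hrv' : S.swap.rv = 0) (he : S.F2.e = 0) (h22 : S.sq2 = 1)
    (h23 : ∑ ψ ∈ S.R, S.F2.cst ψ * S.F3.cst ψ = -1)
    (hor : (S.F3.e = 0 ∧ S.swap.sq2 = 2) ∨ (S.F3.e = S.F3.ε ∧ S.F3.m = 3 ∧ S.swap.sq2 = 1)) :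
    False := by
  have hn1 := S.F1.hm
  have hn2 := S.F2.hm
  have hn3 := S.F3.hm
  have hr3 : B.r = 3 := by
    rcases B.at_.r_mem with e | e
    · exact e
    · exfalso
      refine B.at_.not_dvd ?_
      rw [e, ← hn1, hm]
      exact ((dvd_refl 5).mul_right _).mul_right _
  obtain ⟨a32, a33⟩ := B.not_three_dvd hr3
  have h5 : ¬ 5 ∣ Nat.card A₂ ∧ ¬ 5 ∣ Nat.card A₃ := by
    have h1 : Nat.card A₁ = 5 := by rw [← hn1, hm]
    exact ⟨fun h => absurd (Nat.eq_one_of_dvd_coprimes S.hyp.co12 (h1 ▸ dvd_rfl) h) (by norm_num),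
      fun h => absurd (Nat.eq_one_of_dvd_coprimes S.hyp.co13 (h1 ▸ dvd_rfl) h) (by norm_num)⟩
  obtain ⟨n2ge, n3ge, n23⟩ := S.hyp.nine_le
  have hmod2 := S.hyp.mod2
  have hmod3 := S.hyp.swap.mod2
  have hm2 : 3 ≤ S.F2.m := by omega
  have hm3 : 3 ≤ S.F3.m := by omega
  have hm2z : (3 : ℤ) ≤ S.F2.m := by exact_mod_cast hm2
  have hm3z : (3 : ℤ) ≤ S.F3.m := by exact_mod_cast hm3
  -- the two combinations on the remaining characters
  set u : (G → ℂ) → ℤ := fun ψ => S.F2.cst ψ + S.F3.cst ψ with hu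
  have h33eq : S.swap.sq2 = ∑ ψ ∈ S.R, S.F3.cst ψ ^ 2 := by simp only [Sys.sq2, S.swap_R]; rfl
  have hu2 : ∑ ψ ∈ S.R, u ψ ^ 2 = S.swap.sq2 - 1 := by
    simp only [hu, add_sq, Finset.sum_add_distrib, mul_assoc, ← Finset.mul_sum]
    rw [show ∑ ψ ∈ S.R, S.F2.cst ψ ^ 2 = S.sq2 from rfl, h22, h23, ← h33eq]
    ring
  have hu1 : ∑ ψ ∈ S.R, u ψ ^ 2 ≤ 1 := by
    rw [hu2]; rcases hor with ⟨-, h⟩ | ⟨-, -, h⟩ <;> omega
  have hexcl : ∀ ψ ∈ S.R, S.F2.cst ψ ≠ 0 → u ψ = 0 := by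
    intro ψ hψ h2
    have hh := one_hot S.R (fun φ => S.F2.cst φ) (le_of_eq h22) (fun φ => S.F2.cst φ)
      (fun φ => S.F3.cst φ)
    have hmem : ψ ∈ S.R.filter fun φ => S.F2.cst φ ≠ 0 := Finset.mem_filter.2 ⟨hψ, h2⟩
    have hcard : (S.R.filter fun φ => S.F2.cst φ ≠ 0).card ≤ 1 := by
      have := S.card_filter_le fun φ => S.F2.cst φ
      rw [show ∑ φ ∈ S.R, S.F2.cst φ ^ 2 = S.sq2 from rfl, h22] at this
      exact_mod_cast this
    have hs : S.R.filter (fun φ => S.F2.cst φ ≠ 0) = {ψ} := Finset.eq_singleton_iff_unique_mem.2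
      ⟨hmem, fun φ hφ => Finset.card_le_one.1 hcard φ hφ ψ hmem⟩
    rw [hs, Finset.sum_singleton, h23] at hh
    have h1 := Finset.single_le_sum (fun j _ => sq_nonneg (S.F2.cst j)) hψ
    rw [show ∑ φ ∈ S.R, S.F2.cst φ ^ 2 = S.sq2 from rfl, h22] at h1
    have h4 : 1 ≤ S.F2.cst ψ ^ 2 := Int.add_one_le_iff.2 (sq_pos_of_ne_zero h2)
    have h5 : ∑ φ ∈ S.R, S.F2.cst φ * S.F2.cst φ = 1 := by
      rw [← h22, Sys.sq2]; exact Finset.sum_congr rfl fun φ _ => (pow_two _).symm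
    have h6 : ∑ φ ∈ S.R, S.F2.cst φ * S.F3.cst φ = -1 := h23
    rw [h5] at hh
    simp only [hu]
    rcases sq_eq_one_iff.1 (le_antisymm h1 h4) with e | e <;> rw [e] at hh ⊢ <;> linarith
  have hsplit : ∀ f : (G → ℂ) → ℤ, ∑ ψ ∈ S.R, f ψ =
      ∑ ψ ∈ S.R.filter (fun ψ => S.F2.cst ψ ≠ 0), f ψ + ∑ ψ ∈ S.R.filter (fun ψ => u ψ ≠ 0), f ψ +
        ∑ ψ ∈ S.Z, f ψ := by
    intro f
    have hd : Disjoint (S.R.filter fun ψ => S.F2.cst ψ ≠ 0) (S.R.filter fun ψ => u ψ ≠ 0) :=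
      Finset.disjoint_left.2 fun ψ h1 h2 =>
        (Finset.mem_filter.1 h2).2 (hexcl ψ (Finset.mem_filter.1 h1).1 (Finset.mem_filter.1 h1).2)
    rw [← Finset.sum_union hd]
    have hs : S.R.filter (fun ψ => S.F2.cst ψ ≠ 0) ∪ S.R.filter (fun ψ => u ψ ≠ 0) = S.supp := by
      rw [← Finset.filter_or]
      refine Finset.filter_congr fun ψ _ => ?_
      simp only [hu]
      omega
    rw [hs, Sys.Z, add_comm, Finset.sum_sdiff S.supp_subset]
  let vv : ∀ {g : G}, IntAt g → ℤ := fun V => ∑ ψ ∈ S.R, u ψ * V.v ψ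
  have hprod : ∀ {g h : G} (V : IntAt g) (W : IntAt h), ∑ ψ ∈ S.R, V.v ψ * W.v ψ =
      S.W2 V * S.W2 W + vv V * vv W + ∑ ψ ∈ S.Z, V.v ψ * W.v ψ := by
    intro g h V W
    rw [hsplit, ← one_hot S.R (fun ψ => S.F2.cst ψ) (le_of_eq h22), ← one_hot S.R u hu1]
    rfl
  have rel : ∀ {g : G}, Out A₁ A₂ A₃ g → ∀ V : IntAt g, S.P2 V = 1 + 2 * S.P1 V + S.W2 V ∧
      ((S.F3.e = 0 ∧ S.P3 V = 2 - S.P1 V - S.W2 V + vv V) ∨
        (S.F3.e = S.F3.ε ∧ S.F3.m = 3 ∧ vv V = 0 ∧ 2 * S.P3 V = S.P1 V + S.W2 V - 2)) := by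
    intro g hg V
    have h2 := S.orth2_int hg V
    rw [hq, hrv, he, hm] at h2
    have h3 := S.swap.orth2_int (g := g) ⟨hg.1, hg.2.2, hg.2.1⟩ V
    rw [hq', hrv', S.swap_P1, S.swap_P2, show S.swap.F2 = S.F3 from rfl] at h3
    have hW : S.swap.W2 V = vv V - S.W2 V := by
      rw [S.swap_W2]
      simp only [vv, hu, Sys.W2, ← Finset.sum_sub_distrib]
      exact Finset.sum_congr rfl fun ψ _ => by ring
    rw [hW] at h3
    push_cast at h2 h3
    refine ⟨by rcases S.F2.hε with e | e <;> rw [e] at h2 <;> linear_combination -h2, ?_⟩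
    rcases hor with ⟨he3, -⟩ | ⟨he3, hm3', h33⟩
    · refine Or.inl ⟨he3, ?_⟩
      rw [he3] at h3
      rcases S.F3.hε with e | e <;> rw [e] at h3 <;> linear_combination -h3
    · have hv : vv V = 0 := Finset.sum_eq_zero fun ψ hψ => by
        rw [h33, sub_self] at hu2
        rw [pow_eq_zero_iff (n := 2) (by norm_num) |>.1
          ((Finset.sum_eq_zero_iff_of_nonneg fun ψ _ => sq_nonneg (u ψ)).1 hu2 ψ hψ), zero_mul]
      refine Or.inr ⟨he3, hm3', hv, ?_⟩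
      rw [he3, hm3', hv] at h3
      push_cast at h3
      rcases S.F3.hε with e | e <;> rw [e] at h3 <;> linear_combination h3
  have bound : ∀ {g : G}, Out A₁ A₂ A₃ g → ∀ V : IntAt g,
      23 * S.P1 V ^ 2 ≤ 4 * (Nat.card (Subgroup.centralizer ({g} : Set G)) : ℤ) ∧
        8 ≤ (Nat.card (Subgroup.centralizer ({g} : Set G)) : ℤ) := by
    intro g hg V
    obtain ⟨e2, e3⟩ := rel hg V
    have h := S.col_self hg V
    rw [hm, show ∑ ψ ∈ S.R, V.v ψ ^ 2 = ∑ ψ ∈ S.R, V.v ψ * V.v ψ from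
      Finset.sum_congr rfl fun ψ _ => pow_two _, hprod V V] at h
    refine deg_bound hm2z hm3z e2 (v := vv V) (q3 := S.P3 V) ?_ ?_
    · exact e3.imp And.right fun ⟨_, _, a, b⟩ => ⟨a, b⟩
    · have hz : 0 ≤ ∑ ψ ∈ S.Z, V.v ψ * V.v ψ := Finset.sum_nonneg fun ψ _ => mul_self_nonneg _
      push_cast at h
      nlinarith
  -- the equation at the involution
  have hy1 := B.χ_mod1
  have hy2 := B.χ_mod2
  rw [hq, sub_self, mul_zero, sub_zero] at hy2
  have hy3 : (Nat.card A₃ : ℤ) ∣ S.δ * S.X := by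
    have h := S.F3.cst_dvd S.swap.χ_rest2 (S.χ_one)
    rw [show S.F3.cst S.swap.χ = S.δ * (S.swap.qv - 1) from S.swap.χ_cst_eq, hq'] at h
    rw [B.X_cast]
    convert h using 1; ring
  set n2 := Nat.card A₂ with hn2d
  set n3 := Nat.card A₃ with hn3d
  have n2ge' : 13 ≤ n2 := by omega
  have n3ge' : 13 ≤ n3 := by omega
  have hy2n : n2 ∣ S.y := Int.natCast_dvd_natCast.1 hy2
  have hy13 : 13 ≤ S.y := n2ge'.trans (Nat.le_of_dvd S.y_pos hy2n)
  have hXpos : 0 < S.δ * S.X := B.δX_pos (by omega)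
  have hX17 : 17 ≤ S.δ * S.X := by
    obtain ⟨k, hk⟩ := hy3
    have hk0 : 0 < k := by
      by_contra hlt
      have : (n3 : ℤ) * k ≤ 0 := mul_nonpos_of_nonneg_of_nonpos (Int.natCast_nonneg _) (by omega)
      omega
    rcases (by omega : k = 1 ∨ 2 ≤ k) with rfl | h2
    · rcases (by omega : n3 = 13 ∨ 17 ≤ n3) with e | e
      · exfalso
        rw [e, B.X_cast] at hk
        have h17 : 17 ≤ n2 := by omega
        have := Nat.le_of_dvd S.y_pos hy2n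
        rcases S.hδ with e' | e' <;> rw [e'] at hk <;> omega
      · rw [hk, mul_one]; exact_mod_cast e
    · rw [hk]
      have h13 : (13 : ℤ) ≤ n3 := by exact_mod_cast n3ge'
      nlinarith
  set N := n2 * n3 with hN
  have hdiv : (N : ℤ) ∣ (S.y : ℤ) * (S.δ * S.X) := by
    rw [hN, Nat.cast_mul]; exact mul_dvd_mul hy2 hy3
  obtain ⟨Vt⟩ := B.intAt_t
  have hcolt := (bound B.out_t Vt).1
  rw [B.v_t Vt] at hcolt
  let E : DegEq :=
    { c := B.c, r := B.ρ, N := N, y := S.y, a := B.av, X := S.δ * S.X, δ := S.δ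
      hr := B.odd.pos
      hδ := S.hδ
      hX := rfl
      hy := by exact_mod_cast S.y_pos
      hX17 := hX17
      hN := Nat.mul_pos (by omega) (by omega)
      hdiv := hdiv
      eq := B.eqn
      col := hcolt
      ord := le_of_le_of_eq B.small (by rw [← hn1, hm, hN]; ring)
      ord' := lt_of_eq_of_lt (by rw [← hn1, hm, hN]; ring) B.big }
  have hρ1 : B.ρ ≠ 1 := E.r_ne_one
  have hρ8 : B.ρ ≤ 8 := E.r_le
  have hρodd := Nat.odd_iff.1 B.odd
  have h5M : ¬ 5 ∣ B.ρ := fun h => absurd (Nat.eq_one_of_dvd_coprimes B.cop h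
    (((hn1 ▸ hm.symm ▸ dvd_refl 5 : 5 ∣ Nat.card A₁).mul_right _).mul_right _)) (by norm_num)
  rcases (by omega : B.ρ = 7 ∨ B.ρ = 3) with hρ | hρ
  · obtain ⟨w, hw, ⟨Vw⟩, hcw⟩ := B.extra_elem (p := 7) (by norm_num) (hρ ▸ dvd_rfl) (by omega)
    have h8 := (bound hw Vw).2
    have h7 : Nat.card (Subgroup.centralizer ({w} : Set G)) ≤ 7 :=
      Nat.le_of_dvd (by norm_num) (hρ ▸ hcw)
    omega
  obtain ⟨a, l, g, d, hg, hc, hD, hX', hρd, hl⟩ := B.at_.shape (B.idx hρ1)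
  rw [hr3] at hg
  rcases hg with rfl | ⟨-, rfl⟩
  swap
  · have h1 := B.at_.ct_le (B.idx hρ1) ⟨a, hc⟩ hr3
    have h2 : 5 * N < B.ρ * B.c := E.ord'
    have h3 : 221 ≤ N := B.N_ge hr3
    rw [hρ] at h2
    simp only [Base.c] at h2
    omega
  obtain ⟨V⟩ := B.intAt_tx
  obtain ⟨W⟩ := B.intAt_x
  rcases hl with ⟨rfl, -⟩ | ⟨rfl, -, rfl, -⟩
  · have := (bound B.out_tx V).2
    rw [hD] at this
    norm_num at this
  rw [hr3] at hX'
  replace hD : Nat.card (Subgroup.centralizer ({B.t * B.x} : Set G)) = 12 := hD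
  replace hX' : Nat.card (Subgroup.centralizer ({B.x} : Set G)) = 36 := hX'
  -- the columns at `tx` and `x`
  have hneg : ¬ IsConj (B.t * B.x) B.x := fun h => by
    have := orderOf_isConj h
    rw [B.at_.ord_prod B.at_.five.ord_t B.at_.ord_x B.at_.comm.symm B.at_.two_coprime, B.at_.ord_x,
      hr3] at this
    omega
  have hA := S.col B.out_tx B.out_tx V V
  have hB := S.col B.out_x B.out_x W W
  have hDD := S.col B.out_tx B.out_x V W
  rw [if_pos (IsConj.refl _), hm, hprod V V, hD] at hA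
  rw [if_pos (IsConj.refl _), hm, hprod W W, hX'] at hB
  rw [if_neg hneg, hm, hprod V W] at hDD
  obtain ⟨eV2, eV3⟩ := rel B.out_tx V
  obtain ⟨eW2, eW3⟩ := rel B.out_x W
  have p2 : ∀ {ψ}, Cfsg.IsIrrCharacter G ψ → (2 : ℤ) ∣ V.v ψ - W.v ψ := fun hψ => B.cong_tx_x V W hψ
  have hpe : (S.P1 V - S.P1 W) % 2 = 0 := by
    refine Int.emod_eq_zero_of_dvd ?_
    simp only [Sys.P1, ← mul_sub]
    exact (p2 (S.F1.irr _)).mul_left _
  have hpq : (S.P3 V - S.P3 W) % 2 = 0 := by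
    refine Int.emod_eq_zero_of_dvd ?_
    simp only [Sys.P3, ← mul_sub]
    exact (p2 (S.F3.irr _)).mul_left _
  have hpw : (S.W2 V - S.W2 W) % 2 = 0 := by
    refine Int.emod_eq_zero_of_dvd ?_
    simp only [Sys.W2, ← Finset.sum_sub_distrib, ← mul_sub]
    exact Finset.dvd_sum fun ψ hψ => (p2 (S.irr_R hψ)).mul_left _
  have hpv : (vv V - vv W) % 2 = 0 := by
    refine Int.emod_eq_zero_of_dvd ?_
    simp only [vv, ← Finset.sum_sub_distrib, ← mul_sub]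
    exact Finset.dvd_sum fun ψ hψ => (p2 (S.irr_R hψ)).mul_left _
  -- the congruence modulo 3
  have hN3 : ¬ (3 : ℤ) ∣ (N : ℤ) := by
    rw [show (3 : ℤ) = ((3 : ℕ) : ℤ) from rfl, Int.natCast_dvd_natCast, hN]
    exact fun h => (Nat.prime_three.dvd_mul.1 h).elim a32 a33
  have hk3 : ¬ (3 : ℤ) ∣ ((2 ^ a : ℕ) : ℤ) := by
    rw [show (3 : ℤ) = ((3 : ℕ) : ℤ) from rfl, Int.natCast_dvd_natCast]
    exact fun h => absurd ((Nat.prime_dvd_prime_iff_eq Nat.prime_three Nat.prime_two).1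
      (Nat.prime_three.dvd_of_dvd_pow h)) (by norm_num)
  have hPe : (3 : ℤ) ∣ (S.y : ℤ) - B.av ↔ S.X % 3 ≠ 2 := by
    refine mod_three hN3 hk3 ?_
    have h := B.eqn
    rw [hρ, show Nat.card A₂ * Nat.card A₃ = N from rfl, hc] at h
    refine mul_left_cancel₀ (show (3 : ℤ) ≠ 0 by norm_num) ?_
    have hy' : (S.y : ℤ) = S.δ * (S.X - 1) := by
      simp only [Sys.X]; rcases S.hδ with e | e <;> rw [e] <;> ring
    have hd : S.δ * S.δ = 1 := by rcases S.hδ with e | e <;> rw [e] <;> norm_num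
    push_cast at h ⊢
    linear_combination h - 3 * (2 : ℤ) ^ a * S.δ * S.X * hy' - 3 * (2 : ℤ) ^ a * (S.X - 1) * S.X * hd
  obtain ⟨Wt⟩ := B.intAt_t
  have hcV : (3 : ℤ) ∣ S.P1 V - (1 + S.δ * B.av) := by
    have h := B.cong_tx_t V Wt S.χ_irr
    rw [hr3, S.v_χ B.out_tx.1 V, S.v_χ B.out_t.1 Wt, ← B.v_t Wt] at *
    rcases S.hδ with e | e <;> rw [e] at h <;> norm_num at h
    · simpa using h
    · simpa using (dvd_neg.2 h)
  have hcW : (3 : ℤ) ∣ S.P1 W - S.X := by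
    have h := B.cong_x_one W S.χ_irr S.χ_one
    rw [hr3, S.v_χ B.out_x.1 W] at h
    simp only [Sys.X]
    rcases S.hδ with e | e <;> rw [e] at h ⊢
    · push_cast at h; omega
    · push_cast at h; omega
  have hr : (S.P1 V - S.P1 W) % 3 = 0 ↔ S.P1 W % 3 ≠ 2 := by
    have hX : S.X = 1 + S.δ * S.y := rfl
    rcases S.hδ with e | e <;> rw [e] at hX hcV <;> omega
  -- the characters vanishing on the subgroups
  have hZ1 : 1 ≤ S.Z.card := by
    have := (S.card_supp_le B.kind).1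
    have := S.card_R
    have := B.three_R
    omega
  have hzu : ∀ ψ ∈ S.Z, W.v ψ % 3 ≠ 0 := by
    intro ψ hψ h0
    have h := B.cong_x_one W (S.irr_R (S.mem_Z.1 hψ).1) (S.Z_degree hψ)
    rw [hr3] at h
    refine B.at_.not_dvd ?_
    rw [hr3]
    rw [← Int.natCast_dvd_natCast]
    push_cast at h ⊢
    omega
  obtain ⟨z1, z2, u1, u2, e11, e22, e12, hu1', hp1, hp2, hu2'⟩ : ∃ z1 z2 u1 u2 : ℤ,
      (∑ ψ ∈ S.Z, V.v ψ * V.v ψ = z1 * z1 + z2 * z2) ∧
      (∑ ψ ∈ S.Z, W.v ψ * W.v ψ = u1 * u1 + u2 * u2) ∧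
      (∑ ψ ∈ S.Z, V.v ψ * W.v ψ = z1 * u1 + z2 * u2) ∧ u1 % 3 ≠ 0 ∧ (z1 - u1) % 2 = 0 ∧
      (z2 - u2) % 2 = 0 ∧ (u2 % 3 ≠ 0 ∨ (z2 = 0 ∧ u2 = 0)) := by
    have hirr : ∀ ψ ∈ S.Z, Cfsg.IsIrrCharacter G ψ := fun ψ hψ => S.irr_R (S.mem_Z.1 hψ).1
    rcases (by have := S.card_Z_le; omega : S.Z.card = 1 ∨ S.Z.card = 2) with h | h
    · obtain ⟨ψ, hψ⟩ := Finset.card_eq_one.1 h
      have hm : ψ ∈ S.Z := by rw [hψ]; exact Finset.mem_singleton_self _
      exact ⟨V.v ψ, 0, W.v ψ, 0, by simp [hψ], by simp [hψ], by simp [hψ], hzu ψ hm,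
        Int.emod_eq_zero_of_dvd (p2 (hirr ψ hm)), by norm_num, Or.inr ⟨rfl, rfl⟩⟩
    · obtain ⟨ψ, φ, hne, hψ⟩ := Finset.card_eq_two.1 h
      have hm : ψ ∈ S.Z := by rw [hψ]; simp
      have hm' : φ ∈ S.Z := by rw [hψ]; simp
      exact ⟨V.v ψ, V.v φ, W.v ψ, W.v φ, by rw [hψ, Finset.sum_pair hne],
        by rw [hψ, Finset.sum_pair hne], by rw [hψ, Finset.sum_pair hne], hzu ψ hm,
        Int.emod_eq_zero_of_dvd (p2 (hirr ψ hm)), Int.emod_eq_zero_of_dvd (p2 (hirr φ hm')),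
        Or.inl (hzu φ hm')⟩
  rw [e11] at hA
  rw [e22] at hB
  rw [e12] at hDD
  push_cast at hA hB hDD
  refine Finite.no_columns (var := decide (S.F3.e ≠ 0)) hm2 hm3 ?_ ?_ ?_ ?_
    (e := S.P1 V) (w := S.W2 V) (v := vv V) (q2 := S.P2 V) (q3 := S.P3 V)
    (e' := S.P1 W) (w' := S.W2 W) (v' := vv W) (q2' := S.P2 W) (q3' := S.P3 W)
    eV2 eW2 ?_ ?_ (by linear_combination hA) (by linear_combination hB) (by linear_combination hDD)
    hpe hpw hpv hpq hr hu1' hp1 hp2 hu2'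
  · omega
  · omega
  · omega
  · omega
  · rcases eV3 with ⟨h0, h⟩ | ⟨h0, -, h, h'⟩
    · rw [h0]; simpa using h
    · have : S.F3.e ≠ 0 := by rw [h0]; rcases S.F3.hε with e | e <;> omega
      simp only [this, ne_eq, not_false_eq_true, decide_true, if_true]
      exact ⟨h, h'⟩
  · rcases eW3 with ⟨h0, h⟩ | ⟨h0, -, h, h'⟩
    · rw [h0]; simpa using h
    · have : S.F3.e ≠ 0 := by rw [h0]; rcases S.F3.hε with e | e <;> omega
      simp only [this, ne_eq, not_false_eq_true, decide_true, if_true]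
      exact ⟨h, h'⟩

/-- There is no such configuration. -/
theorem false : False := by
  have hk := B.kind
  rcases hk with ⟨a1, a2, a3, a4, a5, a6, a7, a8, a9⟩ | ⟨h2, h33, hle⟩ |
    ⟨a1, a2, a3, a4, a5, a6, a7, a8, a9⟩
  · exact B.false_of_std a1 a2 a3 a4 a5 a6 a7 a8 a9
  · have hm2 : S.F2.m = 2 := by exact_mod_cast h2
    have hn1 := S.F1.hm
    have hn2 := S.F2.hm
    have h2' := S.F1.two_le
    have h0 : 0 ≤ S.sq2 := Finset.sum_nonneg fun ψ _ => sq_nonneg _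
    have h3 : B.r ≠ 3 := fun e => (B.not_three_dvd e).1 (by omega)
    have hr5 : B.r = 5 := B.at_.r_mem.resolve_left h3
    rcases (by omega : S.F1.m = 2 ∨ S.F1.m = 3) with h | h
    · refine B.at_.not_dvd ?_
      rw [hr5, ← hn1, h]
      exact ((dvd_refl 5).mul_right _).mul_right _
    · have h1 := (S.card_supp_le B.kind).2 hm2 (by omega) h33
      have h4 := S.card_R
      have h5 := S.card_Z_le
      have h6 := B.three_R
      omega
  · refine B.false_of_deg a1 a2 (by exact_mod_cast a3) a4 a5 a6 a7 a8 ?_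
    exact a9.imp id fun ⟨x, y, z⟩ => ⟨x, by exact_mod_cast y, z⟩

end Base

end CfsgLib.ThreeCC
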