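import Cfsg.Agent.ThreeCC.Local
import Cfsg.Agent.Wall.Dihedral
import Cfsg.Agent.Char.NormTwo

/-!
The exceptional characters of a subgroup equal to the centraliser of each of its nonidentity
elements.
-/

set_option autoImplicit false
set_option linter.unusedSectionVars false
set_option linter.style.haveILetI false

namespace CfsgLib.ThreeCC

open CfsgLib.Char Subgroup
open CfsgLib.Wall (fTI sum_hom conj_hom_apply inner_indFun)
open scoped ComplexConjugate

universe u

variable {G : Type u} [Group G] [Fintype G]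

/-- The exceptional family of `A`: `φ q` are orbit sums of linear characters. -/
structure Fam (A : Subgroup G) (k : ℕ) where
  m : ℕ
  ε : ℤ
  e : ℤ
  θ : Fin m → G → ℂ
  φ : Fin m → G → ℂ
  two_le : 2 ≤ m
  hm : m * k + 1 = Nat.card A
  hε : ε = 1 ∨ ε = -1
  irr : ∀ q, Cfsg.IsIrrCharacter G (θ q)
  inj : Function.Injective θ
  deg : ∀ p q, θ p 1 = θ q 1
  val : ∀ q, ∀ a ∈ A, a ≠ 1 → θ q a = ε * φ q a + e
  off : ∀ p q g, ¬ InConj A g → θ p g = θ q g
  const : ∀ ψ, Cfsg.IsIrrCharacter G ψ → (∀ q, ψ ≠ θ q) → ∃ c : ℤ,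
    (∀ a ∈ A, a ≠ 1 → ψ a = c) ∧ ∀ d : ℕ, ψ 1 = d → (Nat.card A : ℤ) ∣ (d : ℤ) - c
  sum_φ : ∀ a ∈ A, a ≠ 1 → ∑ q, φ q a = -1
  sum_sq : ∀ a ∈ A, a ≠ 1 → ∑ q, φ q a * conj (φ q a) = (Nat.card A : ℂ) - k
  sep : ∀ p q, (∀ a ∈ A, a ≠ 1 → φ p a = φ q a) → p = q
  nconst : ∀ q, ∃ a ∈ A, a ≠ 1 ∧ ∃ b ∈ A, b ≠ 1 ∧ φ q a ≠ φ q b

namespace Construct

variable {A : Subgroup G} {k : ℕ} {u : G} (F : Frame A k u)

/-- Conjugation by the powers of the generator. -/
noncomputable def conjU (i : ℕ) : A →* A where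
  toFun a := ⟨u ^ i * a * (u ^ i)⁻¹, F.cc.conj_mem (F.pow_normalizer i) a.2⟩
  map_one' := Subtype.ext (by simp)
  map_mul' a b := Subtype.ext (by simp only [Subgroup.coe_mul]; group)

theorem conjU_conjU (i j : ℕ) (a : A) : conjU F i (conjU F j a) = conjU F (i + j) a :=
  Subtype.ext (by simp only [conjU, MonoidHom.coe_mk, OneHom.coe_mk, pow_add]; group)

theorem conjU_zero (a : A) : conjU F 0 a = a := Subtype.ext (by simp [conjU])

theorem conjU_mod (i : ℕ) (a : A) : conjU F (i % k) a = conjU F i a := by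
  have hmem : u ^ (k * (i / k)) ∈ A := (F.pow_mem _).2 (dvd_mul_right _ _)
  have h1 : conjU F (k * (i / k)) a = a := Subtype.ext (by
    simp only [conjU, MonoidHom.coe_mk, OneHom.coe_mk]
    rw [F.cc.comm hmem a.2, mul_inv_cancel_right])
  conv_rhs => rw [← Nat.mod_add_div i k, ← conjU_conjU, h1]

theorem conjU_fpf {i : ℕ} (hi : ¬ k ∣ i) {a : A} (h : conjU F i a = a) : a = 1 :=
  Subtype.ext (F.cc.fpf (mt (F.pow_mem i).1 hi) a.2 (congrArg Subtype.val h))

theorem conjU_bijective (i : ℕ) : Function.Bijective (conjU F i) :=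
  Finite.injective_iff_bijective.1 fun a b h => Subtype.ext (by
    have := congrArg Subtype.val h
    simpa [conjU] using this)

theorem isConj_conjU (i : ℕ) (a : A) : IsConj (a : G) (conjU F i a : A) :=
  isConj_iff.2 ⟨u ^ i, rfl⟩

theorem indFun_mem (f : A → ℂ) (a : A) (ha : a ≠ 1) :
    Cfsg.indFun A f a = ∑ i ∈ Finset.range k, f (conjU F i a) := by
  classical
  have hk : 0 < k := by linarith [F.two_le]
  have key : ∀ x : G, Cfsg.extendByZero A f (x⁻¹ * a * x) =
      ∑ i ∈ Finset.range k, if (u ^ i)⁻¹ * x⁻¹ ∈ A then f (conjU F i a) else 0 := by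
    intro x
    by_cases hx : x⁻¹ * a * x ∈ A
    · have hN : x⁻¹ ∈ normalizer (A : Set G) :=
        F.cc.ti a.2 (by simpa using ha) (by simpa using hx)
      obtain ⟨i, hi, hmem⟩ := F.cover _ hN
      rw [Finset.sum_eq_single i]
      · rw [if_pos hmem]
        have e : x⁻¹ * a * x = ((conjU F i a : A) : G) := by
          have hb := F.cc.comm hmem a.2
          calc x⁻¹ * (a : G) * x = u ^ i * (((u ^ i)⁻¹ * x⁻¹) * a) * ((u ^ i)⁻¹ * x⁻¹)⁻¹ * (u ^ i)⁻¹ := by
                group
            _ = _ := by rw [hb]; simp only [conjU, MonoidHom.coe_mk, OneHom.coe_mk]; group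
        rw [e, extendByZero_apply]
      · intro j hj hne
        rw [if_neg fun hjm => hne ?_]
        rw [Finset.mem_range] at hj
        have hdiff : (u ^ i)⁻¹ * u ^ j ∈ A := by
          have := mul_mem hmem (inv_mem hjm)
          convert this using 1; group
        rcases le_total i j with hle | hle
        · obtain ⟨d, rfl⟩ := Nat.exists_eq_add_of_le hle
          rw [pow_add, inv_mul_cancel_left, F.pow_mem] at hdiff
          have := Nat.eq_zero_of_dvd_of_lt hdiff (by omega)
          omega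
        · obtain ⟨d, rfl⟩ := Nat.exists_eq_add_of_le hle
          rw [pow_add, mul_inv_rev, inv_mul_cancel_right, inv_mem_iff, F.pow_mem] at hdiff
          have := Nat.eq_zero_of_dvd_of_lt hdiff (by omega)
          omega
      · intro h; exact absurd (Finset.mem_range.2 hi) h
    · rw [extendByZero_of_not_mem _ hx, Finset.sum_eq_zero]
      intro i _
      rw [if_neg fun hm => hx ?_]
      have hN : x⁻¹ ∈ normalizer (A : Set G) := by
        have := mul_mem (F.pow_normalizer i) (le_normalizer hm)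
        rwa [mul_inv_cancel_left] at this
      simpa using F.cc.conj_mem hN a.2
  rw [indFun_def, Finset.sum_congr rfl fun x _ => key x, Finset.sum_comm, Finset.mul_sum]
  refine Finset.sum_congr rfl fun i _ => ?_
  have hcount : (Finset.univ.filter fun x : G => (u ^ i)⁻¹ * x⁻¹ ∈ A).card = Nat.card A := by
    rw [Nat.card_eq_fintype_card, Fintype.card_subtype]
    exact Finset.card_equiv ((Equiv.inv G).trans (Equiv.mulLeft (u ^ i)⁻¹)) fun x => by simp
  rw [← Finset.sum_filter, Finset.sum_const, hcount, nsmul_eq_mul, ← mul_assoc,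
    inv_mul_cancel₀ (by exact_mod_cast (Nat.card_pos (α := A)).ne'), one_mul]

include F in
theorem commutator_eq_bot : commutator A = ⊥ := by
  rw [commutator_def, Subgroup.commutator_eq_bot_iff_le_centralizer]
  intro a _
  exact Subgroup.mem_centralizer_iff.2 fun b _ => Subtype.ext (F.cc.comm b.2 a.2)

include F in
theorem card_dual : Nat.card (A →* ℂˣ) = Nat.card A := by
  rw [card_hom_eq_index_commutator, commutator_eq_bot F, Subgroup.index_bot]

variable [Fintype A] [Fintype (A →* ℂˣ)]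

include F in
theorem sum_dual (a : A) [Decidable (a = 1)] :
    ∑ lam : A →* ℂˣ, (lam a : ℂ) = if a = 1 then (Nat.card A : ℂ) else 0 := by
  split_ifs with h
  · subst h
    rw [← card_dual F, Nat.card_eq_fintype_card]
    simp
  · obtain ⟨mu, hmu⟩ := exists_hom_ne_one (g := a) (by rwa [commutator_eq_bot F, Subgroup.mem_bot])
    have hsum : (mu a : ℂ) * ∑ lam : A →* ℂˣ, (lam a : ℂ) = ∑ lam : A →* ℂˣ, (lam a : ℂ) := by
      rw [Finset.mul_sum]
      exact Fintype.sum_equiv (Equiv.mulLeft mu) _ _ fun lam => by simp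
    have h1 : ((mu a : ℂ) - 1) * ∑ lam : A →* ℂˣ, (lam a : ℂ) = 0 := by linear_combination hsum
    exact (mul_eq_zero.1 h1).resolve_left (sub_ne_zero.2 fun e => hmu (Units.ext e))

include F in
/-- Recovering a class function on `A` from its inner products with the `fTI`. -/
theorem apply_of_int {h : G → ℂ} (hh : Cfsg.IsClassFunction G h) {c : (A →* ℂˣ) → ℤ}
    (hc : ∀ lam, Cfsg.classInner (fTI A lam) h = c lam) (a : A) (ha : a ≠ 1) :
    h a = -∑ lam : A →* ℂˣ, (lam a : ℂ) * c lam := by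
  classical
  have hk : (Nat.card A : ℂ) ≠ 0 := by exact_mod_cast (Nat.card_pos (α := A)).ne'
  have h1 : ∑ lam : A →* ℂˣ, (lam a⁻¹ : ℂ) * (c lam : ℂ) = -conj (h a) := by
    simp only [← hc, fTI, inner_indFun _ hh, Finset.mul_sum]
    rw [Finset.sum_comm]
    have h2 : ∀ b : A, ∑ lam : A →* ℂˣ,
        (lam a⁻¹ : ℂ) * ((Nat.card A : ℂ)⁻¹ * ((1 - (lam b : ℂ)) * conj (h b))) =
        -(if b = a then conj (h b) else 0) := by
      intro b
      rw [Finset.sum_congr rfl fun lam _ => show (lam a⁻¹ : ℂ) *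
          ((Nat.card A : ℂ)⁻¹ * ((1 - (lam b : ℂ)) * conj (h b))) =
          (Nat.card A : ℂ)⁻¹ * conj (h b) * ((lam a⁻¹ : ℂ) - (lam (a⁻¹ * b) : ℂ)) by
            rw [map_mul, Units.val_mul]; ring,
        ← Finset.mul_sum, Finset.sum_sub_distrib, sum_dual F, sum_dual F,
        if_neg (inv_ne_one.2 ha)]
      simp only [inv_mul_eq_one, eq_comm (a := a)]
      split_ifs <;> field_simp <;> ring
    rw [Finset.sum_congr rfl fun b _ => h2 b, Finset.sum_neg_distrib, Finset.sum_ite_eq',
      if_pos (Finset.mem_univ _)]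
  have h3 := congrArg conj h1
  simp only [map_sum, map_mul, map_neg, Complex.conj_conj, conj_hom_apply, map_intCast, inv_inv]
    at h3
  rw [h3, neg_neg]

include F in
theorem sum_of_int {h : G → ℂ} (hh : Cfsg.IsClassFunction G h) {c : (A →* ℂˣ) → ℤ}
    (hc : ∀ lam, Cfsg.classInner (fTI A lam) h = c lam) :
    ∑ a : A, h a = h 1 + ∑ lam : A →* ℂˣ, (c lam : ℂ) := by
  classical
  have hk : (Nat.card A : ℂ) ≠ 0 := by exact_mod_cast (Nat.card_pos (α := A)).ne'
  have h1 : ∑ lam : A →* ℂˣ, (c lam : ℂ) = ∑ a : A, conj (h a) - conj (h 1) := by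
    simp only [← hc, fTI, inner_indFun _ hh]
    rw [← Finset.mul_sum, Finset.sum_comm]
    have h2 : ∀ b : A, ∑ lam : A →* ℂˣ, (1 - (lam b : ℂ)) * conj (h b) =
        (Nat.card A : ℂ) * (conj (h b) - if b = 1 then conj (h b) else 0) := by
      intro b
      rw [← Finset.sum_mul, Finset.sum_sub_distrib, sum_dual F, Finset.sum_const, Finset.card_univ,
        ← Nat.card_eq_fintype_card, card_dual F]
      split_ifs <;> simp <;> ring
    rw [Finset.sum_congr rfl fun b _ => h2 b, ← Finset.mul_sum, inv_mul_cancel_left₀ hk,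
      Finset.sum_sub_distrib, Finset.sum_ite_eq', if_pos (Finset.mem_univ _), OneMemClass.coe_one]
  have h2 := congrArg conj h1
  simp only [map_sum, map_sub, Complex.conj_conj, map_intCast] at h2
  rw [h2]; ring

/-- The pull back of a linear character along `conjU`. -/
noncomputable def act (i : ℕ) (lam : A →* ℂˣ) : A →* ℂˣ := lam.comp (conjU F i)

theorem act_apply (i : ℕ) (lam : A →* ℂˣ) (a : A) : act F i lam a = lam (conjU F i a) := rfl

theorem act_act (i j : ℕ) (lam : A →* ℂˣ) : act F i (act F j lam) = act F (j + i) lam :=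
  MonoidHom.ext fun a => by simp only [act_apply, conjU_conjU]

theorem act_mod (i : ℕ) (lam : A →* ℂˣ) : act F (i % k) lam = act F i lam :=
  MonoidHom.ext fun a => by simp only [act_apply, conjU_mod]

theorem act_zero (lam : A →* ℂˣ) : act F 0 lam = lam :=
  MonoidHom.ext fun a => by simp only [act_apply, conjU_zero]

theorem act_free {lam : A →* ℂˣ} (hl : lam ≠ 1) {i : ℕ} (h : act F i lam = lam) : k ∣ i := by
  by_contra hi
  let g : A → A := fun a => conjU F i a * a⁻¹
  have hginj : Function.Injective g := fun a b hab => by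
    have hab' : conjU F i (b⁻¹ * a) = b⁻¹ * a := by
      have hc : ∀ x y : A, x * y = y * x := fun x y => Subtype.ext (F.cc.comm x.2 y.2)
      simp only [g] at hab
      rw [mul_inv_eq_iff_eq_mul] at hab
      rw [map_mul, map_inv, hab, mul_assoc, inv_mul_cancel_left]
    have := conjU_fpf F hi hab'
    rwa [inv_mul_eq_one, eq_comm] at this
  refine hl (MonoidHom.ext fun a => ?_)
  obtain ⟨b, rfl⟩ := (Finite.injective_iff_surjective.1 hginj) a
  simp only [g, map_mul, map_inv]
  rw [show lam (conjU F i b) = lam b from DFunLike.congr_fun h b]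
  simp

theorem act_ne_one {lam : A →* ℂˣ} (hl : lam ≠ 1) (i : ℕ) : act F i lam ≠ 1 := fun h => hl <|
  MonoidHom.ext fun a => by
    obtain ⟨b, rfl⟩ := (conjU_bijective F i).2 a
    exact DFunLike.congr_fun h b

theorem inner_act {h : G → ℂ} (hh : Cfsg.IsClassFunction G h) (i : ℕ) (lam : A →* ℂˣ) :
    Cfsg.classInner (fTI A (act F i lam)) h = Cfsg.classInner (fTI A lam) h := by
  rw [fTI, fTI, inner_indFun _ hh, inner_indFun _ hh]
  congr 1
  refine Fintype.sum_bijective _ (conjU_bijective F i) _ _ fun a => ?_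
  rw [act_apply, IsClassFunction.apply_eq_of_isConj hh (isConj_conjU F i a)]

/-- The orbit relation on the nontrivial linear characters. -/
noncomputable def orbitSetoid : Setoid {lam : A →* ℂˣ // lam ≠ 1} where
  r x y := ∃ i, act F i x.1 = y.1
  iseqv :=
    { refl := fun x => ⟨0, act_zero F x.1⟩
      symm := fun {x y} ⟨i, hi⟩ => ⟨k * i - i, by
        rw [← hi, act_act, ← act_mod]
        have : i + (k * i - i) = k * i := by
          have : i ≤ k * i := Nat.le_mul_of_pos_left i (by linarith [F.two_le])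
          omega
        rw [this, Nat.mul_mod_right, act_zero]⟩
      trans := fun {x y z} ⟨i, hi⟩ ⟨j, hj⟩ => ⟨i + j, by rw [← hj, ← hi, act_act]⟩ }

theorem exists_reps : ∃ (m : ℕ) (rep : Fin m → A →* ℂˣ), (∀ q, rep q ≠ 1) ∧
    ∀ lam : A →* ℂˣ, lam ≠ 1 → ∃! p : Fin m × Fin k, act F p.2 (rep p.1) = lam := by
  classical
  letI := orbitSetoid F
  have hk : 0 < k := by linarith [F.two_le]
  obtain ⟨m, ⟨eq⟩⟩ := Finite.exists_equiv_fin (Quotient (orbitSetoid F))
  refine ⟨m, fun q => (eq.symm q).out.1, fun q => (eq.symm q).out.2, fun lam hlam => ?_⟩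
  obtain ⟨i, hi⟩ : ∃ i, act F i (Quotient.mk (orbitSetoid F) ⟨lam, hlam⟩).out.1 = lam :=
    Quotient.exact (Quotient.out_eq (Quotient.mk (orbitSetoid F) ⟨lam, hlam⟩))
  refine ⟨(eq (Quotient.mk _ ⟨lam, hlam⟩), ⟨i % k, Nat.mod_lt _ hk⟩), ?_, ?_⟩
  · simpa [act_mod] using hi
  rintro ⟨q, j⟩ hj
  have hq : eq (Quotient.mk (orbitSetoid F) ⟨lam, hlam⟩) = q := by
    rw [← Equiv.eq_symm_apply, ← Quotient.out_eq (eq.symm q)]
    exact (Quotient.sound (show (orbitSetoid F).r _ ⟨lam, hlam⟩ from ⟨j, hj⟩)).symm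
  subst hq
  refine Prod.ext rfl (Fin.ext ?_)
  simp only [Equiv.symm_apply_apply] at hj
  set r := (Quotient.mk (orbitSetoid F) ⟨lam, hlam⟩).out
  have hij : ∀ a b : ℕ, a ≤ b → act F a r.1 = act F b r.1 → a % k = b % k := by
    intro a b hab h
    obtain ⟨d, rfl⟩ := Nat.exists_eq_add_of_le hab
    rw [← act_act] at h
    obtain ⟨t, rfl⟩ := act_free F (act_ne_one F r.2 a) h.symm
    rw [Nat.add_mul_mod_self_left]
  have hji : act F (j : ℕ) r.1 = act F i r.1 := hj.trans hi.symm
  show (j : ℕ) = i % k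
  rw [← Nat.mod_eq_of_lt j.2]
  rcases le_total (j : ℕ) i with hle | hle
  · exact hij _ _ hle hji
  · exact (hij _ _ hle hji.symm).symm

include F in
theorem exists_fam (h2 : 2 * k < Nat.card A) : Nonempty (Fam A k) := by
  classical
  obtain ⟨m, rep, hrep, hbij⟩ := exists_reps F
  have hk : 0 < k := by linarith [F.two_le]
  -- the parametrisation of the nontrivial linear characters
  let E : Fin m × Fin k ≃ {lam : A →* ℂˣ // lam ≠ 1} :=
    Equiv.ofBijective (fun p => ⟨act F p.2 (rep p.1), act_ne_one F (hrep _) _⟩)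
      ⟨fun p p' h => (hbij _ (act_ne_one F (hrep p.1) p.2)).unique rfl
          (congrArg Subtype.val h).symm,
        fun lam => let ⟨p, hp, _⟩ := hbij lam.1 lam.2; ⟨p, Subtype.ext hp⟩⟩
  have hE : ∀ f : (A →* ℂˣ) → ℂ, ∑ lam : A →* ℂˣ, f lam =
      f 1 + ∑ q, ∑ i : Fin k, f (act F i (rep q)) := by
    intro f
    rw [← Fintype.sum_prod_type' fun q (i : Fin k) => f (act F i (rep q)),
      ← Finset.add_sum_erase _ _ (Finset.mem_univ (1 : A →* ℂˣ))]
    congr 1
    rw [Finset.sum_subtype (p := fun lam => lam ≠ 1) _ (fun x => by simp) f]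
    exact (Fintype.sum_equiv E _ _ fun p => rfl).symm
  have hm : m * k + 1 = Nat.card A := by
    have := Fintype.card_congr E
    rw [Fintype.card_prod, Fintype.card_fin, Fintype.card_fin, Fintype.card_subtype_compl,
      Fintype.card_subtype_eq, ← Nat.card_eq_fintype_card, card_dual F] at this
    have := F.cc.one_lt
    omega
  have hm2 : 2 ≤ m := by
    by_contra hlt
    rcases (by omega : m = 0 ∨ m = 1) with rfl | rfl <;> omega
  set φ : Fin m → G → ℂ := fun q g =>
    if hg : g ∈ A then ∑ i : Fin k, (rep q (conjU F i ⟨g, hg⟩) : ℂ) else 0 with hφ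
  have hφA : ∀ q (a : A), φ q a = ∑ i : Fin k, (act F i (rep q) a : ℂ) := fun q a => by
    simp only [hφ, a.2, dite_true, act_apply, Subtype.coe_eta]
  -- inner products of `1 - λ`
  have hA1 : ∀ lam mu : A →* ℂˣ, ∑ a : A, (lam a : ℂ) * conj (mu a : ℂ) =
      if lam = mu then (Nat.card A : ℂ) else 0 := by
    intro lam mu
    rw [Finset.sum_congr rfl fun a _ => show (lam a : ℂ) * conj (mu a : ℂ) = ((lam * mu⁻¹) a : ℂ) by
      rw [conj_hom_apply, MonoidHom.mul_apply, Units.val_mul, MonoidHom.inv_apply, map_inv],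
      sum_hom]
    split_ifs with h1 h2 h2
    · rfl
    · exact absurd (mul_inv_eq_one.1 h1) h2
    · exact absurd (mul_inv_eq_one.2 h2) h1
    · rfl
  have hrepinj : ∀ (q p : Fin m) (i : Fin k), act F i (rep p) = rep q → p = q ∧ (i : ℕ) = 0 := by
    intro q p i h
    have h0 : act F ((⟨0, hk⟩ : Fin k) : ℕ) (rep q) = rep q := act_zero F _
    have := (hbij _ (hrep q)).unique (y₁ := (p, i)) (y₂ := (q, ⟨0, hk⟩)) h h0
    simp only [Prod.mk.injEq, Fin.ext_iff] at this
    exact ⟨Fin.ext this.1, this.2⟩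
  have hφinner : ∀ q p, ∑ a : A, φ q a * conj (rep p a : ℂ) =
      if q = p then (Nat.card A : ℂ) else 0 := by
    intro q p
    simp only [hφA, Finset.sum_mul]
    rw [Finset.sum_comm, Finset.sum_congr rfl fun i _ => hA1 _ _]
    by_cases hqp : q = p
    · subst hqp
      rw [if_pos rfl, Finset.sum_eq_single ⟨0, hk⟩]
      · rw [if_pos (act_zero F _)]
      · intro i _ hi
        rw [if_neg fun h => hi (Fin.ext (hrepinj q q i h).2)]
      · simp
    · rw [if_neg hqp]
      exact Finset.sum_eq_zero fun i _ => if_neg fun h => hqp (hrepinj p q i h).1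
  have hφ1 : ∀ q, φ q ((1 : A) : G) = k := fun q => by rw [hφA]; simp
  -- the differences
  let i₀ : Fin m := ⟨0, by omega⟩
  set τ : Fin m → G → ℂ := fun q => fTI A (rep i₀) - fTI A (rep q) with hτ
  have hτA : ∀ q (a : A), τ q a = φ q a - φ i₀ a := by
    intro q a
    by_cases ha : a = 1
    · subst ha
      rw [hφ1, hφ1, sub_self]
      simp [hτ, CfsgLib.Wall.fTI_one]
    · simp only [hτ, Pi.sub_apply, fTI, indFun_mem F _ a ha, hφA, act_apply,
        Finset.sum_range (f := fun i => 1 - ((rep i₀) (conjU F i a) : ℂ)),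
        Finset.sum_range (f := fun i => 1 - ((rep q) (conjU F i a) : ℂ)), Finset.sum_sub_distrib]
      ring
  have hgram : ∀ p q, Cfsg.classInner (τ p) (τ q) =
      (if q = p then 1 else 0) - (if q = i₀ then 1 else 0) - (if i₀ = p then 1 else 0) + 1 := by
    intro p q
    have hn : (Nat.card A : ℂ) ≠ 0 := by exact_mod_cast (Nat.card_pos (α := A)).ne'
    have hcl : Cfsg.IsClassFunction G (τ q) := fun x y => by
      simp only [hτ, Pi.sub_apply, CfsgLib.Wall.fTI_class _ x y]
    have hgen : ∀ lam : A →* ℂˣ, Cfsg.classInner (fTI A lam) (τ q) =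
        (Nat.card A : ℂ)⁻¹ * conj (∑ a : A, τ q a * conj (1 - (lam a : ℂ))) := by
      intro lam
      rw [fTI, inner_indFun _ hcl, map_sum]
      congr 1
      exact Finset.sum_congr rfl fun a _ => by rw [map_mul, Complex.conj_conj, mul_comm]
    have hs : ∑ a : A, τ q a = 0 := by
      simp only [hτA, Finset.sum_sub_distrib]
      have : ∀ r, ∑ a : A, φ r a = 0 := fun r => by
        simp only [hφA]
        rw [Finset.sum_comm]
        exact Finset.sum_eq_zero fun i _ => by rw [sum_hom, if_neg (act_ne_one F (hrep r) i)]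
      rw [this, this, sub_zero]
    have hval : ∀ r, ∑ a : A, τ q a * conj (1 - (rep r a : ℂ)) =
        (Nat.card A : ℂ) * ((if i₀ = r then 1 else 0) - (if q = r then 1 else 0)) := by
      intro r
      simp only [map_sub, map_one, mul_sub, mul_one, Finset.sum_sub_distrib]
      rw [hs]
      simp only [hτA, sub_mul, Finset.sum_sub_distrib, hφinner]
      split_ifs <;> ring
    show Cfsg.classInner (fTI A (rep i₀) - fTI A (rep p)) (τ q) = _
    rw [classInner_sub_left, hgen, hgen, hval, hval]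
    simp only [map_mul, Complex.conj_natCast, inv_mul_cancel_left₀ hn]
    by_cases a1 : q = p <;> by_cases a2 : q = i₀ <;> by_cases a3 : i₀ = p <;>
      simp [a1, a2, a3] <;> ring
  obtain ⟨εc, hεc, θ, hθirr, hθinj, hθ⟩ := exists_sign_family i₀ (τ := τ) (sub_self _)
    (fun q => IsGeneralized.sub (CfsgLib.Wall.fTI_isGeneralized _) (CfsgLib.Wall.fTI_isGeneralized _))
    (fun q => by simp [hτ, CfsgLib.Wall.fTI_one])
    (fun p q hp hq => by
      rw [hgram, if_neg hq, if_neg (Ne.symm hp)]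
      by_cases h : p = q
      · subst h; norm_num
      · rw [if_neg h, if_neg (Ne.symm h)]; norm_num)
  obtain ⟨ε, hε, rfl⟩ : ∃ ε : ℤ, (ε = 1 ∨ ε = -1) ∧ εc = (ε : ℂ) := by
    rcases hεc with h | h
    · exact ⟨1, Or.inl rfl, by simpa using h⟩
    · exact ⟨-1, Or.inr rfl, by simpa using h⟩
  have hεsq : (ε : ℂ) * ε = 1 := by rcases hε with rfl | rfl <;> norm_num
  -- coordinates of irreducible characters
  have hc : ∀ ψ, Cfsg.IsIrrCharacter G ψ → ∀ lam : A →* ℂˣ,
      ∃ n : ℤ, Cfsg.classInner (fTI A lam) ψ = n := fun ψ hψ lam =>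
    IsGeneralized.exists_classInner_eq_int (CfsgLib.Wall.fTI_isGeneralized lam)
      (IsIrrCharacter.isGeneralized hψ)
  choose! c hc using hc
  have hc1 : ∀ ψ, Cfsg.IsIrrCharacter G ψ → c ψ 1 = 0 := fun ψ hψ => by
    have := hc ψ hψ 1
    rw [CfsgLib.Wall.fTI_trivial] at this
    simpa using this.symm
  have hcact : ∀ ψ, Cfsg.IsIrrCharacter G ψ → ∀ i lam, c ψ (act F i lam) = c ψ lam :=
    fun ψ hψ i lam => by
      have := inner_act F (IsIrrCharacter.isClassFunction hψ) i lam
      rw [hc ψ hψ, hc ψ hψ] at this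
      exact_mod_cast this
  have hval : ∀ ψ, Cfsg.IsIrrCharacter G ψ → ∀ a : A, a ≠ 1 →
      ψ a = -∑ q, (c ψ (rep q) : ℂ) * φ q a := by
    intro ψ hψ a ha
    rw [apply_of_int F (IsIrrCharacter.isClassFunction hψ) (hc ψ hψ) a ha, hE, hc1 ψ hψ,
      Int.cast_zero, mul_zero, zero_add]
    congr 1
    refine Finset.sum_congr rfl fun q _ => ?_
    rw [hφA, Finset.mul_sum]
    exact Finset.sum_congr rfl fun i _ => by rw [hcact ψ hψ]; ring
  have hdiff : ∀ ψ, Cfsg.IsIrrCharacter G ψ → ∀ q, (c ψ (rep i₀) : ℂ) - c ψ (rep q) =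
      ε * ((if θ q = ψ then 1 else 0) - if θ i₀ = ψ then 1 else 0) := by
    intro ψ hψ q
    rw [← hc ψ hψ, ← hc ψ hψ, ← classInner_sub_left]
    show Cfsg.classInner (τ q) ψ = _
    rw [hθ q, classInner_smul_left, classInner_sub_left, IsIrrCharacter.classInner_eq (hθirr q) hψ,
      IsIrrCharacter.classInner_eq (hθirr i₀) hψ]
  have hsum : ∀ a : A, a ≠ 1 → ∑ q, φ q a = -1 := by
    intro a ha
    have := sum_dual F a
    rw [if_neg ha, hE, MonoidHom.one_apply, Units.val_one] at this
    simp only [hφA]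
    linear_combination this
  set e : ℤ := c (θ i₀) (rep i₀) + ε with he
  have hθval : ∀ q, ∀ a : A, a ≠ 1 → θ q a = ε * φ q a + e := by
    intro q a ha
    have hi₀ : θ i₀ a = ε * φ i₀ a + e := by
      have hd : ∀ r, (c (θ i₀) (rep r) : ℂ) = e - (if r = i₀ then (ε : ℂ) else 0) := by
        intro r
        have := hdiff _ (hθirr i₀) r
        rw [if_pos rfl] at this
        have hcond : (θ r = θ i₀) ↔ r = i₀ := ⟨fun h => hθinj h, fun h => by rw [h]⟩
        simp only [hcond] at this
        rw [he]; push_cast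
        split_ifs at this ⊢ <;> linear_combination -this
      rw [hval _ (hθirr i₀) a ha]
      simp only [hd, sub_mul, Finset.sum_sub_distrib, ← Finset.mul_sum, hsum a ha, ite_mul,
        zero_mul, Finset.sum_ite_eq', Finset.mem_univ, if_true]
      ring
    have h1 := congrFun (hθ q) (a : G)
    rw [hτA, Pi.smul_apply, Pi.sub_apply, smul_eq_mul, hi₀] at h1
    linear_combination -(ε : ℂ) * h1 - (θ q a - ε * φ i₀ a - e) * hεsq
  have hsq : ∀ a : A, a ≠ 1 → ∑ q, φ q a * conj (φ q a) = (Nat.card A : ℂ) - k := by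
    intro a ha
    have h1 : ∀ q, φ q a * conj (φ q a) =
        ∑ d : Fin k, ∑ i : Fin k, (act F i (rep q) (a * (conjU F d a)⁻¹) : ℂ) := by
      intro q
      rw [Finset.sum_comm, hφA, Finset.sum_mul]
      refine Finset.sum_congr rfl fun i _ => ?_
      rw [map_sum, Finset.mul_sum]
      haveI : NeZero k := ⟨hk.ne'⟩
      refine (Fintype.sum_equiv (Equiv.addLeft i) _ _ fun d => ?_).symm
      simp only [Equiv.coe_addLeft, Fin.val_add, act_mod, map_mul, Units.val_mul, map_inv]
      rw [← map_inv, conj_hom_apply, map_inv, act_apply F i, act_apply F ((i : ℕ) + d),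
        ← conjU_conjU, map_inv]
      simp only [act_apply, map_inv]
    simp only [h1]
    rw [Finset.sum_comm]
    have h3 : ∀ d : Fin k, ∑ q, ∑ i : Fin k, (act F i (rep q) (a * (conjU F d a)⁻¹) : ℂ) =
        (if (d : ℕ) = 0 then (Nat.card A : ℂ) else 0) - 1 := by
      intro d
      have h4 := sum_dual F (a * (conjU F d a)⁻¹)
      rw [hE, MonoidHom.one_apply, Units.val_one] at h4
      have hiff : a * (conjU F d a)⁻¹ = 1 ↔ (d : ℕ) = 0 := by
        rw [mul_inv_eq_one, eq_comm]
        constructor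
        · intro h
          by_contra hd
          exact ha (conjU_fpf F (fun hdv => hd (Nat.eq_zero_of_dvd_of_lt hdv d.2)) h)
        · intro h; rw [h, conjU_zero]
      simp only [hiff] at h4
      linear_combination h4
    rw [Finset.sum_congr rfl fun d _ => h3 d, Finset.sum_sub_distrib, Finset.sum_const,
      Finset.card_univ, Fintype.card_fin, nsmul_eq_mul, mul_one, Finset.sum_eq_single ⟨0, hk⟩]
    · simp
    · intro d _ hd; rw [if_neg fun h => hd (Fin.ext h)]
    · simp
  refine ⟨⟨m, ε, e, θ, φ, hm2, hm, hε, hθirr, hθinj, ?_, ?_, ?_, ?_, ?_, ?_, ?_, ?_⟩⟩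
  · intro p q
    have h1 : ∀ r, θ r 1 = θ i₀ 1 := fun r => by
      have := congrFun (hθ r) 1
      simp only [hτ, Pi.sub_apply, CfsgLib.Wall.fTI_one, sub_zero, Pi.smul_apply, smul_eq_mul] at this
      rcases mul_eq_zero.1 this.symm with h | h
      · exact absurd h (fun h => by rw [h, zero_mul] at hεsq; exact zero_ne_one hεsq)
      · exact sub_eq_zero.1 h
    rw [h1 p, h1 q]
  · intro q a ha ha1
    exact hθval q ⟨a, ha⟩ fun h => ha1 (congrArg Subtype.val h)
  · intro p q g hg
    have h1 : ∀ r, θ r g = θ i₀ g := fun r => by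
      have := congrFun (hθ r) g
      simp only [hτ, Pi.sub_apply, Pi.smul_apply, smul_eq_mul] at this
      rw [CfsgLib.Wall.fTI_not_inConj _ hg, CfsgLib.Wall.fTI_not_inConj _ hg, sub_zero] at this
      rcases mul_eq_zero.1 this.symm with h | h
      · exact absurd h (fun h => by rw [h, zero_mul] at hεsq; exact zero_ne_one hεsq)
      · exact sub_eq_zero.1 h
    rw [h1 p, h1 q]
  · intro ψ hψ hne
    have hcq : ∀ q, c ψ (rep q) = c ψ (rep i₀) := fun q => by
      have := hdiff ψ hψ q
      rw [if_neg fun h => hne q h.symm, if_neg fun h => hne i₀ h.symm] at this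
      rw [sub_zero, mul_zero, sub_eq_zero] at this
      exact_mod_cast this.symm
    refine ⟨c ψ (rep i₀), fun a ha ha1 => ?_, fun d hd => ?_⟩
    · rw [hval ψ hψ ⟨a, ha⟩ fun h => ha1 (congrArg Subtype.val h)]
      simp only [hcq, ← Finset.mul_sum, hsum ⟨a, ha⟩ fun h => ha1 (congrArg Subtype.val h)]
      ring
    · have h1 := sum_of_int F (IsIrrCharacter.isClassFunction hψ) (hc ψ hψ)
      rw [hE, hc1 ψ hψ, hd] at h1
      simp only [hcact ψ hψ, hcq, Finset.sum_const, Finset.card_univ, Fintype.card_fin,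
        nsmul_eq_mul, Int.cast_zero, zero_add] at h1
      obtain ⟨t, ht⟩ := IsGeneralized.exists_classInner_eq_int
        (IsGeneralized.restrict (IsIrrCharacter.isGeneralized hψ) A)
        (IsIrrCharacter.isGeneralized (isIrrCharacter_one (G := A)))
      rw [classInner_def] at ht
      simp only [map_one, mul_one] at ht
      rw [inv_mul_eq_iff_eq_mul₀ (by exact_mod_cast (Nat.card_pos (α := A)).ne'), h1] at ht
      have h2 : ((d : ℤ) + m * k * c ψ (rep i₀) : ℂ) = ((Nat.card A : ℤ) * t : ℤ) := by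
        push_cast; linear_combination ht
      have h2' : (d : ℤ) + m * k * c ψ (rep i₀) = (Nat.card A : ℤ) * t := by exact_mod_cast h2
      refine ⟨t - c ψ (rep i₀), ?_⟩
      have hmz : (m : ℤ) * k + 1 = Nat.card A := by exact_mod_cast hm
      linear_combination h2' - (c ψ (rep i₀)) * hmz
  · intro a ha ha1
    exact hsum ⟨a, ha⟩ fun h => ha1 (congrArg Subtype.val h)
  · intro a ha ha1
    exact hsq ⟨a, ha⟩ fun h => ha1 (congrArg Subtype.val h)
  · intro p q h
    by_contra hne
    have h1 := hφinner p p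
    rw [if_pos rfl] at h1
    have h2 : ∑ a : A, φ p a * conj (rep p a : ℂ) = ∑ a : A, φ q a * conj (rep p a : ℂ) :=
      Finset.sum_congr rfl fun a _ => by
        by_cases ha : a = 1
        · subst ha; rw [hφ1, hφ1]
        · rw [h a a.2 fun h' => ha (Subtype.ext h')]
    rw [h2, hφinner, if_neg (Ne.symm hne)] at h1
    exact (Nat.card_pos (α := A)).ne' (by exact_mod_cast h1.symm)
  · intro q
    by_contra hcon
    push Not at hcon
    obtain ⟨a₀, ha₀, ha₀1⟩ : ∃ a ∈ A, a ≠ 1 := A.bot_or_exists_ne_one.resolve_left fun e => by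
      have := F.cc.one_lt; rw [e, Subgroup.card_bot] at this; omega
    obtain ⟨p, hp⟩ : ∃ p : Fin m, q ≠ p := by
      by_cases h : q = i₀
      · exact ⟨⟨1, hm2⟩, by rw [h]; exact fun h' => absurd (congrArg Fin.val h') (by simp [i₀])⟩
      · exact ⟨i₀, h⟩
    have hsplit : ∀ r, ∑ a : A, φ q a * conj (rep r a : ℂ) = (k : ℂ) - φ q a₀ := by
      intro r
      rw [← Finset.add_sum_erase _ _ (Finset.mem_univ (1 : A)), hφ1]
      have h2 : ∑ a ∈ Finset.univ.erase (1 : A), φ q a * conj (rep r a : ℂ) =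
          φ q a₀ * ∑ a ∈ Finset.univ.erase (1 : A), conj (rep r a : ℂ) := by
        rw [Finset.mul_sum]
        exact Finset.sum_congr rfl fun a ha => by
          rw [hcon a₀ ha₀ ha₀1 a a.2 fun h' => (Finset.mem_erase.1 ha).1 (Subtype.ext h')]
      have h3 : ∑ a ∈ Finset.univ.erase (1 : A), conj (rep r a : ℂ) = -1 := by
        rw [Finset.sum_erase_eq_sub (Finset.mem_univ _), ← map_sum, sum_hom, if_neg (hrep r)]
        simp
      rw [h2, h3]; simp; ring
    have e1 := hsplit q
    have e2 := hsplit p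
    rw [hφinner, if_pos rfl] at e1
    rw [hφinner, if_neg hp, ← e1] at e2
    exact (Nat.card_pos (α := A)).ne' (by exact_mod_cast e2.symm)

end Construct

theorem exists_fam {A : Subgroup G} {k : ℕ} {u : G} (F : Frame A k u) (h2 : 2 * k < Nat.card A) :
    Nonempty (Fam A k) := by
  classical
  haveI := Fintype.ofFinite A
  haveI : Finite (A →* ℂˣ) := Nat.finite_of_card_ne_zero
    ((Construct.card_dual F).trans_ne Nat.card_pos.ne')
  haveI := Fintype.ofFinite (A →* ℂˣ)
  exact Construct.exists_fam F h2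

end CfsgLib.ThreeCC
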