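import Cfsg.Agent.ThreeCC.Loc

/-!
Fusion in the centralisers of the involution and of the element of order `r`.
-/

set_option autoImplicit false
set_option linter.unusedSectionVars false
set_option linter.style.haveILetI false

namespace CfsgLib.ThreeCC

open Subgroup

universe u

variable {G : Type u} [Group G] [Finite G]

theorem pow_succ_mul {s y : G} {r : ℕ} (hr : r % 2 = 1) (hs : orderOf s = 2) (hy : orderOf y = r)
    (hc : s * y = y * s) : (s * y) ^ (r + 1) = y := by
  obtain ⟨q, hq⟩ : 2 ∣ r + 1 := by omega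
  rw [(show Commute s y from hc).mul_pow, hq, pow_mul, ← hs, pow_orderOf_eq_one, one_pow, one_mul,
    hs, ← hq, pow_succ, ← hy, pow_orderOf_eq_one, one_mul]

theorem abelian_of_exp_two {H : Type u} [Group H] (h : ∀ a : H, a * a = 1) (a b : H) :
    a * b = b * a := by
  have hinv : ∀ c : H, c⁻¹ = c := fun c => inv_eq_of_mul_eq_one_right (h c)
  calc a * b = (a * b)⁻¹ := (hinv _).symm
    _ = b * a := by rw [mul_inv_rev, hinv, hinv]

theorem int_pow {n : ℕ} (hn : n = 3 ∨ n = 5) {g : ℕ} {k : ℕ} (h : n ^ g = 2 ^ k + 1) :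
    g = 1 ∨ (n = 3 ∧ g = 2) := by
  have hg : g ≠ 0 := fun e => by
    rw [e, pow_zero] at h
    have := Nat.one_le_two_pow (n := k)
    omega
  by_cases hk : k < 4
  · have h3g : 3 ^ g ≤ n ^ g := Nat.pow_le_pow_left (by omega) g
    have h2k : 2 ^ k ≤ 2 ^ 3 := Nat.pow_le_pow_right (by norm_num) (by omega)
    have hg2 : g ≤ 2 := by
      by_contra hlt
      have := Nat.pow_le_pow_right (show 0 < 3 by norm_num) (show 3 ≤ g by omega)
      omega
    interval_cases g <;> rcases hn with rfl | rfl <;> interval_cases k <;> simp_all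
  exfalso
  have h16 : n ^ g % 16 = 1 := by
    rw [h]
    have : 16 ∣ 2 ^ k := by
      rw [show 16 = 2 ^ 4 from rfl]; exact pow_dvd_pow 2 (by omega)
    omega
  have key : ∀ m : ℕ, n ^ g % m = n ^ (g % 4) * (n ^ 4) ^ (g / 4) % m := fun m => by
    rw [← pow_mul, ← pow_add, Nat.mod_add_div]
  have h4 : g % 4 = 0 := by
    have e := key 16
    rw [h16, Nat.mul_mod, Nat.pow_mod (n ^ 4)] at e
    have hlt : g % 4 < 4 := Nat.mod_lt _ (by norm_num)
    rcases hn with rfl | rfl <;> interval_cases (g % 4) <;>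
      (try simp [Nat.mul_mod, Nat.pow_mod] at e ⊢)
  have hp : ∀ p : ℕ, p.Prime → p ≠ 2 → (n ^ 4) % p = 1 → False := by
    intro p hp hp2 hm
    have e := key p
    rw [h4, pow_zero, one_mul, Nat.pow_mod (n ^ 4), hm, one_pow, h] at e
    have hd : p ∣ 2 ^ k := by
      rw [Nat.one_mod_eq_one.2 hp.ne_one] at e
      have e' : 2 ^ k + 1 ≡ 0 + 1 [MOD p] := by
        show (2 ^ k + 1) % p = (0 + 1) % p
        rw [e, zero_add, Nat.one_mod_eq_one.2 hp.ne_one]
      exact (Nat.modEq_zero_iff_dvd).1 (Nat.ModEq.add_right_cancel' 1 e')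
    exact hp2 ((Nat.prime_dvd_prime_iff_eq hp Nat.prime_two).1 (hp.dvd_of_dvd_pow hd))
  rcases hn with rfl | rfl
  · exact hp 5 (by norm_num) (by norm_num) (by norm_num)
  · exact hp 13 (by norm_num) (by norm_num) (by norm_num)

namespace At

variable {M : ℕ} {t : G} {r : ℕ} {x : G} (A : At M t r x)
include A

theorem good_inv {s : G} (hs : orderOf s = 2) : Good M s :=
  ⟨fun e => by rw [e, orderOf_one] at hs; omega,
    by rw [hs]; exact Nat.coprime_two_left.2 A.five.odd⟩

theorem good_prod2 {s y : G} {a b : ℕ} (hs : orderOf s = a) (hy : orderOf y = b) (hgs : Good M s)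
    (hgy : Good M y) (hc : s * y = y * s) (hab : a.Coprime b) (h1 : 1 < a) : Good M (s * y) := by
  refine A.good_prod hgs hgy hc fun e => ?_
  have := A.ord_prod hs hy hc hab
  rw [e, orderOf_one] at this
  have := Nat.eq_one_of_mul_eq_one_right this.symm
  omega

/-- All involutions of `C(x)` are conjugate in `C(x)`. -/
theorem inv_conj {s s' : G} (hs : orderOf s = 2) (hs' : orderOf s' = 2) (hc : s * x = x * s)
    (hc' : s' * x = x * s') : ∃ g : G, g * x = x * g ∧ g * s * g⁻¹ = s' := by
  classical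
  by_contra hcon
  push Not at hcon
  obtain ⟨f, hf, hfg⟩ := A.five.good_four
  have h3 := A.three_le
  have hro := A.r_odd
  set X := centralizer ({x} : Set G) with hX
  have memX : ∀ g : G, g ∈ X ↔ g * x = x * g := fun g => Subgroup.mem_centralizer_singleton_iff
  -- products with non-conjugate involutions are non-conjugate
  have key : ∀ a b : G, orderOf a = 2 → orderOf b = 2 → a * x = x * a → b * x = x * b →
      (∀ g : G, g * x = x * g → g * a * g⁻¹ ≠ b) → ¬ IsConj (a * x) (b * x) := by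
    intro a b ha hb hca hcb hne h
    obtain ⟨g, hg⟩ := isConj_iff.1 h
    have hgx : g * x * g⁻¹ = x := by
      have e := pow_succ_mul hro hb A.ord_x hcb
      rwa [← hg, conj_pow, pow_succ_mul hro ha A.ord_x hca] at e
    refine hne g (mul_inv_eq_iff_eq_mul.1 hgx) ?_
    have e1 : a = (a * x) * x⁻¹ := by rw [mul_inv_cancel_right]
    calc g * a * g⁻¹ = g * (a * x) * g⁻¹ * (g * x * g⁻¹)⁻¹ := by group
      _ = b := by rw [hg, hgx, mul_inv_cancel_right]
  -- a sixth class
  have six : ∀ z : G, Good M z → ¬ IsConj (s * x) z → ¬ IsConj (s' * x) z →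
      orderOf z ≠ 2 → orderOf z ≠ 4 → orderOf z ≠ r → False := by
    intro z hz n1 n2 z2 z4 zr
    have o1 := A.ord_prod hs A.ord_x hc A.two_coprime
    have o2 := A.ord_prod hs' A.ord_x hc' A.two_coprime
    refine A.five.no_six ![t, f, x, s * x, s' * x, z] ?_ ?_
    · intro i
      fin_cases i
      · exact A.five.good_t
      · exact hfg
      · exact A.good_x
      · exact A.good_prod2 hs A.ord_x (A.good_inv hs) A.good_x hc A.two_coprime (by norm_num)
      · exact A.good_prod2 hs' A.ord_x (A.good_inv hs') A.good_x hc' A.two_coprime (by norm_num)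
      · exact hz
    · intro i j hij h
      have := orderOf_isConj h
      fin_cases i <;> fin_cases j <;> (try simp at hij) <;> (try simp at this) <;>
        (try simp only [A.five.ord_t, hf, A.ord_x, o1, o2] at this) <;>
        first
        | omega
        | exact key s s' hs hs' hc hc' hcon h
        | exact n1 h
        | exact n2 h
  haveI : Fact (Nat.Prime 2) := ⟨Nat.prime_two⟩
  -- no elements of order 4 in C(x)
  have hexp : ∀ g : G, g * x = x * g → g ^ 4 = 1 → g * g = 1 := by
    intro g hg h4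
    by_contra h2
    have o4 : orderOf g = 2 ^ (1 + 1) :=
      orderOf_eq_prime_pow (p := 2) (n := 1) (by simpa [pow_two] using h2) (by simpa using h4)
    have ho := A.ord_prod o4 A.ord_x hg A.four_coprime
    norm_num at ho
    have hg1 : g ≠ 1 := fun e => h2 (by rw [e, one_mul])
    have hgood : Good M g := A.five.good_of_comm A.good_x hg hg1
    have hgp := A.good_prod2 o4 A.ord_x hgood A.good_x hg A.four_coprime (by norm_num)
    have o1 := A.ord_prod hs A.ord_x hc A.two_coprime
    have o2 := A.ord_prod hs' A.ord_x hc' A.two_coprime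
    refine six _ hgp ?_ ?_ (by omega) (by omega) (by omega) <;>
      · intro h
        have := orderOf_isConj h
        omega
  obtain ⟨T, hT⟩ := (IsPGroup.of_card (p := 2) (n := 1)
    (by rw [Nat.card_zpowers, orderOf_mk, hs, pow_one]) :
      IsPGroup 2 (zpowers (⟨s, (memX s).2 hc⟩ : X))).exists_le_sylow
  have hexpT : ∀ a ∈ (T : Subgroup X), a * a = 1 := by
    intro a ha
    obtain ⟨k, hk⟩ := T.isPGroup' ⟨a, ha⟩
    have hk' : (a : G) ^ 2 ^ k = 1 := by
      have := congrArg (fun y : (T : Subgroup X) => (((y : X)) : G)) hk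
      simpa using this
    apply Subtype.ext
    show (a : G) * a = 1
    clear hk
    induction k with
    | zero => simp at hk'; simp [hk']
    | succ k ih =>
      by_cases hk0 : k = 0
      · subst hk0; simpa [pow_two] using hk'
      apply ih
      obtain ⟨k, rfl⟩ := Nat.exists_eq_succ_of_ne_zero hk0
      have h4 : ((a : G) ^ 2 ^ k) ^ 4 = 1 := by
        rw [← pow_mul, ← hk']; congr 1; rw [pow_succ, pow_succ]; ring
      have hcomm : (a : G) ^ 2 ^ k * x = x * (a : G) ^ 2 ^ k :=
        ((show Commute (a : G) x from (memX _).1 a.2).pow_left _).eq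
      have := hexp _ hcomm h4
      rw [pow_succ, pow_mul, pow_two]
      exact this
  have hab : ∀ a ∈ (T : Subgroup X), ∀ b ∈ (T : Subgroup X), a * b = b * a := fun a ha b hb =>
    congrArg Subtype.val (abelian_of_exp_two (H := (T : Subgroup X))
      (fun c => Subtype.ext (hexpT c c.2)) ⟨a, ha⟩ ⟨b, hb⟩)
  have hsT : (⟨s, (memX s).2 hc⟩ : X) ∈ (T : Subgroup X) := hT (mem_zpowers _)
  obtain ⟨T', hT'⟩ := (IsPGroup.of_card (p := 2) (n := 1)
    (by rw [Nat.card_zpowers, orderOf_mk, hs', pow_one]) :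
      IsPGroup 2 (zpowers (⟨s', (memX s').2 hc'⟩ : X))).exists_le_sylow
  obtain ⟨c, hcT⟩ := MulAction.exists_smul_eq X T' T
  set b : X := c * ⟨s', (memX s').2 hc'⟩ * c⁻¹ with hb
  have hbT : b ∈ (T : Subgroup X) := by
    rw [← hcT, Sylow.coe_subgroup_smul, Subgroup.mem_pointwise_smul_iff_inv_smul_mem]
    have : (MulAut.conj c)⁻¹ • b = ⟨s', (memX s').2 hc'⟩ := by
      simp [hb, MulAut.smul_def, MulAut.inv_def, mul_assoc]
    rw [this]; exact hT' (mem_zpowers _)
  set a : X := ⟨s, (memX s).2 hc⟩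
  have hab' : ¬ IsConj a b := by
    intro h
    obtain ⟨g, hg⟩ := isConj_iff.1 h
    refine hcon (((c⁻¹ * g : X)) : G) ((memX _).1 (c⁻¹ * g).2) ?_
    have := congrArg (fun y : X => (((c⁻¹ * y * c : X)) : G)) hg
    simp only [hb, a, Subgroup.coe_mul, Subgroup.coe_inv] at this ⊢
    rw [mul_inv_rev, inv_inv]
    calc _ = (c : G)⁻¹ * ((g : G) * s * (g : G)⁻¹) * c := by group
      _ = _ := by rw [this]; group
  have hodd : ∀ y ∈ (T : Subgroup X),
      Odd (Nat.card {z : X // z ∈ (T : Subgroup X) ∧ IsConj y z}) := by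
    intro y hy
    refine Nat.odd_iff.2 (Nat.two_dvd_ne_zero.1 fun h2 => T.not_dvd_index ?_)
    exact h2.trans (Grp.orbit_dvd T hab hy)
  -- exactly two classes
  have hcover : ∀ z ∈ (T : Subgroup X), z ≠ 1 → IsConj a z ∨ IsConj b z := by
    intro z hz hz1
    by_contra hne
    rw [not_or] at hne
    have oz : orderOf (z : G) = 2 := orderOf_eq_prime
      (by rw [pow_two]; exact congrArg Subtype.val (hexpT z hz)) fun e => hz1 (Subtype.ext e)
    have hzc := (memX _).1 z.2
    have lift : ∀ w : X, ¬ IsConj w z → ∀ g : G, g * x = x * g → g * (w : G) * g⁻¹ ≠ (z : G) :=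
      fun w hw g hg he => hw (isConj_iff.2 ⟨⟨g, (memX g).2 hg⟩, Subtype.ext he⟩)
    have o := A.ord_prod oz A.ord_x hzc A.two_coprime
    have hne' : ¬ IsConj (⟨s', (memX s').2 hc'⟩ : X) z := fun h => hne.2 (by
      refine IsConj.trans ?_ h
      exact isConj_iff.2 ⟨c⁻¹, by simp [hb, mul_assoc]⟩)
    exact six _ (A.good_prod2 oz A.ord_x (A.good_inv oz) A.good_x hzc A.two_coprime (by norm_num))
      (key s z hs oz hc hzc (lift a hne.1)) (key s' z hs' oz hc' hzc (lift _ hne'))
      (by omega) (by omega) (by omega)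
  haveI := Fintype.ofFinite X
  have hne1 : ∀ w : X, orderOf (w : G) = 2 → w ≠ 1 := fun w hw e => by
    rw [e, OneMemClass.coe_one, orderOf_one] at hw; omega
  have hb2 : orderOf (b : G) = 2 := by
    simp only [hb, Subgroup.coe_mul, Subgroup.coe_inv, orderOf_conj', hs']
  have ha2 : orderOf (a : G) = 2 := hs
  have hsplit : (Finset.univ.filter fun z : X => z ∈ (T : Subgroup X)) =
      insert 1 ((Finset.univ.filter fun z : X => z ∈ (T : Subgroup X) ∧ IsConj a z) ∪
        (Finset.univ.filter fun z : X => z ∈ (T : Subgroup X) ∧ IsConj b z)) := by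
    ext z
    simp only [Finset.mem_filter, Finset.mem_univ, true_and, Finset.mem_insert, Finset.mem_union]
    constructor
    · intro hz
      by_cases hz1 : z = 1
      · exact Or.inl hz1
      · rcases hcover z hz hz1 with h | h
        · exact Or.inr (Or.inl ⟨hz, h⟩)
        · exact Or.inr (Or.inr ⟨hz, h⟩)
    · rintro (rfl | ⟨h, -⟩ | ⟨h, -⟩)
      exacts [one_mem _, h, h]
  have hcard := congrArg Finset.card hsplit
  rw [Finset.card_insert_of_notMem (by
      simp only [Finset.mem_union, Finset.mem_filter, Finset.mem_univ, true_and, not_or, not_and,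
        isConj_one_left]
      exact ⟨fun _ => hne1 a ha2, fun _ => hne1 b hb2⟩),
    Finset.card_union_of_disjoint (Finset.disjoint_left.2 fun z h1 h2 => by
      simp only [Finset.mem_filter, Finset.mem_univ, true_and] at h1 h2
      exact hab' (h1.2.trans h2.2.symm))] at hcard
  have e1 := hodd a hsT
  have e2 := hodd b hbT
  rw [Nat.card_eq_fintype_card, Fintype.card_subtype] at e1 e2
  have e3 : 2 ∣ (Finset.univ.filter fun z : X => z ∈ (T : Subgroup X)).card := by
    rw [← Fintype.card_subtype, ← Nat.card_eq_fintype_card]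
    refine T.dvd_card_of_dvd_card ?_
    exact hs ▸ (Subgroup.orderOf_mk s ((memX s).2 hc) ▸ orderOf_dvd_natCard a)
  obtain ⟨u, hu⟩ := e1
  obtain ⟨v, hv⟩ := e2
  omega

/-- Elements of order `r` in `C(t)` are conjugate there to `x`. -/
theorem conj_x_ct {x' : G} (hx' : orderOf x' = r) (hc : x' * t = t * x') :
    ∃ g : G, g * t = t * g ∧ g * x * g⁻¹ = x' := by
  obtain ⟨g, hg⟩ := isConj_iff.1 (A.isConj_x A.five.ord_t hx' hc)
  have hs : orderOf (g⁻¹ * t * g) = 2 := by
    have := orderOf_conj' g⁻¹ t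
    rw [inv_inv, A.five.ord_t] at this
    exact this
  have hsx : g⁻¹ * t * g * x = x * (g⁻¹ * t * g) := by
    calc g⁻¹ * t * g * x = g⁻¹ * (t * x') * g := by rw [← hg]; group
      _ = g⁻¹ * (x' * t) * g := by rw [hc]
      _ = _ := by rw [← hg]; group
  obtain ⟨k, hk, hkt⟩ := A.inv_conj A.five.ord_t hs A.comm.symm hsx
  refine ⟨g * k, ?_, ?_⟩
  · rw [← mul_inv_eq_iff_eq_mul, mul_inv_rev,
      show g * k * t * (k⁻¹ * g⁻¹) = g * (k * t * k⁻¹) * g⁻¹ by group, hkt]
    group
  · rw [← hg, show g * k * x * (g * k)⁻¹ = g * (k * x * k⁻¹) * g⁻¹ by group,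
      show k * x * k⁻¹ = x from mul_inv_eq_iff_eq_mul.2 hk]

/-- `r` is `3` or `5`. -/
theorem r_mem : r = 3 ∨ r = 5 := by
  haveI := Fact.mk A.hr
  obtain ⟨u, hu⟩ := IsCyclic.exists_ofOrder_eq_natCard (α := (ZMod r)ˣ)
  rw [Nat.card_eq_fintype_card, ZMod.card_units] at hu
  set j := (u : ZMod r).val with hj
  have hjc : (j : ZMod r) = (u : ZMod r) := ZMod.natCast_rightInverse (u : ZMod r)
  have hj0 : ¬ r ∣ j := fun h => u.ne_zero (by
    rw [← hjc]; exact (ZMod.natCast_eq_zero_iff j r).2 h)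
  have hox : orderOf (x ^ j) = r := by
    rw [Nat.Coprime.orderOf_pow (by rw [A.ord_x]; exact (A.hr.coprime_iff_not_dvd.2 hj0)), A.ord_x]
  obtain ⟨g, hgt, hgx⟩ := A.conj_x_ct hox (((show Commute x t from A.comm).pow_left j).eq)
  have hiter : ∀ i : ℕ, g ^ i * x * (g ^ i)⁻¹ = x ^ j ^ i := by
    intro i
    induction i with
    | zero => simp
    | succ i ih =>
      rw [pow_succ', mul_inv_rev, show g * g ^ i * x * ((g ^ i)⁻¹ * g⁻¹) =
        g * (g ^ i * x * (g ^ i)⁻¹) * g⁻¹ by group, ih, ← conj_pow, hgx, ← pow_mul, pow_succ']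
  have hdvd : r - 1 ∣ orderOf g := by
    rw [← hu, orderOf_dvd_iff_pow_eq_one]
    apply Units.ext
    have h := hiter (orderOf g)
    rw [pow_orderOf_eq_one, one_mul, inv_one, mul_one] at h
    have h' : x ^ 1 = x ^ j ^ orderOf g := by rw [pow_one]; exact h
    rw [pow_eq_pow_iff_modEq, A.ord_x, ← ZMod.natCast_eq_natCast_iff] at h'
    push_cast at h'
    rw [hjc] at h'
    rw [Units.val_pow_eq_pow_val]
    exact h'.symm
  have h3 := A.three_le
  have hgc : orderOf g ∣ Nat.card (centralizer ({t} : Set G)) :=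
    Subgroup.orderOf_dvd_natCard _ (Subgroup.mem_centralizer_singleton_iff.2 hgt)
  obtain ⟨e, he⟩ : ∃ e, r - 1 = 2 ^ e := by
    refine ⟨(r - 1).primeFactorsList.length,
      Nat.eq_prime_pow_of_unique_prime_dvd (by omega) fun {p} hp hd => ?_⟩
    rcases A.primes_ct hp ((hd.trans hdvd).trans hgc) with h | h
    · exact h
    · exfalso
      rw [h] at hd
      have := Nat.le_of_dvd (by omega) hd
      omega
  rw [he] at hdvd
  have he3 : e ≤ 3 := by
    by_contra hlt
    have h16 : 16 ∣ orderOf g := dvd_trans (show 2 ^ 4 ∣ 2 ^ e from pow_dvd_pow 2 (by omega)) hdvd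
    exact A.no_sixteen (orderOf_pow_orderOf_div (orderOf_pos g).ne' h16)
  have hr := A.hr
  interval_cases e
  · omega
  · left; omega
  · right; omega
  · exfalso
    rw [show r = 9 by omega] at hr
    norm_num at hr

/-- The `r`-part of the order of `C(t)` is `r` or `9`. -/
theorem sylow_ct [Fact r.Prime] (P : Sylow r (centralizer ({t} : Set G))) :
    (Nat.card (P : Subgroup (centralizer ({t} : Set G))) = r ∨
      (r = 3 ∧ Nat.card (P : Subgroup (centralizer ({t} : Set G))) = 9)) ∧
    (∀ y ∈ (P : Subgroup (centralizer ({t} : Set G))), y ≠ 1 → orderOf y = r) ∧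
    (∀ y ∈ (P : Subgroup (centralizer ({t} : Set G))), ∀ z ∈ (P : Subgroup (centralizer ({t} : Set G))),
      y * z = z * y) := by
  classical
  revert P
  set H := centralizer ({t} : Set G)
  intro P
  have memH : ∀ g : G, g ∈ H ↔ g * t = t * g := fun g => Subgroup.mem_centralizer_singleton_iff
  have hab : ∀ y ∈ (P : Subgroup H), ∀ z ∈ (P : Subgroup H), y * z = z * y := by
    obtain ⟨Q, hQ⟩ := (P.isPGroup'.map H.subtype).exists_le_sylow
    haveI := A.five.ab r A.hr A.hr2 A.not_dvd Q
    intro y hy z hz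
    have h := mul_comm' (⟨(y : G), hQ (Subgroup.mem_map_of_mem _ hy)⟩ : (Q : Subgroup G))
      ⟨(z : G), hQ (Subgroup.mem_map_of_mem _ hz)⟩
    apply Subtype.ext
    simpa [Subtype.ext_iff] using h
  have hexp : ∀ y ∈ (P : Subgroup H), y ≠ 1 → orderOf y = r := by
    intro y hy hy1
    obtain ⟨k, hk⟩ := IsPGroup.iff_orderOf.1 P.isPGroup' ⟨y, hy⟩
    rw [Subgroup.orderOf_mk] at hk
    rcases k with _ | _ | k
    · exact absurd (orderOf_eq_one_iff.1 (by simpa using hk)) hy1
    · simpa using hk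
    · exfalso
      have hd : r ^ 2 ∣ orderOf (y : G) := by
        rw [Subgroup.orderOf_coe, hk]; exact pow_dvd_pow r (by omega)
      exact A.no_sq (orderOf_pow_orderOf_div (orderOf_pos (y : G)).ne' hd)
        (((show Commute (y : G) t from (memH _).1 y.2).pow_left _).eq)
  obtain ⟨y₀, hy₀, hy₁⟩ : ∃ y ∈ (P : Subgroup H), y ≠ 1 := by
    refine (Subgroup.bot_or_exists_ne_one _).resolve_left (P.ne_bot_of_dvd_card ?_)
    rw [← A.ord_x, ← Subgroup.orderOf_mk x ((memH x).2 A.comm)]
    exact orderOf_dvd_natCard _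
  have hall : ∀ y ∈ (P : Subgroup H), y ≠ 1 → IsConj y₀ y := by
    intro y hy h1
    have hto : ∀ z ∈ (P : Subgroup H), z ≠ 1 → IsConj (⟨x, (memH x).2 A.comm⟩ : H) z := by
      intro z hz hz1
      obtain ⟨g, hg, he⟩ := A.conj_x_ct (x' := (z : G))
        (by rw [Subgroup.orderOf_coe]; exact hexp z hz hz1) ((memH _).1 z.2)
      exact isConj_iff.2 ⟨⟨g, (memH g).2 hg⟩, Subtype.ext he⟩
    exact (hto y₀ hy₀ hy₁).symm.trans (hto y hy h1)
  have hdvd := Grp.orbit_dvd P hab hy₀
  haveI := Fintype.ofFinite H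
  have hcard : Nat.card {z : H // z ∈ (P : Subgroup H) ∧ IsConj y₀ z} + 1 =
      Nat.card (P : Subgroup H) := by
    rw [Nat.card_eq_fintype_card, Nat.card_eq_fintype_card, Fintype.card_subtype, Fintype.card_subtype]
    have : (Finset.univ.filter fun z : H => z ∈ (P : Subgroup H)) =
        insert 1 (Finset.univ.filter fun z : H => z ∈ (P : Subgroup H) ∧ IsConj y₀ z) := by
      ext z
      simp only [Finset.mem_filter, Finset.mem_univ, true_and, Finset.mem_insert]
      constructor
      · intro hz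
        by_cases h : z = 1
        · exact Or.inl h
        · exact Or.inr ⟨hz, hall z hz h⟩
      · rintro (rfl | ⟨h, -⟩)
        exacts [one_mem _, h]
    rw [this, Finset.card_insert_of_notMem (by
      simp only [Finset.mem_filter, Finset.mem_univ, true_and, not_and, isConj_one_left]
      exact fun _ => hy₁)]
  set n := Nat.card {z : H // z ∈ (P : Subgroup H) ∧ IsConj y₀ z}
  have hn0 : n ≠ 0 := fun h => by
    haveI : Nonempty {z : H // z ∈ (P : Subgroup H) ∧ IsConj y₀ z} := ⟨⟨y₀, hy₀, IsConj.refl _⟩⟩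
    exact (Nat.card_pos (α := {z : H // z ∈ (P : Subgroup H) ∧ IsConj y₀ z})).ne' h
  have hn2 : n = 2 ^ n.primeFactorsList.length :=
    Nat.eq_prime_pow_of_unique_prime_dvd hn0 fun {p} hp hd => by
      rcases A.primes_ct hp ((hd.trans hdvd).trans (Subgroup.index_dvd_card _)) with h | h
      · exact h
      · rw [h] at hd
        exact absurd (hd.trans hdvd) P.not_dvd_index
  obtain ⟨γ, hγ⟩ := P.isPGroup'.exists_card_eq
  refine ⟨?_, hexp, hab⟩
  rw [hγ] at hcard ⊢
  rcases int_pow (n := r) A.r_mem (g := γ) (k := n.primeFactorsList.length) (by omega) with e | ⟨e, e'⟩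
  · left; rw [e, pow_one]
  · right; exact ⟨e, by rw [e, e']; norm_num⟩

end At

end CfsgLib.ThreeCC
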