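import Cfsg.Agent.ThreeCC.Groups
import Cfsg.Agent.Char.Orthogonality
import Mathlib.RingTheory.ZMod.UnitsCyclic
import Mathlib.Tactic

/-!
The local structure forced by having at most five classes of nontrivial elements of order prime to `M`.
-/

set_option autoImplicit false
set_option linter.unusedSectionVars false
set_option linter.style.haveILetI false

namespace CfsgLib.ThreeCC

open Subgroup

universe u

variable {G : Type u} [Group G] [Finite G]

theorem orderOf_conj' (g x : G) : orderOf (g * x * g⁻¹) = orderOf x :=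
  MulEquiv.orderOf_eq (MulAut.conj g) x

theorem orderOf_isConj {x y : G} (h : IsConj x y) : orderOf x = orderOf y := by
  obtain ⟨g, rfl⟩ := isConj_iff.1 h
  rw [orderOf_conj']

/-- At most five classes of nontrivial elements of order prime to `M`. -/
structure Five (M : ℕ) (t : G) : Prop where
  ord_t : orderOf t = 2
  oneClass : ∀ v : G, orderOf v = 2 → IsConj t v
  odd : Odd M
  cent : ∀ g : G, g ≠ 1 → (orderOf g).Coprime M →
    (Nat.card (centralizer ({g} : Set G))).Coprime M
  bound : ∀ L : Finset G, (∀ g ∈ L, g ≠ 1 ∧ (orderOf g).Coprime M) →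
    (∀ g ∈ L, ∀ g' ∈ L, IsConj g g' → g = g') → L.card ≤ 5
  four : ∃ f : G, orderOf f = 4
  ab : ∀ r : ℕ, r.Prime → r ≠ 2 → ¬ r ∣ M → ∀ P : Sylow r G, IsMulCommutative ↥(P : Subgroup G)

/-- An element of odd prime order centralising the involution. -/
structure At (M : ℕ) (t : G) (r : ℕ) (x : G) : Prop where
  five : Five M t
  hr : r.Prime
  hr2 : r ≠ 2
  ord_x : orderOf x = r
  comm : x * t = t * x

/-- A nontrivial element of order prime to `M`. -/
def Good (M : ℕ) (g : G) : Prop := g ≠ 1 ∧ (orderOf g).Coprime M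

namespace Five

variable {M : ℕ} {t : G} (F : Five M t)
include F

theorem no_six (g : Fin 6 → G) (hg : ∀ i, Good M (g i))
    (hnc : ∀ i j, i < j → ¬ IsConj (g i) (g j)) : False := by
  classical
  have hinj : ∀ i j, IsConj (g i) (g j) → i = j := fun i j h => by
    rcases lt_trichotomy i j with h1 | h1 | h1
    · exact absurd h (hnc i j h1)
    · exact h1
    · exact absurd h.symm (hnc j i h1)
  have h := F.bound (Finset.univ.image g)
    (fun a ha => by obtain ⟨i, -, rfl⟩ := Finset.mem_image.1 ha; exact hg i)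
    (fun a ha b hb h => by
      obtain ⟨i, -, rfl⟩ := Finset.mem_image.1 ha
      obtain ⟨j, -, rfl⟩ := Finset.mem_image.1 hb
      rw [hinj i j h])
  rw [Finset.card_image_of_injective _ fun i j h' => hinj i j (isConj_iff.2 ⟨1, by simp [h']⟩)] at h
  simp at h

theorem good_t : Good M t :=
  ⟨fun e => by have := F.ord_t; rw [e, orderOf_one] at this; omega,
    by rw [F.ord_t]; exact Nat.coprime_two_left.2 F.odd⟩

theorem cent_t : (Nat.card (centralizer ({t} : Set G))).Coprime M :=
  F.cent t F.good_t.1 F.good_t.2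

theorem good_of_comm {g h : G} (hg : Good M g) (hh : h * g = g * h) (hh1 : h ≠ 1) : Good M h :=
  ⟨hh1, (F.cent g hg.1 hg.2).coprime_dvd_left
    (Subgroup.orderOf_dvd_natCard _ (Subgroup.mem_centralizer_singleton_iff.2 hh))⟩

theorem good_four : ∃ f : G, orderOf f = 4 ∧ Good M f := by
  obtain ⟨f, hf⟩ := F.four
  refine ⟨f, hf, fun e => ?_, ?_⟩
  · rw [e, orderOf_one] at hf; omega
  · rw [hf, show 4 = 2 ^ 2 from rfl]
    exact Nat.Coprime.pow_left _ (Nat.coprime_two_left.2 F.odd)

theorem index_odd : ¬ 2 ∣ (centralizer ({t} : Set G)).index := by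
  haveI : Fact (Nat.Prime 2) := ⟨Nat.prime_two⟩
  obtain ⟨P⟩ : Nonempty (Sylow 2 G) := inferInstance
  have h2 : 2 ∣ Nat.card G := F.ord_t ▸ orderOf_dvd_natCard t
  haveI : Nontrivial (P : Subgroup G) :=
    (Subgroup.nontrivial_iff_ne_bot _).2 (P.ne_bot_of_dvd_card h2)
  haveI := P.isPGroup'.center_nontrivial
  obtain ⟨z, hz⟩ := exists_prime_orderOf_dvd_card' (G := Subgroup.center (P : Subgroup G)) 2
    (by
      obtain ⟨n, hn, hcard⟩ := (P.isPGroup'.to_subgroup (Subgroup.center _)).nontrivial_iff_card.1 inferInstance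
      rw [hcard]; exact dvd_pow_self _ hn.ne')
  have hzo : orderOf (((z : (P : Subgroup G)) : G)) = 2 := by
    rw [Subgroup.orderOf_coe, Subgroup.orderOf_coe, hz]
  obtain ⟨g, hg⟩ := isConj_iff.1 (F.oneClass _ hzo).symm
  intro hd
  refine P.not_dvd_index ?_
  have hle : (P : Subgroup G) ≤ centralizer ({((z : (P : Subgroup G)) : G)} : Set G) := fun p hp =>
    Subgroup.mem_centralizer_singleton_iff.2 (congrArg Subtype.val (Subgroup.mem_center_iff.1 z.2 ⟨p, hp⟩))
  refine dvd_trans ?_ (Subgroup.index_dvd_of_le hle)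
  have e1 := CfsgLib.Char.card_conj_class t
  have e2 := CfsgLib.Char.card_conj_class (((z : (P : Subgroup G)) : G))
  have hzt : IsConj t (((z : (P : Subgroup G)) : G)) := F.oneClass _ hzo
  rw [← e2, ← Nat.card_congr (Equiv.subtypeEquivRight fun y =>
    ⟨fun a => hzt.symm.trans a, fun a => hzt.trans a⟩ :
      {y : G // IsConj t y} ≃ {y : G // IsConj (((z : (P : Subgroup G)) : G)) y}), e1]
  exact hd

end Five

namespace At

variable {M : ℕ} {t : G} {r : ℕ} {x : G} (A : At M t r x)
include A

theorem good_x : Good M x :=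
  A.five.good_of_comm A.five.good_t A.comm fun e => by
    have h := A.ord_x
    rw [e, orderOf_one] at h
    exact A.hr.one_lt.ne h

theorem not_dvd : ¬ r ∣ M := fun h => by
  have := A.good_x.2
  rw [A.ord_x] at this
  exact A.hr.one_lt.ne' (Nat.eq_one_of_dvd_coprimes this dvd_rfl h)

theorem ord_prod {s y : G} {a b : ℕ} (hs : orderOf s = a) (hy : orderOf y = b)
    (hc : s * y = y * s) (hab : a.Coprime b) : orderOf (s * y) = a * b := by
  rw [(show Commute s y from hc).orderOf_mul_eq_mul_orderOf_of_coprime (by rw [hs, hy]; exact hab),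
    hs, hy]

theorem two_coprime : Nat.Coprime 2 r := (Nat.coprime_primes Nat.prime_two A.hr).2 A.hr2.symm

theorem four_coprime : Nat.Coprime 4 r := by
  rw [show 4 = 2 ^ 2 from rfl]; exact A.two_coprime.pow_left 2

theorem three_le : 3 ≤ r := by
  have := A.hr.two_le; have := A.hr2; omega

theorem r_odd : r % 2 = 1 := A.hr.eq_two_or_odd.resolve_left A.hr2

theorem good_prod {s y : G} (hs : Good M s) (hy : Good M y) (hc : s * y = y * s) (h1 : s * y ≠ 1) :
    Good M (s * y) := by
  refine A.five.good_of_comm hs ?_ h1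
  rw [mul_assoc, ← hc]

/-- Two further orders besides `2`, `4`, `r`, `2r` are impossible. -/
theorem two_extra {a b : G} (ha : Good M a) (hb : Good M b)
    (hab : orderOf a ≠ orderOf b)
    (ha' : orderOf a ≠ 2 ∧ orderOf a ≠ 4 ∧ orderOf a ≠ r ∧ orderOf a ≠ 2 * r)
    (hb' : orderOf b ≠ 2 ∧ orderOf b ≠ 4 ∧ orderOf b ≠ r ∧ orderOf b ≠ 2 * r) : False := by
  obtain ⟨f, hf, hfg⟩ := A.five.good_four
  have h2r := A.ord_prod A.five.ord_t A.ord_x A.comm.symm A.two_coprime
  have h3 := A.three_le
  have hro := A.r_odd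
  refine A.five.no_six ![t, f, x, t * x, a, b] ?_ ?_
  · intro i
    fin_cases i
    · exact A.five.good_t
    · exact hfg
    · exact A.good_x
    · exact A.good_prod A.five.good_t A.good_x A.comm.symm fun e => by
        rw [e, orderOf_one] at h2r; omega
    · exact ha
    · exact hb
  · intro i j hij h
    have := orderOf_isConj h
    fin_cases i <;> fin_cases j <;> (try simp at hij) <;> (try simp at this) <;>
      (try simp only [A.five.ord_t, hf, A.ord_x, h2r] at this) <;> omega

/-- An element of order `r` commuting with an involution is conjugate to `x`. -/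
theorem isConj_x {x' s : G} (hs : orderOf s = 2) (hx' : orderOf x' = r) (hc : x' * s = s * x') :
    IsConj x x' := by
  by_contra hn
  obtain ⟨f, hf, hfg⟩ := A.five.good_four
  have h2r := A.ord_prod A.five.ord_t A.ord_x A.comm.symm A.two_coprime
  have h2r' := A.ord_prod hs hx' hc.symm A.two_coprime
  have h3 := A.three_le
  have hro := A.r_odd
  have hsg : Good M s := ⟨fun e => by rw [e, orderOf_one] at hs; omega,
    by rw [hs]; exact Nat.coprime_two_left.2 A.five.odd⟩
  have hxg : Good M x' := A.five.good_of_comm hsg hc fun e => by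
    rw [e, orderOf_one] at hx'; omega
  have key : ¬ IsConj (t * x) (s * x') := by
    intro h
    apply hn
    obtain ⟨g, hg⟩ := isConj_iff.1 h
    have hp : ∀ s' y' : G, orderOf s' = 2 → orderOf y' = r → s' * y' = y' * s' →
        (s' * y') ^ (r + 1) = y' := by
      intro s' y' h1 h2 h3
      obtain ⟨q, hq⟩ : 2 ∣ r + 1 := by omega
      rw [(show Commute s' y' from h3).mul_pow, hq, pow_mul, ← h1, pow_orderOf_eq_one, one_pow,
        one_mul, h1, ← hq, pow_succ, ← h2, pow_orderOf_eq_one, one_mul]
    refine isConj_iff.2 ⟨g, ?_⟩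
    rw [← hp t x A.five.ord_t A.ord_x A.comm.symm, ← hp s x' hs hx' hc.symm, ← conj_pow, hg]
  refine A.five.no_six ![t, f, x, x', t * x, s * x'] ?_ ?_
  · intro i
    fin_cases i
    · exact A.five.good_t
    · exact hfg
    · exact A.good_x
    · exact hxg
    · exact A.good_prod A.five.good_t A.good_x A.comm.symm fun e => by
        rw [e, orderOf_one] at h2r; omega
    · exact A.good_prod hsg hxg hc.symm fun e => by rw [e, orderOf_one] at h2r'; omega
  · intro i j hij h
    have := orderOf_isConj h
    fin_cases i <;> fin_cases j <;> (try simp at hij) <;> (try simp at this) <;>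
      simp only [A.five.ord_t, hf, A.ord_x, hx', h2r, h2r'] at this <;>
      first | omega | exact hn h | exact key h

theorem primes_of_cent {g : G} {a : ℕ} (hg : Good M g) (hga : orderOf g = a) (hga' : a = 2 ∨ a = r)
    {p : ℕ} (hp : p.Prime) (hd : p ∣ Nat.card (centralizer ({g} : Set G))) : p = 2 ∨ p = r := by
  by_contra hne
  rw [not_or] at hne
  obtain ⟨y, hy⟩ := exists_prime_orderOf_dvd_card' (hp := ⟨hp⟩) p hd
  have hy' : orderOf (y : G) = p := by rw [Subgroup.orderOf_coe, hy]
  have hc : (y : G) * g = g * y := Subgroup.mem_centralizer_singleton_iff.1 y.2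
  have hcop : Nat.Coprime a p := by
    rcases hga' with rfl | rfl
    · exact (Nat.coprime_primes Nat.prime_two hp).2 (Ne.symm hne.1)
    · exact (Nat.coprime_primes A.hr hp).2 (Ne.symm hne.2)
  have ho := A.ord_prod hga hy' hc.symm hcop
  have hy1 : (y : G) ≠ 1 := fun e => by rw [e, orderOf_one] at hy'; exact hp.one_lt.ne hy'
  have hpy : Good M (y : G) := A.five.good_of_comm hg hc hy1
  have h3 := A.three_le
  have hp3 : 3 ≤ p := by have := hp.two_le; omega
  have hp4 : p ≠ 4 := fun e => by rw [e] at hp; norm_num at hp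
  have hp2r : p ≠ 2 * r := fun e => by
    rw [e] at hp
    exact Nat.not_prime_mul (by norm_num) A.hr.ne_one hp
  have h1 : g * (y : G) ≠ 1 := fun e => by
    rw [e, orderOf_one] at ho
    exact hp.ne_one (Nat.eq_one_of_mul_eq_one_left ho.symm)
  have hro := A.r_odd
  have hpo : p % 2 = 1 := hp.eq_two_or_odd.resolve_left hne.1
  refine A.two_extra hpy (A.good_prod hg hpy hc.symm h1) ?_ ?_ ?_ <;> rw [hy'] at *
  · rw [ho]
    rcases hga' with rfl | rfl
    · omega
    · intro e
      have : a * p = 1 * p := by rw [one_mul]; exact e.symm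
      have := Nat.eq_of_mul_eq_mul_right hp.pos this
      omega
  · exact ⟨by omega, hp4, hne.2, hp2r⟩
  · rw [ho]
    rcases hga' with rfl | rfl
    · exact ⟨by omega, by omega, by omega, fun e => hne.2 (by omega)⟩
    · refine ⟨by nlinarith, by nlinarith, by nlinarith, fun e => ?_⟩
      have := Nat.eq_of_mul_eq_mul_left (show 0 < a by omega) (e.trans (mul_comm 2 a))
      omega

theorem primes_ct {p : ℕ} (hp : p.Prime) (hd : p ∣ Nat.card (centralizer ({t} : Set G))) :
    p = 2 ∨ p = r :=
  A.primes_of_cent A.five.good_t A.five.ord_t (Or.inl rfl) hp hd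

theorem primes_cx {p : ℕ} (hp : p.Prime) (hd : p ∣ Nat.card (centralizer ({x} : Set G))) :
    p = 2 ∨ p = r :=
  A.primes_of_cent A.good_x A.ord_x (Or.inr rfl) hp hd

/-- No element of order `r ^ 2` centralises the involution. -/
theorem no_sq {y : G} (hy : orderOf y = r ^ 2) (hc : y * t = t * y) : False := by
  have ho := A.ord_prod A.five.ord_t hy hc.symm (A.two_coprime.pow_right 2)
  have h3 := A.three_le
  have h9 : 3 * r ≤ r ^ 2 := by nlinarith
  have hy1 : y ≠ 1 := fun e => by rw [e, orderOf_one] at hy; omega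
  have hg : Good M y := A.five.good_of_comm A.five.good_t hc hy1
  refine A.two_extra hg (A.good_prod A.five.good_t hg hc.symm fun e => by
    rw [e, orderOf_one] at ho; omega) ?_ ?_ ?_ <;> rw [hy] at *
  · omega
  · omega
  · omega

/-- 2-elements have order at most 8. -/
theorem no_sixteen {g : G} (hg : orderOf g = 16) : False := by
  have hro := A.r_odd
  have h8 : orderOf (g ^ 2) = 8 := by rw [orderOf_pow' g (by norm_num), hg]; norm_num
  have hgood : ∀ y : G, ∀ e : ℕ, 0 < e → orderOf y = 2 ^ e → Good M y := fun y e he hy =>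
    ⟨fun h1 => by
      rw [h1, orderOf_one] at hy
      exact (Nat.one_lt_two_pow he.ne').ne hy,
     by rw [hy]; exact Nat.Coprime.pow_left _ (Nat.coprime_two_left.2 A.five.odd)⟩
  refine A.two_extra (hgood g 4 (by norm_num) hg) (hgood (g ^ 2) 3 (by norm_num) h8) ?_ ?_ ?_ <;>
    rw [hg] at * <;> rw [h8] at * <;> omega

end At

end CfsgLib.ThreeCC
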