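import Cfsg.Agent.ThreeCC.Column

/-!
Three pairwise non-conjugate strongly self-centralising subgroups: the three families and the
special character attached to `A₁`.
-/

set_option autoImplicit false
set_option linter.unusedSectionVars false
set_option linter.style.haveILetI false

namespace CfsgLib.ThreeCC

open CfsgLib.Char
open scoped ComplexConjugate Classical

universe u

variable {G : Type u} [Group G] [Fintype G]

/-- The hypotheses on the three subgroups. -/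
structure Hyp (A₁ A₂ A₃ : Subgroup G) : Prop where
  f1 : ∃ u, Frame A₁ 2 u
  f2 : ∃ u, Frame A₂ 4 u
  f3 : ∃ u, Frame A₃ 4 u
  co12 : (Nat.card A₁).Coprime (Nat.card A₂)
  co13 : (Nat.card A₁).Coprime (Nat.card A₃)
  co23 : (Nat.card A₂).Coprime (Nat.card A₃)
  hn1 : 5 ≤ Nat.card A₁
  hn2 : 5 < Nat.card A₂
  hn3 : 5 < Nat.card A₃
  ord : Nat.card G ≤ 3 * Nat.card A₁ ^ 2 * Nat.card A₂ ^ 2 * Nat.card A₃ ^ 2
  ab : ∀ r : ℕ, r.Prime → r ≠ 2 → ¬ r ∣ Nat.card A₁ * Nat.card A₂ * Nat.card A₃ →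
    ∀ P : Sylow r G, IsMulCommutative ↥(P : Subgroup G)

namespace Hyp

variable {A₁ A₂ A₃ : Subgroup G} (H : Hyp A₁ A₂ A₃)

include H

theorem swap : Hyp A₁ A₃ A₂ where
  f1 := H.f1
  f2 := H.f3
  f3 := H.f2
  co12 := H.co13
  co13 := H.co12
  co23 := H.co23.symm
  hn1 := H.hn1
  hn2 := H.hn3
  hn3 := H.hn2
  ord := le_of_le_of_eq H.ord (by ring)
  ab := fun r h1 h2 h3 => H.ab r h1 h2 (by rwa [mul_right_comm] at h3)

theorem c1 : CC A₁ := H.f1.choose_spec.cc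
theorem c2 : CC A₂ := H.f2.choose_spec.cc
theorem c3 : CC A₃ := H.f3.choose_spec.cc

theorem odd1 : Odd (Nat.card A₁) := H.f1.choose_spec.odd dvd_rfl
theorem odd2 : Odd (Nat.card A₂) := H.f2.choose_spec.odd (by norm_num)
theorem odd3 : Odd (Nat.card A₃) := H.f3.choose_spec.odd (by norm_num)

theorem mod2 : Nat.card A₂ % 4 = 1 := by
  have := H.f2.choose_spec.dvd_sub_one
  have := H.hn2
  omega

theorem nine_le : 9 ≤ Nat.card A₂ ∧ 9 ≤ Nat.card A₃ ∧ Nat.card A₂ ≠ Nat.card A₃ := by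
  have h2 := H.f2.choose_spec.dvd_sub_one
  have h3 := H.f3.choose_spec.dvd_sub_one
  have := H.hn2
  have := H.hn3
  refine ⟨by omega, by omega, fun e => ?_⟩
  have := H.co23
  rw [e, Nat.coprime_self] at this
  omega

theorem n23_ge : 117 ≤ Nat.card A₂ * Nat.card A₃ := by
  obtain ⟨h2, h3, hne⟩ := H.nine_le
  have e2 := H.mod2
  have e3 := H.swap.mod2
  rcases eq_or_lt_of_le h2 with e | h
  · rw [← e]; omega
  · calc 117 = 13 * 9 := rfl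
      _ ≤ _ := Nat.mul_le_mul (by omega) h3

end Hyp

variable {A₁ A₂ A₃ : Subgroup G}

/-- The elements with no conjugate in the three subgroups. -/
def Out (A₁ A₂ A₃ : Subgroup G) (g : G) : Prop :=
  ¬ InConj A₁ g ∧ ¬ InConj A₂ g ∧ ¬ InConj A₃ g

theorem inConj_one (A : Subgroup G) : InConj A (1 : G) := ⟨1, by simp⟩

theorem Out.ne_one {g : G} (h : Out A₁ A₂ A₃ g) : g ≠ 1 := fun e => h.1 (e ▸ inConj_one _)

theorem out_iff (H : Hyp A₁ A₂ A₃) {g : G} :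
    Out A₁ A₂ A₃ g ↔ g ≠ 1 ∧
      (orderOf g).Coprime (Nat.card A₁ * Nat.card A₂ * Nat.card A₃) := by
  constructor
  · intro h
    refine ⟨h.ne_one, Nat.coprime_of_dvd fun p hp h1 h2 => ?_⟩
    rcases hp.dvd_mul.1 h2 with h3 | h3
    · rcases hp.dvd_mul.1 h3 with h4 | h4
      · exact h.1 (H.c1.inConj_of_dvd hp h4 h1)
      · exact h.2.1 (H.c2.inConj_of_dvd hp h4 h1)
    · exact h.2.2 (H.c3.inConj_of_dvd hp h3 h1)
  · rintro ⟨h1, h2⟩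
    rw [Nat.coprime_mul_iff_right, Nat.coprime_mul_iff_right] at h2
    refine ⟨fun h => h1 ?_, fun h => h1 ?_, fun h => h1 ?_⟩ <;> rw [← orderOf_eq_one_iff]
    · exact Nat.eq_one_of_dvd_coprimes h2.1.1 dvd_rfl (H.c1.orderOf_dvd h)
    · exact Nat.eq_one_of_dvd_coprimes h2.1.2 dvd_rfl (H.c2.orderOf_dvd h)
    · exact Nat.eq_one_of_dvd_coprimes h2.2 dvd_rfl (H.c3.orderOf_dvd h)

/-- The families and the special character. -/
structure Sys (A₁ A₂ A₃ : Subgroup G) where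
  hyp : Hyp A₁ A₂ A₃
  F1 : Fam A₁ 2
  F2 : Fam A₂ 4
  F3 : Fam A₃ 4
  norm2 : F2.m = 2 → F2.e ≠ F2.ε
  norm3 : F3.m = 2 → F3.e ≠ F3.ε
  χ : G → ℂ
  δ : ℤ
  hδ : δ = 1 ∨ δ = -1
  χ_mem : χ ∈ F1.rest
  χ_ne : χ ≠ fun _ => (1 : ℂ)
  e1 : F1.e = 0
  χ_cst : F1.cst χ = δ
  cst_zero : ∀ ψ ∈ F1.rest, ψ ≠ (fun _ => (1 : ℂ)) → ψ ≠ χ → F1.cst ψ = 0

theorem exists_sys (H : Hyp A₁ A₂ A₃) : Nonempty (Sys A₁ A₂ A₃) := by
  obtain ⟨u1, hu1⟩ := H.f1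
  obtain ⟨u2, hu2⟩ := H.f2
  obtain ⟨u3, hu3⟩ := H.f3
  obtain ⟨E1⟩ := exists_fam hu1 (by linarith [H.hn1])
  obtain ⟨E2⟩ := exists_fam hu2 (by linarith [H.nine_le.1])
  obtain ⟨E3⟩ := exists_fam hu3 (by linarith [H.nine_le.2.1])
  obtain ⟨F1, n1⟩ := E1.exists_norm
  obtain ⟨F2, n2⟩ := E2.exists_norm
  obtain ⟨F3, n3⟩ := E3.exists_norm
  have hb := F1.budget hu1
  have hone := F1.one_mem_rest
  rw [← Finset.add_sum_erase _ _ hone, F1.cst_one] at hb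
  set T := F1.rest.erase (fun _ => (1 : ℂ))
  set S := ∑ ψ ∈ T, F1.cst ψ ^ 2 with hS
  have hS0 : 0 ≤ S := Finset.sum_nonneg fun ψ _ => sq_nonneg _
  have hm : (2 : ℤ) ≤ F1.m := by exact_mod_cast F1.two_le
  have he : F1.e = 0 := by
    by_contra he
    push_cast at hb
    have hεe : F1.e = F1.ε := by
      by_contra hne
      rcases F1.hε with h | h <;> rw [h] at hne hb
      · rcases lt_or_gt_of_ne he with h0 | h0
        · nlinarith [mul_le_mul_of_nonneg_right hm (sq_nonneg F1.e)]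
        · nlinarith [mul_le_mul_of_nonneg_right hm (sq_nonneg F1.e), (show 2 ≤ F1.e by omega)]
      · rcases lt_or_gt_of_ne he with h0 | h0
        · nlinarith [mul_le_mul_of_nonneg_right hm (sq_nonneg F1.e), (show F1.e ≤ -2 by omega)]
        · nlinarith [mul_le_mul_of_nonneg_right hm (sq_nonneg F1.e)]
    have hε2 : F1.ε ^ 2 = 1 := by rcases F1.hε with h | h <;> simp [h]
    have hm3 : (F1.m : ℤ) = 3 ∧ S = 0 := by
      rw [hεe] at hb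
      have : 1 + S + ((F1.m : ℤ) - 2) = 2 := by linear_combination hb - ((F1.m : ℤ) - 2) * hε2
      have hne2 : F1.m ≠ 2 := fun h2 => n1 h2 hεe
      constructor <;> omega
    have ho := F1.orth (g := 1) (Or.inr rfl)
    rw [← Finset.add_sum_erase _ _ hone, F1.cst_one,
      Finset.sum_eq_zero fun ψ hψ => by
        rw [pow_eq_zero_iff (n := 2) (by norm_num) |>.1
          ((Finset.sum_eq_zero_iff_of_nonneg fun ψ _ => sq_nonneg (F1.cst ψ)).1 hm3.2 ψ hψ)]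
        simp] at ho
    obtain ⟨d, -, hd⟩ := IsIrrCharacter.exists_degree (F1.irr ⟨0, by linarith [F1.two_le]⟩)
    rw [F1.com_one] at hd
    rw [hd, hεe] at ho
    have h3 : ((1 : ℤ) + (F1.m * F1.ε - F1.ε) * d : ℤ) = (0 : ℂ) := by
      push_cast; linear_combination ho
    have h4 : (1 : ℤ) + (F1.m * F1.ε - F1.ε) * d = 0 := by exact_mod_cast h3
    rw [hm3.1] at h4
    rcases F1.hε with h | h <;> rw [h] at h4 <;> omega
  rw [he] at hb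
  have hS1 : S = 1 := by push_cast at hb; linarith
  obtain ⟨χ, hχ, hχ0⟩ : ∃ χ ∈ T, F1.cst χ ≠ 0 := by
    by_contra! hall
    rw [hS, Finset.sum_eq_zero fun ψ hψ => by rw [hall ψ hψ]; simp] at hS1
    norm_num at hS1
  have h1 : 1 ≤ F1.cst χ ^ 2 := Int.add_one_le_iff.2 (sq_pos_of_ne_zero hχ0)
  have hsplit := Finset.add_sum_erase T (fun ψ => F1.cst ψ ^ 2) hχ
  rw [← hS, hS1] at hsplit
  have hrest0 : 0 ≤ ∑ ψ ∈ T.erase χ, F1.cst ψ ^ 2 := Finset.sum_nonneg fun ψ _ => sq_nonneg _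
  have hz : ∑ ψ ∈ T.erase χ, F1.cst ψ ^ 2 = 0 := by linarith
  refine ⟨⟨H, F1, F2, F3, n2, n3, χ, F1.cst χ, sq_eq_one_iff.1 (by linarith), Finset.mem_of_mem_erase hχ,
    Finset.ne_of_mem_erase hχ, he, rfl, fun ψ hψ hψ1 hψχ => ?_⟩⟩
  exact pow_eq_zero_iff (n := 2) (by norm_num) |>.1
    ((Finset.sum_eq_zero_iff_of_nonneg fun ψ _ => sq_nonneg (F1.cst ψ)).1 hz ψ
      (Finset.mem_erase.2 ⟨hψχ, Finset.mem_erase.2 ⟨hψ1, hψ⟩⟩))

namespace Sys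

variable (S : Sys A₁ A₂ A₃)

noncomputable def swap : Sys A₁ A₃ A₂ where
  hyp := S.hyp.swap
  F1 := S.F1
  F2 := S.F3
  F3 := S.F2
  norm2 := S.norm3
  norm3 := S.norm2
  χ := S.χ
  δ := S.δ
  hδ := S.hδ
  χ_mem := S.χ_mem
  χ_ne := S.χ_ne
  e1 := S.e1
  χ_cst := S.χ_cst
  cst_zero := S.cst_zero

theorem χ_irr : Cfsg.IsIrrCharacter G S.χ := (S.F1.mem_rest.1 S.χ_mem).1

/-- The signed common value of the first family. -/
noncomputable def q1 (g : G) : ℂ := S.F1.ε * S.F1.com g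

theorem δ_sq : (S.δ : ℂ) * S.δ = 1 := by rcases S.hδ with h | h <;> simp [h]

theorem q1_eq {g : G} (hg : ¬ InConj A₁ g ∨ g = 1) : S.q1 g = 1 + S.δ * S.χ g := by
  have h := S.F1.orth hg
  rw [← Finset.add_sum_erase _ _ S.F1.one_mem_rest, S.F1.cst_one,
    Finset.sum_eq_single (a := S.χ) (fun ψ hψ hne => by
      rw [S.cst_zero ψ (Finset.mem_of_mem_erase hψ) (Finset.ne_of_mem_erase hψ) hne]; simp)
      (fun hn => absurd (Finset.mem_erase.2 ⟨S.χ_ne, S.χ_mem⟩) hn),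
    S.χ_cst, S.e1] at h
  simp only [q1]
  push_cast at h
  linear_combination -h

include S in
theorem not2_1 {a : G} (ha : a ∈ A₂) (ha1 : a ≠ 1) : ¬ InConj A₁ a :=
  CC.not_inConj S.hyp.c2 S.hyp.c1 S.hyp.co12.symm ha ha1

include S in
theorem not1_2 {a : G} (ha : a ∈ A₁) (ha1 : a ≠ 1) : ¬ InConj A₂ a :=
  CC.not_inConj S.hyp.c1 S.hyp.c2 S.hyp.co12 ha ha1

include S in
theorem not2_3 {a : G} (ha : a ∈ A₂) (ha1 : a ≠ 1) : ¬ InConj A₃ a :=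
  CC.not_inConj S.hyp.c2 S.hyp.c3 S.hyp.co23 ha ha1

theorem disj21 (p : Fin S.F2.m) (q : Fin S.F1.m) : S.F2.θ p ≠ S.F1.θ q :=
  S.F2.disjoint S.F1 (fun _ ha ha1 => S.not2_1 ha ha1) p q

theorem disj23 (p : Fin S.F2.m) (q : Fin S.F3.m) : S.F2.θ p ≠ S.F3.θ q :=
  S.F2.disjoint S.F3 (fun _ ha ha1 => S.not2_3 ha ha1) p q

theorem fam2_rest1 (p : Fin S.F2.m) : S.F2.θ p ∈ S.F1.rest :=
  S.F1.mem_rest.2 ⟨S.F2.irr p, fun q => S.disj21 p q⟩

theorem fam2_ne_one (p : Fin S.F2.m) : S.F2.θ p ≠ fun _ => (1 : ℂ) := fun h =>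
  (S.F2.mem_rest.1 S.F2.one_mem_rest).2 p h.symm

theorem fam2_ne_χ (p : Fin S.F2.m) : S.F2.θ p ≠ S.χ := by
  intro h
  obtain ⟨a, ha, ha1⟩ := S.F1.exists_elem
  have e : ∀ q, (S.F1.cst (S.F2.θ q) : ℂ) = (S.δ : ℂ) := fun q => by
    rw [← S.F1.cst_spec (S.fam2_rest1 q) ha ha1, S.F2.off q p a (S.not1_2 ha ha1), h,
      S.F1.cst_spec S.χ_mem ha ha1, S.χ_cst]
  have hall : ∀ q, S.F2.θ q = S.χ := fun q => by
    by_contra hne
    have h0 := S.cst_zero _ (S.fam2_rest1 q) (S.fam2_ne_one q) hne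
    have h1 := e q
    rw [h0] at h1
    rcases S.hδ with hd | hd <;> rw [hd] at h1 <;> norm_num at h1
  have := S.F2.inj ((hall ⟨0, by linarith [S.F2.two_le]⟩).trans (hall ⟨1, S.F2.two_le⟩).symm)
  simp at this

theorem χ_rest2 : S.χ ∈ S.F2.rest :=
  S.F2.mem_rest.2 ⟨S.χ_irr, fun p h => S.fam2_ne_χ p h.symm⟩

/-- The irreducible characters outside `1`, `χ` and the families. -/
noncomputable def R : Finset (G → ℂ) :=
  (irrFinset G \ (S.F1.mems ∪ S.F2.mems ∪ S.F3.mems)) \ {fun _ => (1 : ℂ), S.χ}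

theorem mem_R {ψ : G → ℂ} : ψ ∈ S.R ↔ Cfsg.IsIrrCharacter G ψ ∧ (∀ q, ψ ≠ S.F1.θ q) ∧
    (∀ q, ψ ≠ S.F2.θ q) ∧ (∀ q, ψ ≠ S.F3.θ q) ∧ ψ ≠ (fun _ => (1 : ℂ)) ∧ ψ ≠ S.χ := by
  simp only [R, Fam.mems, Finset.mem_sdiff, Finset.mem_union, Finset.mem_image, Finset.mem_univ,
    true_and, mem_irrFinset, Finset.mem_insert, Finset.mem_singleton, not_or, not_exists,
    and_assoc, ne_eq]
  simp only [eq_comm (a := ψ)]

theorem R_rest1 {ψ : G → ℂ} (h : ψ ∈ S.R) : ψ ∈ S.F1.rest :=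
  S.F1.mem_rest.2 ⟨(S.mem_R.1 h).1, (S.mem_R.1 h).2.1⟩

theorem R_rest2 {ψ : G → ℂ} (h : ψ ∈ S.R) : ψ ∈ S.F2.rest :=
  S.F2.mem_rest.2 ⟨(S.mem_R.1 h).1, (S.mem_R.1 h).2.2.1⟩

theorem swap_R : S.swap.R = S.R := by
  ext ψ
  rw [mem_R, mem_R]
  exact ⟨fun ⟨a, b, c, d, e⟩ => ⟨a, b, d, c, e⟩, fun ⟨a, b, c, d, e⟩ => ⟨a, b, d, c, e⟩⟩

theorem cst1_R {ψ : G → ℂ} (h : ψ ∈ S.R) : S.F1.cst ψ = 0 :=
  S.cst_zero ψ (S.R_rest1 h) (S.mem_R.1 h).2.2.2.2.1 (S.mem_R.1 h).2.2.2.2.2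

theorem sum_rest2 {M : Type*} [AddCommMonoid M] (f : (G → ℂ) → M) :
    ∑ ψ ∈ S.F2.rest, f ψ = f (fun _ => (1 : ℂ)) + f S.χ + ∑ q, f (S.F1.θ q) +
      ∑ q, f (S.F3.θ q) + ∑ ψ ∈ S.R, f ψ := by
  set T : Finset (G → ℂ) := {fun _ => (1 : ℂ), S.χ}
  have h1 : S.F1.mems ⊆ S.F2.rest := fun ψ hψ => by
    simp only [Fam.mems, Finset.mem_image] at hψ
    obtain ⟨q, -, rfl⟩ := hψ
    exact S.F2.mem_rest.2 ⟨S.F1.irr q, fun p h => S.disj21 p q h.symm⟩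
  have h3 : S.F3.mems ⊆ S.F2.rest := fun ψ hψ => by
    simp only [Fam.mems, Finset.mem_image] at hψ
    obtain ⟨q, -, rfl⟩ := hψ
    exact S.F2.mem_rest.2 ⟨S.F3.irr q, fun p h => S.disj23 p q h.symm⟩
  have hT : T ⊆ S.F2.rest := fun ψ hψ => by
    simp only [T, Finset.mem_insert, Finset.mem_singleton] at hψ
    rcases hψ with rfl | rfl
    · exact S.F2.one_mem_rest
    · exact S.χ_rest2
  have d13 : Disjoint S.F1.mems S.F3.mems := Finset.disjoint_left.2 fun ψ hψ hψ' => by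
    simp only [Fam.mems, Finset.mem_image] at hψ hψ'
    obtain ⟨q, -, rfl⟩ := hψ
    obtain ⟨p, -, hp⟩ := hψ'
    exact S.swap.disj21 p q hp
  have dT : Disjoint (S.F1.mems ∪ S.F3.mems) T := Finset.disjoint_left.2 fun ψ hψ hψ' => by
    simp only [Fam.mems, Finset.mem_union, Finset.mem_image] at hψ
    simp only [T, Finset.mem_insert, Finset.mem_singleton] at hψ'
    rcases hψ with ⟨q, -, rfl⟩ | ⟨q, -, rfl⟩ <;> rcases hψ' with h | h
    · exact (S.F1.mem_rest.1 S.F1.one_mem_rest).2 q h.symm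
    · exact (S.F1.mem_rest.1 S.χ_mem).2 q h.symm
    · exact (S.F3.mem_rest.1 S.F3.one_mem_rest).2 q h.symm
    · exact S.swap.fam2_ne_χ q h
  have hsub : S.F1.mems ∪ S.F3.mems ∪ T ⊆ S.F2.rest := Finset.union_subset (Finset.union_subset h1 h3) hT
  have hR : S.F2.rest \ (S.F1.mems ∪ S.F3.mems ∪ T) = S.R := by
    ext ψ
    simp only [R, T, Fam.rest, Finset.mem_sdiff, Finset.mem_union]
    tauto
  rw [← Finset.sum_sdiff hsub, hR, Finset.sum_union dT, Finset.sum_union d13, Fam.mems, Fam.mems,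
    Finset.sum_image fun a _ b _ h => S.F1.inj h, Finset.sum_image fun a _ b _ h => S.F3.inj h,
    show T = {fun _ => (1 : ℂ), S.χ} from rfl, Finset.sum_pair (Ne.symm S.χ_ne)]
  abel

theorem sum_irr {M : Type*} [AddCommMonoid M] (f : (G → ℂ) → M) :
    ∑ ψ ∈ irrFinset G, f ψ = f (fun _ => (1 : ℂ)) + f S.χ + ∑ q, f (S.F1.θ q) +
      ∑ q, f (S.F2.θ q) + ∑ q, f (S.F3.θ q) + ∑ ψ ∈ S.R, f ψ := by
  rw [S.F2.sum_split, S.sum_rest2]
  abel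

end Sys

end CfsgLib.ThreeCC
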