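import Cfsg.Agent.ThreeCC.TwoPart

/-!
The shape of `C(tx)` and `C(x)` when the index of `C(t)` exceeds `M`.
-/

set_option autoImplicit false
set_option linter.unusedSectionVars false
set_option linter.style.haveILetI false

namespace CfsgLib.ThreeCC

open Subgroup

universe u

variable {G : Type u} [Group G] [Finite G]

/-- The index of `C(t)` is `M * ρ`, with `ρ > 1` odd and prime to `M`. -/
structure Idx (M : ℕ) (t : G) (ρ : ℕ) : Prop where
  card : Nat.card G = M * ρ * Nat.card (centralizer ({t} : Set G))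
  odd : Odd ρ
  ne_one : ρ ≠ 1
  cop : ρ.Coprime M

namespace At

variable {M : ℕ} {t : G} {r : ℕ} {x : G} (A : At M t r x)
include A

theorem r_parts {ρ : ℕ} (I : Idx M t ρ) {a l g d : ℕ}
    (hg : g = r ∨ (r = 3 ∧ g = 9))
    (hc : Nat.card (centralizer ({t} : Set G)) = 2 ^ a * g)
    (hX : Nat.card (centralizer ({x} : Set G)) = r ^ d * (2 ^ l * g)) :
    r ^ d ∣ ρ ∧ (r ∣ ρ → d ≠ 0) := by
  haveI := Fact.mk A.hr
  obtain ⟨γ, hγ⟩ : ∃ γ, g = r ^ γ := by
    rcases hg with e | ⟨e, e'⟩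
    · exact ⟨1, by rw [e, pow_one]⟩
    · exact ⟨2, by rw [e', e]; norm_num⟩
  have hg0 : 0 < g := by rw [hγ]; exact Nat.pow_pos A.hr.pos
  have hco2 : ∀ i j : ℕ, (r ^ i).Coprime (2 ^ j) := fun i j => Nat.Coprime.pow i j A.two_coprime.symm
  have hcoM : r.Coprime M := A.hr.coprime_iff_not_dvd.2 A.not_dvd
  constructor
  · have h : r ^ d * g ∣ M * ρ * 2 ^ a * g := by
      rw [mul_assoc _ (2 ^ a) g, ← hc, ← I.card]
      refine dvd_trans ?_ (Subgroup.card_subgroup_dvd_card (centralizer ({x} : Set G)))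
      rw [hX]
      exact Dvd.intro (2 ^ l) (by ring)
    exact (hcoM.pow_left d).dvd_of_dvd_mul_left
      ((hco2 d a).dvd_of_dvd_mul_right (Nat.dvd_of_mul_dvd_mul_right hg0 h))
  · intro hr hd0
    obtain ⟨P, hP⟩ := (IsPGroup.of_card (p := r) (n := 1)
      (by rw [Nat.card_zpowers, A.ord_x, pow_one]) : IsPGroup r (zpowers x)).exists_le_sylow
    haveI := A.five.ab r A.hr A.hr2 A.not_dvd P
    have hle : (P : Subgroup G) ≤ centralizer ({x} : Set G) := fun y hy =>
      mem_centralizer_singleton_iff.2 (congrArg Subtype.val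
        (mul_comm' (⟨y, hy⟩ : (P : Subgroup G)) ⟨x, hP (mem_zpowers x)⟩))
    have hd : r ^ (γ + 1) ∣ Nat.card G := by
      rw [I.card, hc, pow_succ, ← hγ]
      exact ⟨M * (ρ / r) * 2 ^ a, by
        conv_lhs => rw [← Nat.div_mul_cancel hr]
        ring⟩
    have h := (P.pow_dvd_card_of_pow_dvd_card hd).trans (Subgroup.card_dvd_of_le hle)
    rw [hX, hd0, pow_zero, one_mul, hγ] at h
    have h2 := (hco2 (γ + 1) l).dvd_of_dvd_mul_left h
    have := Nat.le_of_dvd (Nat.pow_pos A.hr.pos) h2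
    have := Nat.pow_lt_pow_right A.hr.one_lt (Nat.lt_add_one γ)
    omega

/-- The Sylow 2-subgroup of `C(tx)` has order at most that of a group containing its 2-elements. -/
theorem sylow_bound {E : Subgroup (centralizer ({x} : Set G))}
    (h : ∀ z : centralizer ({x} : Set G), ∀ k, orderOf z = 2 ^ k → z ∈ E) {l g : ℕ}
    (hD : Nat.card (centralizer ({t * x} : Set G)) = 2 ^ l * g) : 2 ^ l ≤ Nat.card E := by
  haveI : Fact (Nat.Prime 2) := ⟨Nat.prime_two⟩
  obtain ⟨Q⟩ : Nonempty (Sylow 2 (centralizer ({t * x} : Set G))) := inferInstance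
  have hdvd : 2 ^ l ∣ Nat.card (Q : Subgroup (centralizer ({t * x} : Set G))) :=
    Q.pow_dvd_card_of_pow_dvd_card (hD ▸ dvd_mul_right _ _)
  refine le_trans (Nat.le_of_dvd Nat.card_pos hdvd) ?_
  let f : ↥(Q : Subgroup (centralizer ({t * x} : Set G))) → E := fun q =>
    ⟨⟨((q : centralizer ({t * x} : Set G)) : G), A.prod_le_cx (q : centralizer ({t * x} : Set G)).2⟩, by
      obtain ⟨k, hk⟩ := IsPGroup.iff_orderOf.1 Q.isPGroup' q
      refine h _ k ?_
      rw [Subgroup.orderOf_mk, Subgroup.orderOf_coe, Subgroup.orderOf_coe, hk]⟩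
  refine Nat.card_le_card_of_injective f fun a b hab => ?_
  have := congrArg (fun e : E => ((e : centralizer ({x} : Set G)) : G)) hab
  exact Subtype.ext (Subtype.ext this)

/-- Non-commuting involutions in `C(x)` force Sylow 2-subgroups of order `2`. -/
theorem noncomm {u v : G} (hu : orderOf u = 2) (hv : orderOf v = 2) (hux : u * x = x * u)
    (hvx : v * x = x * v) (huv : u * v ≠ v * u) {l g d : ℕ} (hg : g = r ∨ (r = 3 ∧ g = 9))
    (hX : Nat.card (centralizer ({x} : Set G)) = r ^ d * (2 ^ l * g)) (hl : 1 ≤ l) : l = 1 := by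
  classical
  haveI := Fact.mk A.hr
  haveI : Fact (Nat.Prime 2) := ⟨Nat.prime_two⟩
  set X := centralizer ({x} : Set G)
  have memX : ∀ g : X, (g : G) * x = x * g := fun g => mem_centralizer_singleton_iff.1 g.2
  have hconj : ∀ a b : X, orderOf a = 2 → orderOf b = 2 → IsConj a b := by
    intro a b ha hb
    obtain ⟨c, hc, he⟩ := A.inv_conj (s := (a : G)) (s' := (b : G))
      (by rw [Subgroup.orderOf_coe, ha]) (by rw [Subgroup.orderOf_coe, hb]) (memX a) (memX b)
    exact isConj_iff.2 ⟨⟨c, mem_centralizer_singleton_iff.2 hc⟩, Subtype.ext he⟩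
  set u' : X := ⟨u, mem_centralizer_singleton_iff.2 hux⟩ with hu'
  set v' : X := ⟨v, mem_centralizer_singleton_iff.2 hvx⟩ with hv'
  have ou : orderOf u' = 2 := by rw [hu', Subgroup.orderOf_mk, hu]
  have ov : orderOf v' = 2 := by rw [hv', Subgroup.orderOf_mk, hv]
  obtain ⟨R⟩ : Nonempty (Sylow r X) := inferInstance
  have hab : ∀ a ∈ (R : Subgroup X), ∀ b ∈ (R : Subgroup X), a * b = b * a := by
    obtain ⟨Q, hQ⟩ := (R.isPGroup'.map X.subtype).exists_le_sylow
    haveI := A.five.ab r A.hr A.hr2 A.not_dvd Q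
    intro a ha b hb
    have h := mul_comm' (⟨(a : G), hQ (Subgroup.mem_map_of_mem _ ha)⟩ : (Q : Subgroup G))
      ⟨(b : G), hQ (Subgroup.mem_map_of_mem _ hb)⟩
    apply Subtype.ext
    simpa [Subtype.ext_iff] using h
  have hprimes : ∀ p : ℕ, p.Prime → p ∣ Nat.card X → p = 2 ∨ p = r := fun p hp h => A.primes_cx hp h
  have hn : (R : Subgroup X).Normal := Grp.sylow_normal hprimes R hab fun D hDn hD z hz y _ => by
    suffices D = ⊥ by rw [this, Subgroup.mem_bot] at hz; simp [hz]
    by_contra hne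
    haveI := hDn
    haveI : Nontrivial D := (Subgroup.nontrivial_iff_ne_bot D).2 hne
    haveI := hD.center_nontrivial
    obtain ⟨w, hw⟩ := exists_prime_orderOf_dvd_card' (G := Subgroup.center D) 2 (by
      obtain ⟨n, hn, hcard⟩ := (hD.to_subgroup (Subgroup.center D)).nontrivial_iff_card.1 inferInstance
      rw [hcard]; exact dvd_pow_self _ hn.ne')
    set Z := (Subgroup.center D).map D.subtype with hZ
    haveI : Z.Normal := inferInstance
    have hwZ : ((w : D) : X) ∈ Z := Subgroup.mem_map_of_mem _ w.2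
    have hw2 : orderOf ((w : D) : X) = 2 := by rw [Subgroup.orderOf_coe, Subgroup.orderOf_coe, hw]
    have hin : ∀ a : X, orderOf a = 2 → a ∈ Z := fun a ha => by
      obtain ⟨c, hc⟩ := isConj_iff.1 (hconj _ a hw2 ha)
      exact hc ▸ (inferInstance : Z.Normal).conj_mem _ hwZ c
    obtain ⟨a, ha, ha'⟩ := Subgroup.mem_map.1 (hin u' ou)
    obtain ⟨b, hb, hb'⟩ := Subgroup.mem_map.1 (hin v' ov)
    refine huv ?_
    have := congrArg (fun e : D => ((e : X) : G)) ((Subgroup.mem_center_iff.1 hb) a)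
    have e1 : ((a : X) : G) = u := congrArg Subtype.val ha'
    have e2 : ((b : X) : G) = v := congrArg Subtype.val hb'
    simp only [Subgroup.coe_mul, e1, e2] at this
    exact this
  obtain ⟨T⟩ : Nonempty (Sylow 2 X) := inferInstance
  have hTc : Nat.card (T : Subgroup X) = 2 ^ l := by
    obtain ⟨i, hi⟩ := T.isPGroup'.exists_card_eq
    obtain ⟨γ, hγ⟩ : ∃ γ, g = r ^ γ := by
      rcases hg with e | ⟨e, e'⟩
      · exact ⟨1, by rw [e, pow_one]⟩
      · exact ⟨2, by rw [e', e]; norm_num⟩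
    rw [hi]
    refine Nat.dvd_antisymm ?_ ?_
    · have h := Subgroup.card_subgroup_dvd_card (T : Subgroup X)
      rw [hi, hX, hγ] at h
      exact (Nat.Coprime.pow i γ A.two_coprime).dvd_of_dvd_mul_right
        ((Nat.Coprime.pow i d A.two_coprime).dvd_of_dvd_mul_left h)
    · rw [← hi]
      exact T.pow_dvd_card_of_pow_dvd_card (hX ▸ dvd_mul_of_dvd_right (dvd_mul_right _ _) _)
  have hco : (Nat.card (R : Subgroup X)).Coprime (Nat.card (T : Subgroup X)) := by
    obtain ⟨i, hi⟩ := R.isPGroup'.exists_card_eq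
    rw [hi, hTc]; exact Nat.Coprime.pow i l A.two_coprime.symm
  have hcomp : Subgroup.IsComplement' (R : Subgroup X) (T : Subgroup X) := by
    refine Subgroup.isComplement'_of_coprime ?_ hco
    refine Nat.dvd_antisymm (hco.mul_dvd_of_dvd_of_dvd (Subgroup.card_subgroup_dvd_card _)
      (Subgroup.card_subgroup_dvd_card _)) ?_
    obtain ⟨i, j, hij⟩ := card_eq_of_primes (r := r) (n := Nat.card X) Nat.card_pos.ne' hprimes
    rw [hij, mul_comm]
    exact Nat.mul_dvd_mul (R.pow_dvd_card_of_pow_dvd_card (hij ▸ dvd_mul_left _ _))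
      (T.pow_dvd_card_of_pow_dvd_card (hij ▸ dvd_mul_right _ _))
  have hlow : ∀ a ∈ (T : Subgroup X), ∀ b ∈ (T : Subgroup X), IsConj a b →
      ∃ τ ∈ (T : Subgroup X), τ * a * τ⁻¹ = b := by
    intro a ha b hb h
    obtain ⟨c, hc⟩ := isConj_iff.1 h
    obtain ⟨⟨⟨ρ, hρ⟩, ⟨τ, hτ⟩⟩, he⟩ := hcomp.2 c
    have he : ρ * τ = c := he
    refine ⟨τ, hτ, ?_⟩
    set e := τ * a * τ⁻¹ with he'
    have heT : e ∈ (T : Subgroup X) := mul_mem (mul_mem hτ ha) (inv_mem hτ)
    have h1 : b * e⁻¹ ∈ (R : Subgroup X) := by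
      have : b * e⁻¹ = ρ * (e * ρ⁻¹ * e⁻¹) := by rw [he', ← hc, ← he]; group
      rw [this]
      exact mul_mem hρ (hn.conj_mem _ (inv_mem hρ) e)
    have h2 : b * e⁻¹ ∈ (T : Subgroup X) := mul_mem hb (inv_mem heT)
    have := Subgroup.orderOf_dvd_natCard _ h1
    have h3 := Nat.eq_one_of_dvd_coprimes hco this (Subgroup.orderOf_dvd_natCard _ h2)
    exact (mul_inv_eq_one.1 (orderOf_eq_one_iff.1 h3)).symm
  set T0 := (T : Subgroup X) with hT0
  haveI : Nontrivial T0 := Finite.one_lt_card_iff_nontrivial.1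
    (by rw [hTc]; exact Nat.one_lt_two_pow (by omega))
  haveI := T.isPGroup'.center_nontrivial
  obtain ⟨z, hz⟩ := exists_prime_orderOf_dvd_card' (G := Subgroup.center (T : Subgroup X)) 2 (by
    obtain ⟨n, hn, hcard⟩ :=
      (T.isPGroup'.to_subgroup (Subgroup.center _)).nontrivial_iff_card.1 inferInstance
    rw [hcard]; exact dvd_pow_self _ hn.ne')
  have hz2 : orderOf ((z : (T : Subgroup X)) : X) = 2 := by
    rw [Subgroup.orderOf_coe, Subgroup.orderOf_coe, hz]
  have hinv : ∀ a : T0, orderOf a = 2 → a = (z : T0) := by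
    intro a ha
    obtain ⟨τ, hτ, he⟩ := hlow _ (z : T0).2 _ a.2
      (hconj _ _ hz2 (by rw [Subgroup.orderOf_coe, ha]))
    have : (⟨τ, hτ⟩ : T0) * (z : T0) * (⟨τ, hτ⟩ : T0)⁻¹ = a := Subtype.ext he
    rw [← this, Subgroup.mem_center_iff.1 z.2, mul_inv_cancel_right]
  haveI := Fintype.ofFinite T0
  have hord : ∀ a : T0, orderOf a = 1 ∨ orderOf a = 2 ∨ orderOf a = 4 := by
    intro a
    obtain ⟨k, hk⟩ := IsPGroup.iff_orderOf.1 T.isPGroup' a
    have := A.pow_four (z := ((a : X) : G)) (k := k)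
      (by rw [Subgroup.orderOf_coe, Subgroup.orderOf_coe, hk]) (memX _)
    interval_cases k <;> simp [hk]
  by_contra hl1
  have h2l : 4 ≤ 2 ^ l := le_trans (by norm_num) (Nat.pow_le_pow_right (by norm_num) (show 2 ≤ l by omega))
  obtain ⟨f, hf⟩ : ∃ f : T0, orderOf f = 4 := by
    by_contra hno
    push Not at hno
    have hle : (Finset.univ : Finset T0) ⊆ {1, (z : T0)} := fun a _ => by
      rcases hord a with h | h | h
      · simp [orderOf_eq_one_iff.1 h]
      · simp [hinv a h]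
      · exact absurd h (hno a)
    have := Finset.card_le_card hle
    rw [Finset.card_univ, ← Nat.card_eq_fintype_card, hTc] at this
    have := this.trans Finset.card_le_two
    omega
  have hK : Nat.card {a : T0 // IsConj f a} + 2 = 2 ^ l := by
    rw [← hTc, Nat.card_eq_fintype_card, Nat.card_eq_fintype_card, Fintype.card_subtype]
    have hne : (1 : T0) ≠ (z : T0) := fun e => by
      have := congrArg (fun a : T0 => orderOf (a : X)) e
      simp only [hz2, OneMemClass.coe_one, orderOf_one] at this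
      omega
    rw [show Fintype.card T0 = (Finset.univ : Finset T0).card from Finset.card_univ.symm,
      ← Finset.card_pair hne, ← Finset.card_union_of_disjoint]
    · refine congrArg Finset.card (Finset.eq_univ_iff_forall.2 fun a => ?_)
      rcases hord a with h | h | h
      · simp [orderOf_eq_one_iff.1 h]
      · simp [hinv a h]
      · refine Finset.mem_union_left _ (Finset.mem_filter.2 ⟨Finset.mem_univ _, ?_⟩)
        obtain ⟨c, hc, hce⟩ := A.four_conj (f := ((f : X) : G)) (f' := ((a : X) : G))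
          (by rw [Subgroup.orderOf_coe, Subgroup.orderOf_coe, hf])
          (by rw [Subgroup.orderOf_coe, Subgroup.orderOf_coe, h]) (memX _) (memX _)
        obtain ⟨τ, hτ, he⟩ := hlow _ f.2 _ a.2
          (isConj_iff.2 ⟨⟨c, mem_centralizer_singleton_iff.2 hc⟩, Subtype.ext hce⟩)
        exact isConj_iff.2 ⟨⟨τ, hτ⟩, Subtype.ext he⟩
    · rw [Finset.disjoint_left]
      intro a ha hb
      simp only [Finset.mem_filter, Finset.mem_univ, true_and] at ha
      have h4 : orderOf a = 4 := by rw [← orderOf_isConj ha, hf]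
      simp only [Finset.mem_insert, Finset.mem_singleton] at hb
      rcases hb with e | e
      · rw [e, orderOf_one] at h4; omega
      · rw [e, ← Subgroup.orderOf_coe, hz2] at h4; omega
  have hC : 4 ≤ Nat.card (centralizer ({f} : Set T0)) := by
    rw [← hf]
    exact Nat.le_of_dvd Nat.card_pos
      (Subgroup.orderOf_dvd_natCard _ (mem_centralizer_singleton_iff.2 rfl))
  have hmul := CfsgLib.Char.card_conj_class_mul_card_centralizer f
  rw [hTc] at hmul
  nlinarith

/-- The shape of the centralisers. -/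
theorem shape {ρ : ℕ} (I : Idx M t ρ) : ∃ a l g d : ℕ, (g = r ∨ (r = 3 ∧ g = 9)) ∧
    Nat.card (centralizer ({t} : Set G)) = 2 ^ a * g ∧
    Nat.card (centralizer ({t * x} : Set G)) = 2 ^ l * g ∧
    Nat.card (centralizer ({x} : Set G)) = r ^ d * (2 ^ l * g) ∧
    r ^ d ∣ ρ ∧
    ((l = 1 ∧ (d = 0 → ¬ r ∣ ρ)) ∨
      (l = 2 ∧ r = 3 ∧ d = 1 ∧ ∀ u v : G, orderOf u = 2 → orderOf v = 2 → u * x = x * u →
        v * x = x * v → u * v = v * u)) := by
  classical
  haveI : Fact (Nat.Prime 2) := ⟨Nat.prime_two⟩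
  obtain ⟨a, l, g, d, hl, hg, hc, hD, hd, hX⟩ := A.orders
  obtain ⟨hρd, hρr⟩ := A.r_parts I hg hc hX
  refine ⟨a, l, g, d, hg, hc, hD, hX, hρd, ?_⟩
  by_cases hcomm : ∀ u v : G, orderOf u = 2 → orderOf v = 2 → u * x = x * u → v * x = x * v →
      u * v = v * u
  swap
  · push Not at hcomm
    obtain ⟨u, v, hu, hv, hux, hvx, hne⟩ := hcomm
    exact Or.inl ⟨A.noncomm hu hv hux hvx hne hg hX hl, fun h0 h => hρr h h0⟩
  set X := centralizer ({x} : Set G)
  obtain ⟨E, hEn, hE, hEc⟩ := A.exists_elem_group hcomm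
  rw [hd] at hEc
  obtain ⟨k, hk⟩ := card_pow_two_of_exp (H := E) fun w => Subtype.ext ((hE _).1 w.2)
  have key : (∀ f : G, f * x = x * f → orderOf f ≠ 4) → 2 ^ l ≤ Nat.card E := fun h4 => by
    refine A.sylow_bound (fun z j hz => ?_) hD
    have hzG : orderOf (z : G) = 2 ^ j := by rw [Subgroup.orderOf_coe, hz]
    have := A.pow_four hzG (mem_centralizer_singleton_iff.1 z.2)
    rw [hE, ← pow_two, ← orderOf_dvd_iff_pow_eq_one, hz]
    interval_cases j
    · exact one_dvd _
    · exact dvd_rfl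
    · exact absurd (by rw [hzG]; norm_num) (h4 z (mem_centralizer_singleton_iff.1 z.2))
  rcases pow_add_one A.r_mem (hEc.symm.trans hk) with ⟨rfl, rfl⟩ | ⟨hr3, rfl, rfl⟩
  · left
    have hr : ¬ r ∣ ρ := fun h => hρr h rfl
    refine ⟨?_, fun _ => hr⟩
    obtain ⟨p, hp, hpρ⟩ := Nat.exists_prime_and_dvd I.ne_one
    haveI := Fact.mk hp
    have hp2 : p ≠ 2 := fun e => Nat.not_even_iff_odd.2 I.odd (even_iff_two_dvd.2 (e ▸ hpρ))
    obtain ⟨u, hu⟩ := exists_prime_orderOf_dvd_card' (G := G) p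
      (I.card ▸ (hpρ.mul_left M).mul_right _)
    have h4 := (A.extra hp hp2 (fun e => hr (e ▸ hpρ))
      (fun h => hp.ne_one (Nat.eq_one_of_dvd_coprimes I.cop hpρ h)) hu).2.2.2
    have := key h4
    rw [hk] at this
    have := (Nat.pow_le_pow_iff_right (show 1 < 2 by norm_num)).1 this
    omega
  · refine Or.inr ⟨?_, hr3, rfl, hcomm⟩
    rw [hr3, pow_one] at hd
    have := key fun f hf h => A.no_four_klein hcomm hd h hf
    rw [hk] at this
    have h1 := (Nat.pow_le_pow_iff_right (show 1 < 2 by norm_num)).1 this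
    -- the three involutions lie in `C(tx)`
    have hle : E.map X.subtype ≤ centralizer ({t * x} : Set G) := by
      rintro _ ⟨w, hw, rfl⟩
      refine A.mem_prod.2 ⟨?_, mem_centralizer_singleton_iff.1 w.2⟩
      by_cases hw1 : w = 1
      · simp [hw1]
      · exact hcomm _ _ (orderOf_eq_prime (by rw [pow_two]; exact congrArg Subtype.val ((hE w).1 hw))
          fun e => hw1 (Subtype.ext e)) A.five.ord_t (mem_centralizer_singleton_iff.1 w.2) A.comm.symm
    have h4 := Subgroup.card_dvd_of_le hle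
    rw [Subgroup.card_map_of_injective X.subtype_injective, hk, hD] at h4
    have hgo : Nat.Coprime (2 ^ 2) g := by
      rcases hg with e | ⟨-, e⟩ <;> rw [e]
      · exact A.four_coprime
      · norm_num
    have := (Nat.pow_dvd_pow_iff_le_right (show 1 < 2 by norm_num)).1 (hgo.dvd_of_dvd_mul_right h4)
    omega

/-- With a Sylow 2-subgroup of order `2`, every 2-element of `C(tx)` is `1` or `t`. -/
theorem two_elts {g : ℕ} (hg : g = r ∨ (r = 3 ∧ g = 9))
    (hD : Nat.card (centralizer ({t * x} : Set G)) = 2 * g) {v : G} {k : ℕ}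
    (hv : v ∈ centralizer ({t * x} : Set G)) (hk : orderOf v = 2 ^ k) : v ∈ zpowers t := by
  haveI : Fact (Nat.Prime 2) := ⟨Nat.prime_two⟩
  set D := centralizer ({t * x} : Set G)
  have hgo : g % 2 = 1 := by
    rcases hg with e | ⟨-, e⟩
    · rw [e]; exact A.r_odd
    · omega
  have h := mem_zpowers_of_central (H := D) (z := ⟨t, A.tx_mem⟩) (v := ⟨v, hv⟩)
    (by rw [Subgroup.orderOf_mk, A.five.ord_t])
    (fun e => Subtype.ext (A.mem_prod.1 e.2).1) (fun Q => ?_) (k := k)
    (by rw [Subgroup.orderOf_mk, hk])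
  · obtain ⟨i, hi⟩ := mem_zpowers_iff.1 h
    exact mem_zpowers_iff.2 ⟨i, by simpa using congrArg Subtype.val hi⟩
  · obtain ⟨i, hi⟩ := Q.isPGroup'.exists_card_eq
    have h1 := Subgroup.card_subgroup_dvd_card (Q : Subgroup D)
    rw [hi, hD] at h1
    have h2 : (2 : ℕ) ∣ 2 ^ i := by
      rw [← hi]
      exact Q.dvd_card_of_dvd_card (hD.symm ▸ dvd_mul_right 2 g)
    have h3 := ((Nat.coprime_two_left.2 (Nat.odd_iff.2 hgo)).pow_left i).dvd_of_dvd_mul_right h1
    rw [hi]
    exact Nat.dvd_antisymm h3 h2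

end At

end CfsgLib.ThreeCC
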