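import Cfsg.Agent.ThreeCC.Base
import Cfsg.Agent.ThreeCC.Arith
import Cfsg.Agent.Blocks.Congr

/-!
The case in which both order `4` families are standard.
-/

set_option autoImplicit false
set_option linter.unusedSectionVars false
set_option linter.style.haveILetI false

namespace CfsgLib.ThreeCC

open CfsgLib.Char
open scoped ComplexConjugate Classical

universe u

theorem std_small {m1 m2 m3 p w C : ℤ} (h1 : 2 ≤ m1) (h2 : 2 ≤ m2) (h3 : 2 ≤ m3) (hne : m2 ≠ m3)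
    (hC : C ≤ 12)
    (h : 2 * (1 + (p - 1) ^ 2 + m1 * p ^ 2 + m2 * (2 - p + w) ^ 2 + m3 * (2 - p - w) ^ 2) + w ^ 2 ≤
      2 * C) :
    m1 + 6 ≤ C ∧ ((p = 1 ∧ ((w = 0 ∧ m1 + m2 + m3 < C) ∨ ((m2 = 2 ∨ m3 = 2) ∧ m1 + 10 ≤ C))) ∨
      p = 2) := by
  have a1 := mul_le_mul_of_nonneg_right h1 (sq_nonneg p)
  have a2 := mul_le_mul_of_nonneg_right h2 (sq_nonneg (2 - p + w))
  have a3 := mul_le_mul_of_nonneg_right h3 (sq_nonneg (2 - p - w))
  have hp : -1 ≤ p ∧ p ≤ 2 := by constructor <;> nlinarith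
  have hw : -3 ≤ w ∧ w ≤ 3 := by constructor <;> nlinarith
  obtain ⟨p1, p2⟩ := hp
  obtain ⟨w1, w2⟩ := hw
  interval_cases p <;> interval_cases w <;> norm_num at h ⊢ <;> omega

theorem no_two_pow {a b β : ℕ} (ha : 2 ≤ a) (hb : 2 ≤ b) (hne : a ≠ b) (hab : a + b ≤ 9) :
    4 * a * b + a + b ≠ 2 ^ β := by
  intro h
  have h7 : β < 7 := by
    by_contra hlt
    have := Nat.pow_le_pow_right (show 0 < 2 by norm_num) (show 7 ≤ β by omega)
    nlinarith
  have ha7 : a ≤ 7 := by omega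
  have hb7 : b ≤ 7 := by omega
  interval_cases a <;> interval_cases b <;> interval_cases β <;> omega

variable {G : Type u} [Group G] [Fintype G] {A₁ A₂ A₃ : Subgroup G} {S : Sys A₁ A₂ A₃}

/-- Congruence of integer character values at a product with an element of prime power order. -/
theorem cong_int {p : ℕ} (hp : p.Prime) {y z : G} (hc : Commute y z) {n : ℕ} (hy : y ^ p ^ n = 1)
    {m : ℕ} (hm : ¬ p ∣ m) (hz : z ^ m = 1) (V : IntAt (y * z)) (W : IntAt z) {ψ : G → ℂ}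
    (hψ : Cfsg.IsIrrCharacter G ψ) : (p : ℤ) ∣ V.v ψ - W.v ψ := by
  obtain ⟨I, hI⟩ := CfsgLib.Block.exists_isPModular hp
  haveI := CfsgLib.Block.isPrime_of_isPModular hI
  have h := CfsgLib.Block.char_cong_pPart hI (IsIrrCharacter.isCharacter hψ) hc hy hm hz
  rw [V.spec ψ hψ, W.spec ψ hψ, ← Int.cast_sub] at h
  exact (CfsgLib.Block.memLocalIdeal_intCast_iff hI).1 h

namespace Base

variable (B : Base S)
include B

theorem cong_tx_t (V : IntAt (B.t * B.x)) (W : IntAt B.t) {ψ : G → ℂ}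
    (hψ : Cfsg.IsIrrCharacter G ψ) : (B.r : ℤ) ∣ V.v ψ - W.v ψ := by
  let V' : IntAt (B.x * B.t) := ⟨V.v, fun φ hφ => by rw [B.at_.comm]; exact V.spec φ hφ⟩
  show (B.r : ℤ) ∣ V'.v ψ - W.v ψ
  refine cong_int B.at_.hr B.at_.comm (n := 1) ?_ (m := 2) (fun h => ?_) ?_ V' W hψ
  · rw [pow_one, ← B.at_.ord_x, pow_orderOf_eq_one]
  · exact B.at_.hr2 ((Nat.prime_dvd_prime_iff_eq B.at_.hr Nat.prime_two).1 h)
  · rw [← B.at_.five.ord_t, pow_orderOf_eq_one]

theorem card_tx {l g : ℕ} (h : Nat.card (Subgroup.centralizer ({B.t * B.x} : Set G)) = 2 ^ l * g)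
    (V : IntAt (B.t * B.x)) :
    1 + (S.P1 V - 1) ^ 2 + S.F1.m * S.P1 V ^ 2 + S.F2.m * S.P2 V ^ 2 + S.F3.m * S.P3 V ^ 2 +
      ∑ ψ ∈ S.R, V.v ψ ^ 2 = (2 ^ l * g : ℕ) := by
  rw [← h]; exact S.col_self B.out_tx V

theorem m_ne : (S.F2.m : ℤ) ≠ S.F3.m := fun h => S.hyp.nine_le.2.2 (by
  rw [← S.F2.hm, ← S.F3.hm, Nat.cast_injective h])

theorem not_three_dvd (h3 : B.r = 3) : ¬ 3 ∣ Nat.card A₂ ∧ ¬ 3 ∣ Nat.card A₃ := by
  have := B.at_.not_dvd
  rw [h3] at this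
  exact ⟨fun h => this ((h.mul_left _).mul_right _), fun h => this (h.mul_left _)⟩

theorem N_ge (h3 : B.r = 3) : 221 ≤ Nat.card A₂ * Nat.card A₃ := by
  obtain ⟨h2', h3', hne⟩ := S.hyp.nine_le
  have e2 := S.hyp.mod2
  have e3 := S.hyp.swap.mod2
  obtain ⟨a2, a3⟩ := B.not_three_dvd h3
  set a := Nat.card A₂
  set b := Nat.card A₃
  have ha : 13 ≤ a := by
    by_contra hlt
    interval_cases a <;> omega
  have hb : 13 ≤ b := by
    by_contra hlt
    interval_cases b <;> omega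
  rcases eq_or_lt_of_le ha with e | h
  · rw [← e]; omega
  · calc 221 = 17 * 13 := rfl
      _ ≤ _ := Nat.mul_le_mul (by omega) hb

set_option maxHeartbeats 1000000 in
theorem false_of_std (hq : S.qv = 0) (hq' : S.swap.qv = 0) (hrv : S.rv = 0) (hrv' : S.swap.rv = 0)
    (he : S.F2.e = 0) (he' : S.F3.e = 0) (h22 : S.sq2 = 2) (h33 : S.swap.sq2 = 2)
    (h23 : ∑ ψ ∈ S.R, S.F2.cst ψ * S.F3.cst ψ = -2) : False := by
  have hm1 : (2 : ℤ) ≤ S.F1.m := by exact_mod_cast S.F1.two_le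
  have hm2 : (2 : ℤ) ≤ S.F2.m := by exact_mod_cast S.F2.two_le
  have hm3 : (2 : ℤ) ≤ S.F3.m := by exact_mod_cast S.F3.two_le
  have hn1 := S.F1.hm
  have hn2 := S.F2.hm
  have hn3 := S.F3.hm
  have hopp : ∀ ψ ∈ S.R, S.F3.cst ψ = - S.F2.cst ψ := by
    have hz : ∑ ψ ∈ S.R, (S.F2.cst ψ + S.F3.cst ψ) ^ 2 = 0 := by
      simp only [add_sq, Finset.sum_add_distrib, mul_assoc, ← Finset.mul_sum]
      rw [show ∑ ψ ∈ S.R, S.F2.cst ψ ^ 2 = S.sq2 from rfl, h22, h23,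
        show ∑ ψ ∈ S.R, S.F3.cst ψ ^ 2 = S.swap.sq2 by simp only [Sys.sq2, S.swap_R]; rfl, h33]
      norm_num
    intro ψ hψ
    have := pow_eq_zero_iff (n := 2) (by norm_num) |>.1
      ((Finset.sum_eq_zero_iff_of_nonneg fun ψ _ => sq_nonneg _).1 hz ψ hψ)
    linarith
  have col : ∀ {g : G}, Out A₁ A₂ A₃ g → ∀ V : IntAt g,
      2 * (1 + (S.P1 V - 1) ^ 2 + S.F1.m * S.P1 V ^ 2 + S.F2.m * (2 - S.P1 V + S.W2 V) ^ 2 +
        S.F3.m * (2 - S.P1 V - S.W2 V) ^ 2) + S.W2 V ^ 2 ≤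
      2 * (Nat.card (Subgroup.centralizer ({g} : Set G)) : ℤ) := by
    intro g hg V
    have h2 := S.orth2_int hg V
    rw [hq, hrv, he] at h2
    have h3 := S.swap.orth2_int (g := g) ⟨hg.1, hg.2.2, hg.2.1⟩ V
    rw [hq', hrv', show S.swap.F2.e = 0 from he', S.swap_P1, S.swap_P2, S.swap_W2,
      Finset.sum_congr rfl fun ψ hψ => by rw [hopp ψ hψ, neg_mul], Finset.sum_neg_distrib] at h3
    have e2 : S.P2 V = 2 - S.P1 V + S.W2 V := by
      rcases S.F2.hε with e | e <;> rw [e] at h2 <;> linear_combination -h2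
    have e3 : S.P3 V = 2 - S.P1 V - S.W2 V := by
      rw [show S.swap.F2.ε = S.F3.ε from rfl] at h3
      simp only [Sys.W2]
      rcases S.F3.hε with e | e <;> rw [e] at h3 <;> linear_combination -h3
    have hcs := Finset.sum_mul_sq_le_sq_mul_sq S.R (fun ψ => S.F2.cst ψ) fun ψ => V.v ψ
    rw [show ∑ ψ ∈ S.R, S.F2.cst ψ ^ 2 = S.sq2 from rfl, h22] at hcs
    have h := S.col_self hg V
    rw [e2, e3] at h
    simp only [Sys.W2] at h ⊢
    linarith
  -- the degree of the special character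
  have hy1 := B.χ_mod1
  have hy2 := B.χ_mod2
  have hy3 : (Nat.card A₃ : ℤ) ∣ (S.y : ℤ) - S.δ * (S.swap.qv - 1) := by
    have h := S.F3.cst_dvd S.swap.χ_rest2 (S.χ_one)
    rwa [show S.F3.cst S.swap.χ = S.δ * (S.swap.qv - 1) from S.swap.χ_cst_eq] at h
  rw [hq] at hy2
  rw [hq'] at hy3
  obtain ⟨n2ge, n3ge, -⟩ := S.hyp.nine_le
  have hX2 : (Nat.card A₂ : ℤ) ∣ S.δ * S.X := by rw [B.X_cast]; convert hy2 using 1; ring
  have hX3 : (Nat.card A₃ : ℤ) ∣ S.δ * S.X := by rw [B.X_cast]; convert hy3 using 1; ring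
  set N := Nat.card A₂ * Nat.card A₃ with hN
  have hdiv : (N : ℤ) ∣ S.δ * S.X := by
    rw [hN, Nat.cast_mul]
    exact IsCoprime.mul_dvd ((Nat.isCoprime_iff_coprime).2 S.hyp.co23) hX2 hX3
  have hy2' : 2 ≤ S.y := by
    by_contra hlt
    have hy : S.y = 1 := by have := S.y_pos; omega
    rw [B.X_cast, hy] at hX2
    rcases S.hδ with e | e
    · rw [e] at hX2
      have := Int.le_of_dvd (by norm_num) hX2
      omega
    · exact S.X_ne (by rw [Sys.X, e, hy]; norm_num)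
  obtain ⟨Vt⟩ := B.intAt_t
  have hcolt : 1 + B.av ^ 2 + S.F1.m * (1 + S.δ * B.av) ^ 2 ≤ (B.c : ℤ) := by
    have h := S.col_self B.out_t Vt
    rw [B.v_t Vt] at h
    have hs : (1 + S.δ * B.av - 1) ^ 2 = B.av ^ 2 := by rcases S.hδ with e | e <;> rw [e] <;> ring
    rw [hs] at h
    have : 0 ≤ ∑ ψ ∈ S.R, Vt.v ψ ^ 2 := Finset.sum_nonneg fun ψ _ => sq_nonneg _
    have p2 := mul_nonneg (Int.natCast_nonneg S.F2.m) (sq_nonneg (S.P2 Vt))
    have p3 := mul_nonneg (Int.natCast_nonneg S.F3.m) (sq_nonneg (S.P3 Vt))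
    rw [show (Nat.card (Subgroup.centralizer ({B.t} : Set G)) : ℤ) = (B.c : ℤ) from rfl] at h
    linarith
  let E : StdEq :=
    { c := B.c, r := B.ρ, N := N, m := S.F1.m, y := S.y, a := B.av, X := S.δ * S.X, δ := S.δ
      hm := S.F1.two_le
      hr := B.odd.pos
      hN := S.hyp.n23_ge
      hδ := S.hδ
      hX := rfl
      hy := by exact_mod_cast S.y_pos
      hdiv := hdiv
      hXpos := B.δX_pos hy2'
      eq := B.eqn
      col := hcolt
      ord := le_of_le_of_eq B.small (by rw [← hn1, hN]; ring)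
      ord' := lt_of_eq_of_lt (by rw [← hn1, hN]; ring) B.big }
  have hρ1 : B.ρ ≠ 1 := E.r_ne_one
  have hρodd := Nat.odd_iff.1 B.odd
  have hρ3 : 3 ≤ B.ρ := by omega
  have hsq : 348 * B.ρ ^ 2 ≤ 1872 * (2 * S.F1.m + 1) := E.r_sq
  obtain ⟨a, l, g, d, hg, hc, hD, hX', hρd, hl⟩ := B.at_.shape (B.idx hρ1)
  -- `C(t)` has `r`-part `r`
  rcases hg with rfl | ⟨hr3, rfl⟩
  swap
  · have h1 := B.at_.ct_le (B.idx hρ1) ⟨a, hc⟩ hr3
    have h2 : 289 ≤ B.c := E.c_large hρ3 (B.N_ge hr3)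
    exact absurd (h2.trans h1) (by norm_num)
  obtain ⟨V⟩ := B.intAt_tx
  have hcol := col B.out_tx V
  rw [hD] at hcol
  have hC12 : 2 ^ l * B.r ≤ 12 := by
    rcases hl with ⟨rfl, -⟩ | ⟨rfl, h, -⟩
    · rcases B.at_.r_mem with e | e <;> rw [e] <;> norm_num
    · rw [h]; norm_num
  obtain ⟨hm16, hP⟩ := std_small hm1 hm2 hm3 B.m_ne (by exact_mod_cast hC12) hcol
  have hm16' : S.F1.m + 6 ≤ 2 ^ l * B.r := by exact_mod_cast hm16
  have hρr : B.ρ = B.r := by
    rcases hl with ⟨rfl, hd⟩ | ⟨rfl, hr, rfl, -⟩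
    · rcases B.at_.r_mem with e | e
      · rw [e] at hm16'; omega
      rw [e] at hm16' hρd hd ⊢
      have : B.ρ ≤ 6 := by
        by_contra hlt
        have := Nat.pow_le_pow_left (show 7 ≤ B.ρ by omega) 2
        omega
      rcases (by omega : B.ρ = 3 ∨ B.ρ = 5) with h | h
      · exfalso
        obtain ⟨u, hu, ⟨Vu⟩, hcu⟩ := B.extra_elem Nat.prime_three (h ▸ dvd_rfl) (by omega)
        rw [h] at hcu
        have hle : Nat.card (Subgroup.centralizer ({u} : Set G)) ≤ 3 := Nat.le_of_dvd (by norm_num) hcu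
        obtain ⟨h6, -⟩ := std_small hm1 hm2 hm3 B.m_ne (by exact_mod_cast hle.trans (by norm_num))
          (col hu Vu)
        have h6' : S.F1.m + 6 ≤ Nat.card (Subgroup.centralizer ({u} : Set G)) := by exact_mod_cast h6
        omega
      · exact h
    · rw [hr] at hm16' hρd ⊢
      have : B.ρ ≤ 8 := by
        by_contra hlt
        have := Nat.pow_le_pow_left (show 9 ≤ B.ρ by omega) 2
        omega
      rw [pow_one] at hρd
      omega
  -- the degree is a power of 2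
  have hρ8 : B.ρ ≤ 8 := by rcases B.at_.r_mem with e | e <;> omega
  have hδ2 : (S.δ).natAbs = 1 := by rcases S.hδ with e | e <;> rw [e] <;> rfl
  have hyco : ∀ n : ℕ, ∀ k : ℤ, k.natAbs = 1 → (n : ℤ) ∣ (S.y : ℤ) - k → S.y.Coprime n := by
    intro n k hk hn
    refine Nat.coprime_of_dvd fun p hp h1 h2 => ?_
    have h3 : (p : ℤ) ∣ (S.y : ℤ) - k := (Int.natCast_dvd_natCast.2 h2).trans hn
    have h4 : (p : ℤ) ∣ k := by
      have := (Int.natCast_dvd_natCast.2 h1).sub h3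
      simpa using this
    have h5 := Int.natAbs_dvd_natAbs.2 h4
    rw [hk, Int.natAbs_natCast, Nat.dvd_one] at h5
    exact hp.ne_one h5
  have hyN : S.y.Coprime N := by
    refine Nat.Coprime.mul_right (hyco _ (-S.δ) (by simpa using hδ2) ?_)
      (hyco _ (-S.δ) (by simpa using hδ2) ?_)
    · simpa using hy2
    · simpa using hy3
  have hyρc : S.y ∣ B.ρ * B.c := by
    have h := B.y_dvd_card
    rw [B.card, show Nat.card A₁ * Nat.card A₂ * Nat.card A₃ * B.ρ *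
      Nat.card (Subgroup.centralizer ({B.t} : Set G)) = (Nat.card A₁ * N) * (B.ρ * B.c) by
        simp only [hN, Base.c]; ring] at h
    exact (Nat.Coprime.mul_right (hyco _ S.δ hδ2 hy1) hyN).dvd_of_dvd_mul_left h
  have ha0 : B.av = 0 := E.a_eq_zero hρ8 (by simpa [E] using hyρc) (by simpa [E] using hyN)
  obtain ⟨z, hz1, hz2, hz3⟩ := E.of_a_zero ha0
  have hz1' : S.δ * S.X = (N : ℤ) * z := hz1
  have hz2' : (B.c : ℤ) * z = (B.ρ : ℤ) * S.y := hz2
  have hy : 2 ^ a * z = S.y := by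
    have h : (B.c : ℕ) * z = B.ρ * S.y := by exact_mod_cast hz2'
    rw [Base.c, hc, hρr, mul_assoc, mul_left_comm] at h
    exact Nat.eq_of_mul_eq_mul_left B.at_.hr.pos h
  have hz : z = 1 := by
    rcases (Nat.dvd_prime B.at_.hr).1 (hρr ▸ hz3 : z ∣ B.r) with e | e
    · exact e
    · exfalso
      rw [B.X_cast, ← hy] at hz1'
      have : (B.r : ℤ) ∣ S.δ := by
        rw [e] at hz1'
        exact ⟨(N : ℤ) - 2 ^ a, by push_cast at hz1'; linear_combination hz1'⟩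
      have h5 := Int.natAbs_dvd_natAbs.2 this
      rw [hδ2, Int.natAbs_natCast, Nat.dvd_one] at h5
      exact B.at_.hr.ne_one h5
  subst hz
  rw [mul_one] at hy
  rw [Nat.cast_one, mul_one, B.X_cast, ← hy] at hz1'
  have hN1 : N = 2 ^ a + 1 := by
    have hmod : N % 4 = 1 := by
      rw [hN, Nat.mul_mod, S.hyp.mod2, S.hyp.swap.mod2]
    have ha2 : 2 ≤ a := by
      by_contra hlt
      have := Nat.pow_le_pow_right (show 0 < 2 by norm_num) (show a ≤ 1 by omega)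
      have := S.hyp.n23_ge
      rcases S.hδ with e | e <;> rw [e] at hz1' <;> omega
    have h4 : (4 : ℕ) ∣ 2 ^ a := (show 2 ^ 2 ∣ 2 ^ a from pow_dvd_pow 2 ha2)
    rcases S.hδ with e | e
    · rw [e] at hz1'; omega
    · rw [e] at hz1'; omega
  -- the column at `tx`
  obtain ⟨W⟩ := B.intAt_t
  have hcong := B.cong_tx_t V W S.χ_irr
  rw [S.v_χ B.out_tx.1 V, S.v_χ B.out_t.1 W, B.v_t W, ha0, mul_zero, add_zero, sub_self, mul_zero,
    sub_zero] at hcong
  have hr3 := B.at_.three_le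
  rcases hP with ⟨-, hcase⟩ | hP2
  swap
  · rw [hP2] at hcong
    have h5 := Int.natAbs_dvd_natAbs.2 hcong
    rw [Int.natAbs_mul, hδ2, Int.natAbs_natCast] at h5
    norm_num at h5
    omega
  rcases hcase with ⟨-, hlt⟩ | ⟨hm, hlt⟩
  · have hlt' : S.F1.m + S.F2.m + S.F3.m < 2 ^ l * B.r := by exact_mod_cast hlt
    have := S.F1.two_le
    have hpow : 4 * S.F2.m * S.F3.m + S.F2.m + S.F3.m = 2 ^ (a - 2) := by
      have ha2 : 2 ≤ a := by
        by_contra h
        have := Nat.pow_le_pow_right (show 0 < 2 by norm_num) (show a ≤ 1 by omega)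
        have := S.hyp.n23_ge
        omega
      have h4 : 2 ^ a = 4 * 2 ^ (a - 2) := by
        rw [show 4 = 2 ^ 2 from rfl, ← pow_add]; congr 1; omega
      have e : (S.F2.m * 4 + 1) * (S.F3.m * 4 + 1) =
          4 * (4 * S.F2.m * S.F3.m + S.F2.m + S.F3.m) + 1 := by ring
      rw [hN, ← hn2, ← hn3, e, h4] at hN1
      clear * - hN1
      omega
    exact no_two_pow S.F2.two_le S.F3.two_le (fun h => B.m_ne (by exact_mod_cast h)) (by omega) hpow
  · have hlt' : S.F1.m + 10 ≤ 2 ^ l * B.r := by exact_mod_cast hlt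
    have := S.F1.two_le
    have h9 : B.r ≠ 3 := fun e => by
      obtain ⟨a2, a3⟩ := B.not_three_dvd e
      rcases hm with hm | hm
      · have : S.F2.m = 2 := by exact_mod_cast hm
        omega
      · have : S.F3.m = 2 := by exact_mod_cast hm
        omega
    rcases hl with ⟨rfl, -⟩ | ⟨-, hr, -⟩
    · rcases B.at_.r_mem with e | e
      · exact h9 e
      · rw [e] at hlt'; omega
    · exact h9 hr

end Base

end CfsgLib.ThreeCC
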