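import Cfsg.Agent.ThreeCC.Fuse

/-!
The centralisers of the involution, of the element of order `r` and of their product.
-/

set_option autoImplicit false
set_option linter.unusedSectionVars false
set_option linter.style.haveILetI false

namespace CfsgLib.ThreeCC

open Subgroup

universe u

variable {G : Type u} [Group G] [Finite G]

/-- `r ^ d + 1` is a power of `2` only for `d = 0` or `3 + 1 = 4`. -/
theorem pow_add_one {r d k : ℕ} (hr : r = 3 ∨ r = 5) (h : r ^ d + 1 = 2 ^ k) :
    (d = 0 ∧ k = 1) ∨ (r = 3 ∧ d = 1 ∧ k = 2) := by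
  by_cases hk : k < 3
  · have h2k : 2 ^ k ≤ 2 ^ 2 := Nat.pow_le_pow_right (by norm_num) (by omega)
    have h3d : 3 ^ d ≤ r ^ d := Nat.pow_le_pow_left (by omega) d
    have hd : d ≤ 1 := by
      by_contra hlt
      have := Nat.pow_le_pow_right (show 0 < 3 by norm_num) (show 2 ≤ d by omega)
      omega
    interval_cases d <;> rcases hr with rfl | rfl <;> interval_cases k <;> simp_all
  exfalso
  have h8 : r ^ d % 8 = 7 := by
    have : 8 ∣ 2 ^ k := by rw [show 8 = 2 ^ 3 from rfl]; exact pow_dvd_pow 2 (by omega)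
    omega
  rcases Nat.even_or_odd' d with ⟨i, rfl | rfl⟩ <;> rcases hr with rfl | rfl <;>
    simp [pow_succ, pow_mul, Nat.mul_mod, Nat.pow_mod] at h8

theorem card_pow_two_of_exp {H : Type u} [Group H] [Finite H] (h : ∀ a : H, a * a = 1) :
    ∃ k, Nat.card H = 2 ^ k := by
  haveI : Fact (Nat.Prime 2) := ⟨Nat.prime_two⟩
  exact (show IsPGroup 2 H from fun a => ⟨1, by rw [pow_one, pow_two, h]⟩).exists_card_eq

theorem card_eq_of_primes {r n : ℕ} (hn : n ≠ 0)
    (h : ∀ p : ℕ, p.Prime → p ∣ n → p = 2 ∨ p = r) : ∃ a b, n = 2 ^ a * r ^ b := by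
  induction n using Nat.recOnMul with
  | zero => exact absurd rfl hn
  | one => exact ⟨0, 0, by simp⟩
  | prime p hp =>
    rcases h p hp dvd_rfl with rfl | rfl
    · exact ⟨1, 0, by simp⟩
    · exact ⟨0, 1, by simp⟩
  | mul x y hx hy =>
    obtain ⟨x0, y0⟩ := mul_ne_zero_iff.1 hn
    obtain ⟨a, b, e1⟩ := hx x0 fun p hp hd => h p hp (hd.mul_right y)
    obtain ⟨a', b', e2⟩ := hy y0 fun p hp hd => h p hp (hd.mul_left x)
    exact ⟨a + a', b + b', by rw [e1, e2, pow_add, pow_add]; ring⟩

namespace At

variable {M : ℕ} {t : G} {r : ℕ} {x : G} (A : At M t r x)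
include A

theorem mem_prod {g : G} :
    g ∈ centralizer ({t * x} : Set G) ↔ g * t = t * g ∧ g * x = x * g := by
  rw [mem_centralizer_singleton_iff]
  constructor
  · intro h
    have hx : g * x = x * g := by
      have e := pow_succ_mul A.r_odd A.five.ord_t A.ord_x A.comm.symm
      rw [← e]
      exact ((show Commute g (t * x) from h).pow_right (r + 1)).eq
    refine ⟨mul_right_cancel (b := x) ?_, hx⟩
    rw [mul_assoc, h, mul_assoc t g x, hx, mul_assoc]
  · rintro ⟨h1, h2⟩
    exact ((show Commute g t from h1).mul_right (show Commute g x from h2)).eq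

theorem prod_le_ct : centralizer ({t * x} : Set G) ≤ centralizer ({t} : Set G) := fun _ hg =>
  mem_centralizer_singleton_iff.2 (A.mem_prod.1 hg).1

theorem prod_le_cx : centralizer ({t * x} : Set G) ≤ centralizer ({x} : Set G) := fun _ hg =>
  mem_centralizer_singleton_iff.2 (A.mem_prod.1 hg).2

theorem tx_mem : t ∈ centralizer ({t * x} : Set G) := A.mem_prod.2 ⟨rfl, A.comm.symm⟩

theorem x_mem : x ∈ centralizer ({t * x} : Set G) := A.mem_prod.2 ⟨A.comm, rfl⟩

theorem t_mem_cx : t ∈ centralizer ({x} : Set G) := A.prod_le_cx A.tx_mem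

theorem x_mem_ct : x ∈ centralizer ({t} : Set G) := A.prod_le_ct A.x_mem

/-- `C(x)` permutes its involutions transitively, with stabiliser `C(tx)`. -/
theorem card_invol :
    Nat.card {s : centralizer ({x} : Set G) // orderOf (s : G) = 2} *
      Nat.card (centralizer ({t * x} : Set G)) = Nat.card (centralizer ({x} : Set G)) := by
  set X := centralizer ({x} : Set G)
  have h := CfsgLib.Char.card_conj_class_mul_card_centralizer (⟨t, A.t_mem_cx⟩ : X)
  have e1 : Nat.card {s : X // IsConj (⟨t, A.t_mem_cx⟩ : X) s} =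
      Nat.card {s : X // orderOf (s : G) = 2} := by
    refine Nat.card_congr (Equiv.subtypeEquivRight fun s => ⟨fun hs => ?_, fun hs => ?_⟩)
    · rw [Subgroup.orderOf_coe, ← orderOf_isConj hs, Subgroup.orderOf_mk, A.five.ord_t]
    · obtain ⟨g, hg, he⟩ := A.inv_conj A.five.ord_t hs A.comm.symm
        (mem_centralizer_singleton_iff.1 s.2)
      exact isConj_iff.2 ⟨⟨g, mem_centralizer_singleton_iff.2 hg⟩, Subtype.ext he⟩
  have e2 : Nat.card (centralizer ({(⟨t, A.t_mem_cx⟩ : X)} : Set X)) =
      Nat.card (centralizer ({t * x} : Set G)) := by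
    refine Nat.card_congr
      { toFun := fun g => ⟨((g : X) : G), A.mem_prod.2
          ⟨congrArg Subtype.val (mem_centralizer_singleton_iff.1 g.2),
            mem_centralizer_singleton_iff.1 (g : X).2⟩⟩
        invFun := fun g => ⟨⟨g, mem_centralizer_singleton_iff.2 (A.mem_prod.1 g.2).2⟩,
          mem_centralizer_singleton_iff.2 (Subtype.ext (A.mem_prod.1 g.2).1)⟩
        left_inv := fun g => rfl
        right_inv := fun g => rfl }
  rw [e1, e2] at h
  exact h

theorem odd_invol : Odd (Nat.card {s : centralizer ({x} : Set G) // orderOf (s : G) = 2}) := by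
  have h := Grp.odd_involutions (H := centralizer ({x} : Set G))
    (A.five.ord_t ▸ orderOf_dvd_natCard _ A.t_mem_cx)
  rwa [Nat.card_congr (Equiv.subtypeEquivRight fun s => by rw [Subgroup.orderOf_coe] :
    {s : centralizer ({x} : Set G) // orderOf (s : G) = 2} ≃
      {s : centralizer ({x} : Set G) // orderOf s = 2})]

/-- The orders of the three centralisers. -/
theorem orders : ∃ a l g d : ℕ, 1 ≤ l ∧ (g = r ∨ (r = 3 ∧ g = 9)) ∧
    Nat.card (centralizer ({t} : Set G)) = 2 ^ a * g ∧
    Nat.card (centralizer ({t * x} : Set G)) = 2 ^ l * g ∧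
    Nat.card {s : centralizer ({x} : Set G) // orderOf (s : G) = 2} = r ^ d ∧
    Nat.card (centralizer ({x} : Set G)) = r ^ d * (2 ^ l * g) := by
  haveI := Fact.mk A.hr
  set H := centralizer ({t} : Set G) with hH
  set D := centralizer ({t * x} : Set G) with hD
  obtain ⟨P, hP⟩ := (IsPGroup.of_card (p := r) (n := 1)
    (by rw [Nat.card_zpowers, Subgroup.orderOf_mk, A.ord_x, pow_one]) :
      IsPGroup r (zpowers (⟨x, A.x_mem_ct⟩ : H))).exists_le_sylow
  obtain ⟨hcard, -, hab⟩ := A.sylow_ct P
  set g := Nat.card (P : Subgroup H) with hg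
  have hle : ((P : Subgroup H).map H.subtype) ≤ D := by
    rintro _ ⟨y, hy, rfl⟩
    refine A.mem_prod.2 ⟨mem_centralizer_singleton_iff.1 y.2, ?_⟩
    exact congrArg Subtype.val (hab y hy _ (hP (mem_zpowers _)))
  have hgD : g ∣ Nat.card D := by
    have := Subgroup.card_dvd_of_le hle
    rwa [Subgroup.card_map_of_injective H.subtype_injective] at this
  have hDH : Nat.card D ∣ Nat.card H := Subgroup.card_dvd_of_le A.prod_le_ct
  have hDX : Nat.card D ∣ Nat.card (centralizer ({x} : Set G)) := Subgroup.card_dvd_of_le A.prod_le_cx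
  obtain ⟨a, ha⟩ : ∃ a, Nat.card H = 2 ^ a * g := by
    obtain ⟨i, j, hi⟩ := card_eq_of_primes (r := r) (n := (P : Subgroup H).index)
      Subgroup.index_ne_zero_of_finite
      fun p hp hd => A.primes_ct hp (hd.trans (Subgroup.index_dvd_card _))
    obtain rfl : j = 0 := by
      by_contra hj
      exact P.not_dvd_index (hi ▸ dvd_mul_of_dvd_right (dvd_pow_self r hj) _)
    exact ⟨i, by rw [← Subgroup.card_mul_index (P : Subgroup H), hi, pow_zero, mul_one, mul_comm]⟩
  obtain ⟨l, hl⟩ : ∃ l, Nat.card D = 2 ^ l * g := by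
    obtain ⟨k, hk⟩ := hgD
    rw [ha, hk, mul_comm (2 ^ a) g] at hDH
    obtain ⟨l, -, hl⟩ := (Nat.dvd_prime_pow Nat.prime_two).1
      (Nat.dvd_of_mul_dvd_mul_left Nat.card_pos hDH)
    exact ⟨l, by rw [hk, hl, mul_comm]⟩
  have hl1 : 1 ≤ l := by
    by_contra h0
    obtain rfl : l = 0 := by omega
    rw [pow_zero, one_mul] at hl
    have h2 : 2 ∣ g := hl ▸ A.five.ord_t ▸ Subgroup.orderOf_dvd_natCard D A.tx_mem
    have := A.r_odd
    rcases hcard with e | ⟨-, e⟩ <;> omega
  obtain ⟨d, hd⟩ : ∃ d, Nat.card {s : centralizer ({x} : Set G) // orderOf (s : G) = 2} = r ^ d := by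
    obtain ⟨i, j, hi⟩ := card_eq_of_primes (r := r)
      (n := Nat.card {s : centralizer ({x} : Set G) // orderOf (s : G) = 2})
      (fun e => by have := A.odd_invol; rw [e] at this; simp at this)
      fun p hp hd => A.primes_cx hp (hd.trans ⟨_, A.card_invol.symm⟩)
    obtain rfl : i = 0 := by
      by_contra hi0
      have := A.odd_invol
      rw [hi, Nat.odd_mul] at this
      exact (Nat.not_even_iff_odd.2 this.1) ((Nat.even_pow' hi0).2 even_two)
    exact ⟨j, by rw [hi, pow_zero, one_mul]⟩
  refine ⟨a, l, g, d, hl1, hcard, ha, hl, hd, ?_⟩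
  rw [← A.card_invol, hd, hl]

/-- All elements of order `4` of `C(x)` are conjugate there, if there is one. -/
theorem four_conj {f f' : G} (hf : orderOf f = 4) (hf' : orderOf f' = 4) (hc : f * x = x * f)
    (hc' : f' * x = x * f') : ∃ g : G, g * x = x * g ∧ g * f * g⁻¹ = f' := by
  have hgood : ∀ h : G, orderOf h = 4 → h * x = x * h → Good M (h * x) ∧ orderOf (h * x) = 4 * r :=
    fun h hh hhx => by
      have h1 : h ≠ 1 := fun e => by rw [e, orderOf_one] at hh; omega
      exact ⟨A.good_prod2 hh A.ord_x (A.five.good_of_comm A.good_x hhx h1) A.good_x hhx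
        A.four_coprime (by norm_num), A.ord_prod hh A.ord_x hhx A.four_coprime⟩
  have h2r := A.ord_prod A.five.ord_t A.ord_x A.comm.symm A.two_coprime
  have h3 := A.three_le
  have hro := A.r_odd
  obtain ⟨g1, o1⟩ := hgood f hf hc
  obtain ⟨g2, o2⟩ := hgood f' hf' hc'
  have hf1 : f ≠ 1 := fun e => by rw [e, orderOf_one] at hf; omega
  have hconj : IsConj (f * x) (f' * x) := by
    by_contra hn
    refine A.five.no_six ![t, f, x, t * x, f * x, f' * x] ?_ ?_
    · intro i
      fin_cases i
      · exact A.five.good_t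
      · exact A.five.good_of_comm A.good_x hc hf1
      · exact A.good_x
      · exact A.good_prod A.five.good_t A.good_x A.comm.symm fun e => by
          rw [e, orderOf_one] at h2r; omega
      · exact g1
      · exact g2
    · intro i j hij h
      have := orderOf_isConj h
      fin_cases i <;> fin_cases j <;> (try simp at hij) <;> (try simp at this) <;>
        (try simp only [A.five.ord_t, hf, A.ord_x, h2r, o1, o2] at this) <;>
        first
        | omega
        | exact hn h
  -- the power map recovers both factors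
  obtain ⟨g, hg⟩ := isConj_iff.1 hconj
  obtain ⟨e, he4, her⟩ : ∃ e : ℕ, e ≡ 0 [MOD 4] ∧ e ≡ 1 [MOD r] :=
    ⟨_, (Nat.chineseRemainder A.four_coprime 0 1).2⟩
  have key : ∀ h : G, orderOf h = 4 → h * x = x * h → (h * x) ^ e = x := fun h hh hhx => by
    rw [(show Commute h x from hhx).mul_pow, ← pow_mod_orderOf h e, ← pow_mod_orderOf x e, hh,
      A.ord_x, he4, her]
    simp [Nat.mod_eq_of_lt A.hr.one_lt]
  have hgx : g * x * g⁻¹ = x := by
    have e1 := key f' hf' hc'
    rwa [← hg, conj_pow, key f hf hc] at e1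
  refine ⟨g, mul_inv_eq_iff_eq_mul.1 hgx, ?_⟩
  calc g * f * g⁻¹ = g * (f * x) * g⁻¹ * (g * x * g⁻¹)⁻¹ := by group
    _ = f' := by rw [hg, hgx, mul_inv_cancel_right]

theorem no_eight {z : G} (hz : orderOf z = 8) (hc : z * x = x * z) : False := by
  have h1 : z ≠ 1 := fun e => by rw [e, orderOf_one] at hz; omega
  have hg := A.five.good_of_comm A.good_x hc h1
  have hco : Nat.Coprime 8 r := by
    rw [show 8 = 2 ^ 3 from rfl]; exact A.two_coprime.pow_left 3
  have ho := A.ord_prod hz A.ord_x hc hco
  have h3 := A.three_le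
  have hro := A.r_odd
  refine A.two_extra hg (A.good_prod2 hz A.ord_x hg A.good_x hc hco (by norm_num)) ?_ ?_ ?_ <;>
    rw [hz] at * <;> rw [ho] at * <;> omega

/-- A 2-element of `C(x)` has square of order at most `2`. -/
theorem pow_four {z : G} {k : ℕ} (hz : orderOf z = 2 ^ k) (hc : z * x = x * z) : k ≤ 2 := by
  by_contra hlt
  have h8 : 8 ∣ orderOf z := hz ▸ (show 2 ^ 3 ∣ 2 ^ k from pow_dvd_pow 2 (by omega))
  exact A.no_eight (orderOf_pow_orderOf_div (orderOf_pos z).ne' h8)
    (((show Commute z x from hc).pow_left _).eq)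

/-- An element of odd prime order off `2` and `r` in a group with few classes. -/
theorem extra {p : ℕ} (hp : p.Prime) (hp2 : p ≠ 2) (hpr : p ≠ r) (hpM : ¬ p ∣ M) {u : G}
    (hu : orderOf u = p) :
    Good M u ∧ (∀ v : G, orderOf v = p → IsConj u v) ∧
      (∀ v : G, v * u = u * v → v ≠ 1 → orderOf v = p) ∧
      ∀ f : G, f * x = x * f → orderOf f ≠ 4 := by
  obtain ⟨f4, hf4, hf4g⟩ := A.five.good_four
  have h2r := A.ord_prod A.five.ord_t A.ord_x A.comm.symm A.two_coprime
  have h3 := A.three_le
  have hro := A.r_odd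
  have hp3 : 3 ≤ p := by have := hp.two_le; omega
  have hpo : p % 2 = 1 := hp.eq_two_or_odd.resolve_left hp2
  have gd : ∀ v : G, orderOf v = p → Good M v := fun v hv =>
    ⟨fun e => by rw [e, orderOf_one] at hv; omega, by rw [hv]; exact hp.coprime_iff_not_dvd.2 hpM⟩
  have six : ∀ z : G, Good M z → ¬ IsConj u z → orderOf z ≠ 2 → orderOf z ≠ 4 → orderOf z ≠ r →
      orderOf z ≠ 2 * r → False := by
    intro z hz hn a1 a2 a3 a4
    refine A.five.no_six ![t, f4, x, t * x, u, z] ?_ ?_
    · intro i
      fin_cases i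
      · exact A.five.good_t
      · exact hf4g
      · exact A.good_x
      · exact A.good_prod A.five.good_t A.good_x A.comm.symm fun e => by
          rw [e, orderOf_one] at h2r; omega
      · exact gd u hu
      · exact hz
    · intro i j hij h
      have := orderOf_isConj h
      fin_cases i <;> fin_cases j <;> (try simp at hij) <;> (try simp at this) <;>
        (try simp only [A.five.ord_t, hf4, A.ord_x, h2r, hu] at this) <;>
        first
        | omega
        | exact hn h
  have hp4 : p ≠ 4 := fun e => by omega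
  have hp2r : p ≠ 2 * r := fun e => by omega
  refine ⟨gd u hu, fun v hv => ?_, fun v hv hv1 => ?_, fun f hf hf4' => ?_⟩
  · by_contra hn
    exact six v (gd v hv) hn (by omega) (by omega) (by omega) (by omega)
  · have hvg := A.five.good_of_comm (gd u hu) hv hv1
    have hprime : ∀ q : ℕ, q.Prime → q ∣ orderOf v → q = p := by
      intro q hq hd
      by_contra hqp
      set w := v ^ (orderOf v / q)
      have hw : orderOf w = q := orderOf_pow_orderOf_div (orderOf_pos v).ne' hd
      have hwc : w * u = u * w := ((show Commute v u from hv).pow_left _).eq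
      have ho := A.ord_prod hw hu hwc ((Nat.coprime_primes hq hp).2 hqp)
      have hw1 : w ≠ 1 := fun e => by rw [e, orderOf_one] at hw; exact hq.one_lt.ne hw
      have hgw := A.five.good_of_comm (gd u hu) hwc hw1
      have hq2 := hq.two_le
      refine six (w * u) (A.good_prod2 hw hu hgw (gd u hu) hwc
        ((Nat.coprime_primes hq hp).2 hqp) hq.one_lt) (fun h => ?_) ?_ ?_ ?_ ?_
      · have := orderOf_isConj h
        rw [hu, ho] at this
        nlinarith
      · rw [ho]; nlinarith
      · rw [ho]; nlinarith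
      · rw [ho]
        intro e
        exact hpr ((Nat.prime_dvd_prime_iff_eq hp A.hr).1 (e ▸ dvd_mul_left p q))
      · rw [ho]
        intro e
        have : p ∣ 2 * r := e ▸ dvd_mul_left p q
        rcases hp.dvd_mul.1 this with h | h
        · exact hp2 ((Nat.prime_dvd_prime_iff_eq hp Nat.prime_two).1 h)
        · exact hpr ((Nat.prime_dvd_prime_iff_eq hp A.hr).1 h)
    obtain ⟨k, hk⟩ : ∃ k, orderOf v = p ^ k :=
      ⟨_, Nat.eq_prime_pow_of_unique_prime_dvd (orderOf_pos v).ne' fun {q} hq hd => hprime q hq hd⟩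
    rcases k with _ | _ | k
    · exact absurd (orderOf_eq_one_iff.1 (by rw [hk, pow_zero])) hv1
    · rw [hk, pow_one]
    · exfalso
      have h9 : 3 * p ≤ orderOf v := by
        rw [hk]
        calc 3 * p ≤ p ^ 2 := by nlinarith
          _ ≤ _ := Nat.pow_le_pow_right hp.pos (by omega)
      have hodd : orderOf v % 2 = 1 := by rw [hk, Nat.pow_mod, hpo]; simp
      refine six v hvg (fun h => ?_) (by omega) (by omega) (fun e => ?_) (by omega)
      · have := orderOf_isConj h; omega
      · exact hpr ((Nat.prime_dvd_prime_iff_eq hp A.hr).1 (e ▸ hk ▸ dvd_pow_self p (by omega)))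
  · have ho := A.ord_prod hf4' A.ord_x hf A.four_coprime
    have h1 : f ≠ 1 := fun e => by rw [e, orderOf_one] at hf4'; omega
    refine six (f * x) (A.good_prod2 hf4' A.ord_x (A.five.good_of_comm A.good_x hf h1) A.good_x hf
      A.four_coprime (by norm_num)) (fun h => ?_) (by omega) (by omega) (by omega) (by omega)
    have := orderOf_isConj h
    omega

end At

end CfsgLib.ThreeCC
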