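import Cfsg.Agent.ThreeCC.Struct

/-!
The 2-part of the centraliser of `tx` when the index of `C(t)` is not as small as possible.
-/

set_option autoImplicit false
set_option linter.unusedSectionVars false
set_option linter.style.haveILetI false

namespace CfsgLib.ThreeCC

open Subgroup

universe u

/-- A 2-element of a group with Sylow 2-subgroups of order 2 and a central involution. -/
theorem mem_zpowers_of_central {H : Type u} [Group H] [Finite H] [Fact (Nat.Prime 2)] {z v : H}
    (hz : orderOf z = 2) (hc : ∀ g : H, g * z = z * g) (hcard : ∀ Q : Sylow 2 H, Nat.card Q = 2)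
    {k : ℕ} (hv : orderOf v = 2 ^ k) : v ∈ zpowers z := by
  obtain ⟨Q, hQ⟩ := (IsPGroup.of_card (p := 2) (n := k) (by rw [Nat.card_zpowers, hv]) :
    IsPGroup 2 (zpowers v)).exists_le_sylow
  haveI : (zpowers z).Normal := ⟨fun a ha g => by
    obtain ⟨i, rfl⟩ := mem_zpowers_iff.1 ha
    rw [((show Commute g z from hc g).zpow_right i).eq, mul_inv_cancel_right]
    exact zpow_mem (mem_zpowers z) i⟩
  have hsup : IsPGroup 2 ((Q : Subgroup H) ⊔ zpowers z : Subgroup H) :=
    Q.isPGroup'.to_sup_of_normal_right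
      (IsPGroup.of_card (p := 2) (n := 1) (by rw [Nat.card_zpowers, hz, pow_one]))
  have heq := Q.is_maximal' hsup le_sup_left
  have : zpowers z = (Q : Subgroup H) := Subgroup.eq_of_le_of_card_ge (heq ▸ le_sup_right)
    (by rw [Nat.card_zpowers, hz]; exact (hcard Q).le)
  exact this ▸ hQ (mem_zpowers v)

variable {G : Type u} [Group G] [Finite G]

namespace At

variable {M : ℕ} {t : G} {r : ℕ} {x : G} (A : At M t r x)
include A

/-- An abelian group on the involutions of `C(x)`, when they commute. -/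
theorem exists_elem_group
    (hcomm : ∀ u v : G, orderOf u = 2 → orderOf v = 2 → u * x = x * u → v * x = x * v →
      u * v = v * u) :
    ∃ E : Subgroup (centralizer ({x} : Set G)), E.Normal ∧
      (∀ v, v ∈ E ↔ v * v = 1) ∧
      Nat.card E = Nat.card {s : centralizer ({x} : Set G) // orderOf (s : G) = 2} + 1 := by
  classical
  set X := centralizer ({x} : Set G)
  have memX : ∀ g : X, (g : G) * x = x * g := fun g => mem_centralizer_singleton_iff.1 g.2
  have key : ∀ v : X, v * v = 1 ↔ v = 1 ∨ orderOf (v : G) = 2 := by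
    intro v
    rw [Subgroup.orderOf_coe, orderOf_eq_prime_iff, pow_two]
    constructor
    · intro h; by_cases h1 : v = 1
      · exact Or.inl h1
      · exact Or.inr ⟨h, h1⟩
    · rintro (rfl | ⟨h, -⟩)
      · simp
      · exact h
  refine ⟨{ carrier := {v | v * v = 1}, one_mem' := by simp, mul_mem' := ?_, inv_mem' := ?_ },
    ⟨?_⟩, fun v => Iff.rfl, ?_⟩
  · intro a b (ha : a * a = 1) (hb : b * b = 1)
    show a * b * (a * b) = 1
    have hab : a * b = b * a := by
      rcases (key a).1 ha with rfl | ha'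
      · simp
      rcases (key b).1 hb with rfl | hb'
      · simp
      exact Subtype.ext (hcomm a b ha' hb' (memX a) (memX b))
    calc a * b * (a * b) = a * (b * a) * b := by group
      _ = (a * a) * (b * b) := by rw [← hab]; group
      _ = 1 := by rw [ha, hb, one_mul]
  · intro a (ha : a * a = 1)
    show a⁻¹ * a⁻¹ = 1
    rw [← mul_inv_rev, ha, inv_one]
  · intro v (hv : v * v = 1) g
    show g * v * g⁻¹ * (g * v * g⁻¹) = 1
    calc g * v * g⁻¹ * (g * v * g⁻¹) = g * (v * v) * g⁻¹ := by group
      _ = 1 := by rw [hv, mul_one, mul_inv_cancel]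
  · haveI := Fintype.ofFinite X
    show Nat.card {v : X // v * v = 1} = _
    rw [Nat.card_eq_fintype_card, Nat.card_eq_fintype_card, Fintype.card_subtype, Fintype.card_subtype]
    rw [← Finset.card_insert_of_notMem (a := (1 : X))
      (s := Finset.univ.filter fun s : X => orderOf (s : G) = 2) (by simp)]
    refine congrArg Finset.card ?_
    ext v
    simp only [Finset.mem_filter, Finset.mem_univ, true_and, Finset.mem_insert]
    exact key v

/-- No element of order `4` in `C(x)` over a four-group of involutions. -/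
theorem no_four_klein
    (hcomm : ∀ u v : G, orderOf u = 2 → orderOf v = 2 → u * x = x * u → v * x = x * v →
      u * v = v * u)
    (h3 : Nat.card {s : centralizer ({x} : Set G) // orderOf (s : G) = 2} = 3)
    {f : G} (hf : orderOf f = 4) : f * x ≠ x * f := by
  classical
  intro hfx
  obtain ⟨a, l, g, d, hl1, hg, -, hD, hd, hX⟩ := A.orders
  set X := centralizer ({x} : Set G)
  obtain ⟨E, hEn, hE, hEc⟩ := A.exists_elem_group hcomm
  rw [h3] at hEc
  haveI := hEn
  have memX : ∀ g : X, (g : G) * x = x * g := fun g => mem_centralizer_singleton_iff.1 g.2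
  set f' : X := ⟨f, mem_centralizer_singleton_iff.2 hfx⟩ with hf'
  have of' : orderOf f' = 4 := by rw [hf', Subgroup.orderOf_mk, hf]
  have hff : f' * f' ∈ E := by
    rw [hE, ← pow_two, ← pow_two, ← pow_mul, ← pow_orderOf_eq_one f', of']
  have hfE : f' ∉ E := fun h => by
    have := orderOf_le_of_pow_eq_one (show 0 < 2 by norm_num) (show f' ^ 2 = 1 by rw [pow_two]; exact (hE _).1 h)
    omega
  have hEcomm : ∀ u ∈ E, ∀ v ∈ E, u * v = v * u := fun u hu v hv =>
    congrArg Subtype.val (abelian_of_exp_two (H := E) (fun w => Subtype.ext ((hE _).1 w.2))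
      ⟨u, hu⟩ ⟨v, hv⟩)
  have hcen : ∀ v ∈ E, f' * v = v * f' := by
    intro v hv
    by_contra hne
    set w := f' * v * f'⁻¹
    have hw : w ∈ E := hEn.conj_mem v hv f'
    have hv1 : v ≠ 1 := fun e => hne (by rw [e]; simp)
    have hwv : w ≠ v := fun e => hne (mul_inv_eq_iff_eq_mul.1 e)
    have hw1 : w ≠ 1 := fun e => hv1 (by simpa [w] using e)
    have hz1 : f' * f' ≠ 1 := fun e => hfE ((hE _).2 e)
    have hzv : f' * f' ≠ v := fun e => hne (by rw [← e]; group)
    have hzw : f' * f' ≠ w := fun e => hzv (by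
      calc f' * f' = f'⁻¹ * (f' * f') * f' := by group
        _ = v := by rw [e]; simp only [w]; group)
    have hprod : w = f' * f' * v := by
      by_contra hne5
      have hm : f' * f' * v ∈ E := mul_mem hff hv
      have hm1 : f' * f' * v ≠ 1 := fun e => hzv (by
        calc f' * f' = f' * f' * (v * v) := by rw [(hE v).1 hv, mul_one]
          _ = v := by rw [← mul_assoc, e, one_mul])
      have hmv : f' * f' * v ≠ v := fun e => hz1 (mul_eq_right.1 e)
      have hmz : f' * f' * v ≠ f' * f' := fun e => hv1 (mul_eq_left.1 e)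
      haveI := Fintype.ofFinite E
      have h5 := Finset.card_le_univ ({⟨1, one_mem E⟩, ⟨f' * f', hff⟩, ⟨v, hv⟩, ⟨w, hw⟩,
        ⟨f' * f' * v, hm⟩} : Finset E)
      rw [← Nat.card_eq_fintype_card, hEc] at h5
      have e1 : (1 : X) ≠ f' * f' := Ne.symm hz1
      have e2 : (1 : X) ≠ v := Ne.symm hv1
      have e3 : (1 : X) ≠ w := Ne.symm hw1
      have e4 : (1 : X) ≠ f' * f' * v := Ne.symm hm1
      rw [Finset.card_insert_of_notMem (by
          simp only [Finset.mem_insert, Finset.mem_singleton, Subtype.mk.injEq, not_or]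
          exact ⟨e1, e2, e3, e4⟩),
        Finset.card_insert_of_notMem (by
          simp only [Finset.mem_insert, Finset.mem_singleton, Subtype.mk.injEq, not_or]
          exact ⟨hzv, hzw, Ne.symm hmz⟩),
        Finset.card_insert_of_notMem (by
          simp only [Finset.mem_insert, Finset.mem_singleton, Subtype.mk.injEq, not_or]
          exact ⟨hwv.symm, hmv.symm⟩),
        Finset.card_insert_of_notMem (by
          simp only [Finset.mem_singleton, Subtype.mk.injEq]
          exact hne5), Finset.card_singleton] at h5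
      omega
    refine hfE ?_
    have hsq : (f' * v) * (f' * v) = 1 := by
      calc (f' * v) * (f' * v) = w * (f' * f') * v := by simp only [w]; group
        _ = (f' * f' * (f' * f')) * (v * v) := by
            rw [hprod, show f' * f' * v * (f' * f') = f' * f' * (v * (f' * f')) by group,
              hEcomm v hv _ hff]
            group
        _ = 1 := by rw [(hE _).1 hff, (hE _).1 hv, one_mul]
    have := mul_mem ((hE _).2 hsq) hv
    rwa [mul_assoc, (hE v).1 hv, mul_one] at this
  -- the class of `f'`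
  haveI := Fintype.ofFinite X
  have hclass : ∀ z : X, IsConj f' z ↔ orderOf z = 4 := by
    intro z
    refine ⟨fun h => by rw [← orderOf_isConj h, of'], fun hz => ?_⟩
    obtain ⟨g, hg, he⟩ := A.four_conj hf (f' := (z : G)) (by rw [Subgroup.orderOf_coe, hz]) hfx (memX z)
    exact isConj_iff.2 ⟨⟨g, mem_centralizer_singleton_iff.2 hg⟩, Subtype.ext he⟩
  obtain ⟨T, hT⟩ := (IsPGroup.of_card (p := 2) (n := 2) (by rw [Nat.card_zpowers, of']; rfl) :
    IsPGroup 2 (zpowers f')).exists_le_sylow (G := X)
  haveI : Fact (Nat.Prime 2) := ⟨Nat.prime_two⟩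
  have hET : E ≤ (T : Subgroup X) := by
    have hp : IsPGroup 2 E := IsPGroup.of_card (p := 2) (n := 2) (by rw [hEc]; norm_num)
    exact (T.is_maximal' (T.isPGroup'.to_sup_of_normal_right hp) le_sup_left) ▸ le_sup_right
  have hTf : f' ∈ (T : Subgroup X) := hT (mem_zpowers _)
  have hTelt : ∀ z ∈ (T : Subgroup X), z ∉ E → orderOf z = 4 := by
    intro z hz hzE
    obtain ⟨k, hk⟩ := IsPGroup.iff_orderOf.1 T.isPGroup' ⟨z, hz⟩
    rw [Subgroup.orderOf_mk] at hk
    have := A.pow_four (z := (z : G)) (k := k) (by rw [Subgroup.orderOf_coe, hk]) (memX z)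
    interval_cases k
    · exact absurd (by rw [orderOf_eq_one_iff.1 (by simpa using hk : orderOf z = 1)]; exact one_mem E) hzE
    · refine absurd ((hE z).2 ?_) hzE
      rw [← pow_two, ← orderOf_dvd_iff_pow_eq_one, hk, pow_one]
    · simpa using hk
  -- the quotient by `E`
  let π : X →* X ⧸ E := QuotientGroup.mk' E
  have hπ : Function.Surjective π := QuotientGroup.mk'_surjective E
  set Tb : Sylow 2 (X ⧸ E) := T.mapSurjective hπ with hTb
  have hTbm : ∀ w, w ∈ (Tb : Subgroup (X ⧸ E)) ↔ ∃ z ∈ (T : Subgroup X), π z = w := by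
    intro w; simp [hTb, Sylow.mapSurjective, Subgroup.mem_map]
  have hexp : ∀ w ∈ (Tb : Subgroup (X ⧸ E)), w * w = 1 := by
    intro w hw
    obtain ⟨z, hz, rfl⟩ := (hTbm w).1 hw
    rw [← map_mul, QuotientGroup.mk'_apply, QuotientGroup.eq_one_iff, hE]
    by_cases hzE : z ∈ E
    · rw [(hE z).1 hzE, one_mul]
    · rw [← pow_two, ← pow_two, ← pow_mul, ← pow_orderOf_eq_one z, hTelt z hz hzE]
  have hab : ∀ u ∈ (Tb : Subgroup (X ⧸ E)), ∀ v ∈ (Tb : Subgroup (X ⧸ E)), u * v = v * u :=
    fun u hu v hv => congrArg Subtype.val (abelian_of_exp_two (H := (Tb : Subgroup (X ⧸ E)))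
      (fun w => Subtype.ext (hexp w w.2)) ⟨u, hu⟩ ⟨v, hv⟩)
  have hfb : π f' ∈ (Tb : Subgroup (X ⧸ E)) := (hTbm _).2 ⟨f', hTf, rfl⟩
  have hfb1 : π f' ≠ 1 := fun e => hfE ((QuotientGroup.eq_one_iff f').1 e)
  haveI := Fintype.ofFinite (X ⧸ E)
  have hcard : Nat.card {w : X ⧸ E // w ∈ (Tb : Subgroup (X ⧸ E)) ∧ IsConj (π f') w} + 1 =
      Nat.card (Tb : Subgroup (X ⧸ E)) := by
    rw [Nat.card_eq_fintype_card, Nat.card_eq_fintype_card, Fintype.card_subtype, Fintype.card_subtype]
    rw [← Finset.card_insert_of_notMem (a := (1 : X ⧸ E)) (by simp [hfb1])]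
    refine congrArg Finset.card ?_
    ext w
    simp only [Finset.mem_filter, Finset.mem_univ, true_and, Finset.mem_insert]
    refine ⟨?_, fun hw => ?_⟩
    · rintro (rfl | ⟨h, -⟩)
      exacts [one_mem _, h]
    · by_cases h1 : w = 1
      · exact Or.inl h1
      obtain ⟨z, hz, rfl⟩ := (hTbm w).1 hw
      have hzE : z ∉ E := fun h => h1 ((QuotientGroup.eq_one_iff z).2 h)
      exact Or.inr ⟨hw, MonoidHom.map_isConj π ((hclass z).2 (hTelt z hz hzE))⟩
  have hodd := Grp.orbit_dvd Tb hab hfb
  set n := Nat.card {w : X ⧸ E // w ∈ (Tb : Subgroup (X ⧸ E)) ∧ IsConj (π f') w}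
  have hn0 : n ≠ 0 := by
    haveI : Nonempty {w : X ⧸ E // w ∈ (Tb : Subgroup (X ⧸ E)) ∧ IsConj (π f') w} :=
      ⟨⟨_, hfb, IsConj.refl _⟩⟩
    exact Nat.card_pos.ne'
  have hr3 : r = 3 := by
    rw [h3] at hd
    rcases A.r_mem with e | e
    · exact e
    · rw [e] at hd
      rcases d with _ | d
      · norm_num at hd
      · have : 5 ∣ 5 ^ (d + 1) := dvd_pow_self 5 (by omega)
        omega
  obtain ⟨i, j, hij⟩ := card_eq_of_primes (r := r) hn0 fun p hp hdp => by
    refine A.primes_cx hp ((hdp.trans hodd).trans ((Subgroup.index_dvd_card _).trans ?_))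
    rw [← Subgroup.index_eq_card]
    exact Subgroup.index_dvd_card E
  obtain rfl : i = 0 := by
    by_contra hi0
    exact Tb.not_dvd_index (((hij ▸ dvd_mul_of_dvd_left (dvd_pow_self 2 hi0) _) : 2 ∣ n).trans hodd)
  obtain ⟨k, hk⟩ := Tb.isPGroup'.exists_card_eq
  rw [hk, hij, pow_zero, one_mul] at hcard
  have hk2 : k ≤ 2 := by
    rcases pow_add_one (Or.inl hr3 : r = 3 ∨ r = 5) hcard with ⟨-, e⟩ | ⟨-, -, e⟩ <;> omega
  have hTcard : Nat.card (T : Subgroup X) = 4 * 2 ^ k := by
    have h1 := Subgroup.relIndex_mul_index hET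
    have h2 := Subgroup.card_mul_index (T : Subgroup X)
    have h3 := Subgroup.card_mul_index E
    have h4 : (Tb : Subgroup (X ⧸ E)) = (T : Subgroup X).map π := rfl
    have h5 := Subgroup.index_map_eq (H := (T : Subgroup X)) hπ (by rw [QuotientGroup.ker_mk']; exact hET)
    have h6 := Subgroup.card_mul_index (Tb : Subgroup (X ⧸ E))
    rw [hk, h4, h5, ← Subgroup.index_eq_card] at h6
    rw [← h6, hEc, ← h2] at h3
    exact Nat.eq_of_mul_eq_mul_right (Nat.pos_of_ne_zero Subgroup.index_ne_zero_of_finite)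
      (by rw [← h3]; ring)
  -- the class is a union of cosets of `E`
  have hmem : ∀ z : X, IsConj f' z → ∀ e ∈ E, IsConj f' (z * e) := by
    intro z hz e he
    obtain ⟨g, hg⟩ := isConj_iff.1 hz
    have hce : z * e = e * z := by
      have h1 := hcen _ (hEn.conj_mem e he g⁻¹)
      rw [inv_inv] at h1
      calc z * e = g * (f' * (g⁻¹ * e * g)) * g⁻¹ := by rw [← hg]; group
        _ = g * (g⁻¹ * e * g * f') * g⁻¹ := by rw [h1]
        _ = e * z := by rw [← hg]; group
    have oz : orderOf z = 4 := (hclass z).1 hz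
    rw [hclass]
    refine orderOf_eq_prime_pow (p := 2) (n := 1) ?_ ?_
    · rw [pow_one, (show Commute z e from hce).mul_pow, pow_two e, (hE e).1 he, mul_one]
      exact fun h => by
        have := orderOf_le_of_pow_eq_one (by norm_num) h
        omega
    · rw [(show Commute z e from hce).mul_pow, ← oz.trans (show 4 = 2 ^ (1 + 1) by norm_num),
        pow_orderOf_eq_one, one_mul, oz, show e ^ 4 = (e * e) * (e * e) by rw [← pow_two e, ← pow_add], (hE e).1 he, one_mul]
  set K := Nat.card {z : X // IsConj f' z}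
  have h4K : 4 ∣ K := by
    let Q := {w : X ⧸ E // ∃ z : X, IsConj f' z ∧ π z = w}
    have : K = Nat.card Q * Nat.card E := by
      rw [← Nat.card_prod]
      refine Nat.card_congr (Equiv.symm (Equiv.ofBijective
        (fun p : Q × E => (⟨p.1.2.choose * p.2, hmem _ p.1.2.choose_spec.1 _ p.2.2⟩ :
          {z : X // IsConj f' z})) ⟨?_, ?_⟩))
      · rintro ⟨q, e⟩ ⟨q', e'⟩ h
        have h' : q.2.choose * (e : X) = q'.2.choose * e' := congrArg Subtype.val h
        have hq : q = q' := by
          apply Subtype.ext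
          rw [← q.2.choose_spec.2, ← q'.2.choose_spec.2]
          have := congrArg π h'
          rwa [map_mul, map_mul, show π (e : X) = 1 from (QuotientGroup.eq_one_iff (e : X)).2 e.2,
            show π (e' : X) = 1 from (QuotientGroup.eq_one_iff (e' : X)).2 e'.2, mul_one, mul_one]
            at this
        subst hq
        exact Prod.ext rfl (Subtype.ext (mul_left_cancel h'))
      · rintro ⟨z, hz⟩
        have hq : ∃ z' : X, IsConj f' z' ∧ π z' = π z := ⟨z, hz, rfl⟩
        have he : hq.choose⁻¹ * z ∈ E :=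
          QuotientGroup.eq.1 hq.choose_spec.2
        exact ⟨(⟨π z, hq⟩, ⟨_, he⟩), Subtype.ext (mul_inv_cancel_left hq.choose z)⟩
    rw [this, hEc]; exact dvd_mul_left _ _
  have h8 : 8 ∣ Nat.card (centralizer ({f'} : Set X)) := by
    have hle : E ≤ centralizer ({f'} : Set X) := fun v hv =>
      mem_centralizer_singleton_iff.2 (hcen v hv).symm
    have hlt : Nat.card (E ⊔ zpowers f' : Subgroup X) ∣ Nat.card (centralizer ({f'} : Set X)) :=
      Subgroup.card_dvd_of_le (sup_le hle (zpowers_le.2 (mem_centralizer_singleton_iff.2 rfl)))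
    refine dvd_trans ?_ hlt
    have hp : IsPGroup 2 (E ⊔ zpowers f' : Subgroup X) :=
      T.isPGroup'.to_le (sup_le hET (zpowers_le.2 hTf))
    obtain ⟨i, hi⟩ := hp.exists_card_eq
    have h1 : Nat.card E < Nat.card (E ⊔ zpowers f' : Subgroup X) := by
      by_contra hlt
      have := Subgroup.eq_of_le_of_card_ge (le_sup_left : E ≤ E ⊔ zpowers f') (le_of_not_gt hlt)
      exact hfE (this ▸ (le_sup_right (a := E)) (mem_zpowers f'))
    replace h1 := lt_of_lt_of_eq h1 hi
    rw [hEc] at h1
    rw [hi]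
    have : 3 ≤ i := by
      by_contra hlt
      have := Nat.pow_le_pow_right (show 0 < 2 by norm_num) (show i ≤ 2 by omega)
      omega
    exact (show 2 ^ 3 ∣ 2 ^ i from pow_dvd_pow 2 this)
  have h32 : 32 ∣ Nat.card X := by
    have := CfsgLib.Char.card_conj_class_mul_card_centralizer f'
    rw [← this]
    exact Nat.mul_dvd_mul h4K h8
  have h32T : 2 ^ 5 ∣ Nat.card (T : Subgroup X) :=
    (T.pow_dvd_card_of_pow_dvd_card (by simpa using h32))
  rw [hTcard] at h32T
  have := Nat.le_of_dvd (by positivity) h32T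
  have := Nat.pow_le_pow_right (show 0 < 2 by norm_num) hk2
  omega

end At

end CfsgLib.ThreeCC
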