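import Cfsg.Agent.ThreeCC.Count
import Cfsg.Agent.Char.Galois

/-!
Columns of rational elements without conjugates in the three subgroups, over the integers.
-/

set_option autoImplicit false
set_option linter.unusedSectionVars false
set_option linter.style.haveILetI false

namespace CfsgLib.ThreeCC

open CfsgLib.Char
open scoped ComplexConjugate Classical

universe u

variable {G : Type u} [Group G] [Fintype G]

/-- Integer values of all irreducible characters at `g`. -/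
structure IntAt (g : G) where
  v : (G → ℂ) → ℤ
  spec : ∀ ψ, Cfsg.IsIrrCharacter G ψ → ψ g = (v ψ : ℂ)

theorem exists_intAt {g : G} (h : ∀ i : ℕ, i.Coprime (Nat.card G) → IsConj g (g ^ i)) :
    Nonempty (IntAt g) := by
  have hz : ∀ ψ, Cfsg.IsIrrCharacter G ψ → ∃ z : ℤ, ψ g = z := fun ψ hψ =>
    IsCharacter.exists_int_apply (IsIrrCharacter.isCharacter hψ) fun i hi =>
      (IsClassFunction.apply_eq_of_isConj
        (IsCharacter.isClassFunction (IsIrrCharacter.isCharacter hψ)) (h i hi)).symm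
  exact ⟨⟨fun ψ => if hψ : Cfsg.IsIrrCharacter G ψ then (hz ψ hψ).choose else 0,
    fun ψ hψ => by rw [dif_pos hψ]; exact (hz ψ hψ).choose_spec⟩⟩

namespace Sys

variable {A₁ A₂ A₃ : Subgroup G} (S : Sys A₁ A₂ A₃)

/-- The signed value of the first family. -/
noncomputable def P1 {g : G} (V : IntAt g) : ℤ := S.F1.ε * V.v (S.F1.θ ⟨0, by linarith [S.F1.two_le]⟩)

/-- The signed value of the second family. -/
noncomputable def P2 {g : G} (V : IntAt g) : ℤ := S.F2.ε * V.v (S.F2.θ ⟨0, by linarith [S.F2.two_le]⟩)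

/-- The signed value of the third family. -/
noncomputable def P3 {g : G} (V : IntAt g) : ℤ := S.F3.ε * V.v (S.F3.θ ⟨0, by linarith [S.F3.two_le]⟩)

/-- The sum over the remaining characters, weighted by the constants at `A₂`. -/
noncomputable def W2 {g : G} (V : IntAt g) : ℤ := ∑ ψ ∈ S.R, S.F2.cst ψ * V.v ψ

theorem swap_P1 {g : G} (V : IntAt g) : S.swap.P1 V = S.P1 V := rfl

theorem swap_P2 {g : G} (V : IntAt g) : S.swap.P2 V = S.P3 V := rfl

theorem swap_W2 {g : G} (V : IntAt g) : S.swap.W2 V = ∑ ψ ∈ S.R, S.F3.cst ψ * V.v ψ := by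
  rw [W2, S.swap_R]; rfl

theorem irr_R {ψ : G → ℂ} (h : ψ ∈ S.R) : Cfsg.IsIrrCharacter G ψ := (S.mem_R.1 h).1

theorem v_fam1 {g : G} (hg : ¬ InConj A₁ g) (V : IntAt g) (q : Fin S.F1.m) :
    V.v (S.F1.θ q) = S.F1.ε * S.P1 V := by
  have h1 := S.F1.off q ⟨0, by linarith [S.F1.two_le]⟩ g hg
  rw [V.spec _ (S.F1.irr _), V.spec _ (S.F1.irr _), Int.cast_inj] at h1
  rw [P1, h1, ← mul_assoc]
  rcases S.F1.hε with e | e <;> simp [e]

theorem v_fam2 {g : G} (hg : ¬ InConj A₂ g) (V : IntAt g) (q : Fin S.F2.m) :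
    V.v (S.F2.θ q) = S.F2.ε * S.P2 V := by
  have h1 := S.F2.off q ⟨0, by linarith [S.F2.two_le]⟩ g hg
  rw [V.spec _ (S.F2.irr _), V.spec _ (S.F2.irr _), Int.cast_inj] at h1
  rw [P2, h1, ← mul_assoc]
  rcases S.F2.hε with e | e <;> simp [e]

theorem v_fam3 {g : G} (hg : ¬ InConj A₃ g) (V : IntAt g) (q : Fin S.F3.m) :
    V.v (S.F3.θ q) = S.F3.ε * S.P3 V := S.swap.v_fam2 hg V q

theorem v_χ {g : G} (hg : ¬ InConj A₁ g) (V : IntAt g) : V.v S.χ = S.δ * (S.P1 V - 1) := by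
  have h := S.q1_eq (Or.inl hg)
  rw [q1, Fam.com, V.spec _ (S.F1.irr _), V.spec _ S.χ_irr] at h
  have h' : S.P1 V = 1 + S.δ * V.v S.χ := by
    rw [P1]; exact_mod_cast h
  rw [h']
  rcases S.hδ with e | e <;> rw [e] <;> ring

/-- Second orthogonality at two elements without conjugates in the subgroups. -/
theorem col {g h : G} (hg : Out A₁ A₂ A₃ g) (hh : Out A₁ A₂ A₃ h) (V : IntAt g) (W : IntAt h) :
    1 + (S.P1 V - 1) * (S.P1 W - 1) + S.F1.m * (S.P1 V * S.P1 W) + S.F2.m * (S.P2 V * S.P2 W) +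
      S.F3.m * (S.P3 V * S.P3 W) + ∑ ψ ∈ S.R, V.v ψ * W.v ψ =
      if IsConj g h then (Nat.card (Subgroup.centralizer ({g} : Set G)) : ℤ) else 0 := by
  have h0 := sum_irr_mul_conj g h
  have e : ∀ ψ ∈ irrFinset G, ψ g * conj (ψ h) = ((V.v ψ * W.v ψ : ℤ) : ℂ) := fun ψ hψ => by
    rw [V.spec ψ (mem_irrFinset.1 hψ), W.spec ψ (mem_irrFinset.1 hψ), map_intCast]; push_cast; ring
  rw [Finset.sum_congr rfl e, ← Int.cast_sum, S.sum_irr] at h0
  have hone : V.v (fun _ => (1 : ℂ)) = 1 := by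
    have := V.spec _ (isIrrCharacter_one (G := G))
    exact_mod_cast this.symm
  have hone' : W.v (fun _ => (1 : ℂ)) = 1 := by
    have := W.spec _ (isIrrCharacter_one (G := G))
    exact_mod_cast this.symm
  have sq : ∀ ε a b : ℤ, (ε = 1 ∨ ε = -1) → ε * a * (ε * b) = a * b := fun ε a b he => by
    rcases he with rfl | rfl <;> ring
  simp only [hone, hone', S.v_χ hg.1 V, S.v_χ hh.1 W, S.v_fam1 hg.1 V, S.v_fam1 hh.1 W,
    S.v_fam2 hg.2.1 V, S.v_fam2 hh.2.1 W, S.v_fam3 hg.2.2 V, S.v_fam3 hh.2.2 W,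
    sq _ _ _ S.hδ, sq _ _ _ S.F1.hε, sq _ _ _ S.F2.hε, sq _ _ _ S.F3.hε,
    Finset.sum_const, Finset.card_univ, Fintype.card_fin, nsmul_eq_mul, one_mul] at h0
  split_ifs at h0 ⊢ with hc <;> exact_mod_cast h0

theorem col_self {g : G} (hg : Out A₁ A₂ A₃ g) (V : IntAt g) :
    1 + (S.P1 V - 1) ^ 2 + S.F1.m * S.P1 V ^ 2 + S.F2.m * S.P2 V ^ 2 + S.F3.m * S.P3 V ^ 2 +
      ∑ ψ ∈ S.R, V.v ψ ^ 2 = Nat.card (Subgroup.centralizer ({g} : Set G)) := by
  have h := S.col hg hg V V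
  rw [if_pos (IsConj.refl g)] at h
  simp only [pow_two]
  linear_combination h

/-- The orthogonality relation of the column at `A₂`. -/
theorem orth2_int {g : G} (hg : Out A₁ A₂ A₃ g) (V : IntAt g) :
    1 + (S.qv - 1) * (S.P1 V - 1) + S.qv * (S.F1.m * S.P1 V) +
      S.rv * (S.F3.m * (S.F3.ε * S.P3 V)) + S.W2 V +
      (S.F2.m * S.F2.e - S.F2.ε) * (S.F2.ε * S.P2 V) = 0 := by
  have h := S.orth2 (Or.inl hg.2.1)
  have e1' : ∀ q, (S.F1.ε : ℂ) * S.F1.θ q g = (S.F1.ε : ℂ) * ((S.F1.ε * S.P1 V : ℤ) : ℂ) := fun q => by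
    rw [V.spec _ (S.F1.irr q), S.v_fam1 hg.1 V]
  have e3' : ∀ q, S.F3.θ q g = ((S.F3.ε * S.P3 V : ℤ) : ℂ) := fun q => by
    rw [V.spec _ (S.F3.irr q), S.v_fam3 hg.2.2 V]
  have eR : ∀ ψ ∈ S.R, (S.F2.cst ψ : ℂ) * ψ g = (S.F2.cst ψ : ℂ) * (V.v ψ : ℂ) := fun ψ hψ => by
    rw [V.spec _ (S.irr_R hψ)]
  rw [Fam.com, V.spec _ (S.F2.irr _), S.v_fam2 hg.2.1 V, V.spec _ S.χ_irr, S.v_χ hg.1 V,
    Finset.sum_congr rfl fun q _ => e1' q, Finset.sum_congr rfl fun q _ => e3' q,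
    Finset.sum_congr (s₁ := S.R) rfl eR] at h
  simp only [Finset.sum_const, Finset.card_univ, Fintype.card_fin, nsmul_eq_mul] at h
  apply Int.cast_injective (α := ℂ)
  simp only [W2]
  push_cast at h ⊢
  have e1 : (S.F1.ε : ℂ) * S.F1.ε = 1 := by rcases S.F1.hε with e | e <;> simp [e]
  linear_combination h - ((S.qv : ℂ) - 1) * ((S.P1 V : ℂ) - 1) * S.δ_sq -
    (S.qv : ℂ) * S.F1.m * S.P1 V * e1

end Sys

end CfsgLib.ThreeCC
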